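import Cfsg.Agent.Lib.SubfieldMax.Data
import Cfsg.Agent.Lib.ChevAut.FixedPoints
import Cfsg.Agent.Lib.ChevAut.ParabolicCharP
import Cfsg.Agent.Lib.Lie.BorelTits

/-! Basic consequences of the table facts. -/

set_option autoImplicit false

namespace Cfsg.Agent.SFMax

open Cfsg.Lie Cfsg.Agent.Chev Cfsg.Agent.Chev.Tab Cfsg.Agent.ChevAut

variable {T : Tab} {K : List (List ℕ)} {W : List (ℕ × ℕ × ℕ)} {S : List ℕ} {F : Type*} [Field F]

theorem trm_spec {r s : ℕ} {p : List (ℕ × ℤ × ℕ × ℕ) → Bool} (h : trm T r s p = true) :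
    r < T.n ∧ s < T.n ∧ s ≠ r ∧ s ≠ T.neg r ∧ p (T.cTerms r s) = true := by
  simp only [trm, Bool.and_eq_true, nat_blt, Bool.not_eq_true', nat_beq_false] at h
  exact ⟨h.1.1.1.1, h.1.1.1.2, h.1.1.2, h.1.2, h.2⟩

theorem unit1_cast {C : ℤ} (h : unit1 C = true) : (C : F) * C = 1 := by
  rw [unit1, nat_beq] at h
  rcases Int.natAbs_eq C with e | e <;> rw [e, h] <;> simp

theorem unit1_ne {C : ℤ} (h : unit1 C = true) : (C : F) ≠ 0 := fun e => by
  simpa [e] using unit1_cast (F := F) h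

theorem cast_of_div {d : ℕ} (hd : (d : F) = 0) {C : ℤ} (h : (C % (d : ℤ) == 0) = true) :
    (C : F) = 0 := by
  obtain ⟨e, rfl⟩ := Int.dvd_of_emod_eq_zero (beq_iff_eq.1 h)
  simp [hd]

theorem single_spec {k : ℕ} {L : List (ℕ × ℤ × ℕ × ℕ)} (h : single k L = true) :
    ∃ C, L = [(k, C, 1, 1)] ∧ unit1 C = true := by
  unfold single at h
  split at h
  · simp only [Bool.and_eq_true, nat_beq] at h
    exact ⟨_, by rw [h.1], h.2⟩
  · exact Bool.noConfusion h

theorem doubleSnd_spec {k m : ℕ} {L : List (ℕ × ℤ × ℕ × ℕ)} (h : doubleSnd k m L = true) :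
    ∃ C D, L = [(k, C, 1, 1), (m, D, 1, 2)] ∧ unit1 C = true ∧ unit1 D = true := by
  unfold doubleSnd at h
  split at h
  · simp only [Bool.and_eq_true, nat_beq] at h
    exact ⟨_, _, by rw [h.1.1.1, h.1.2], h.1.1.2, h.2⟩
  · exact Bool.noConfusion h

theorem doubleFst_spec {k m : ℕ} {L : List (ℕ × ℤ × ℕ × ℕ)} (h : doubleFst k m L = true) :
    ∃ C D, L = [(k, C, 1, 1), (m, D, 2, 1)] ∧ unit1 C = true ∧ unit1 D = true := by
  unfold doubleFst at h
  split at h
  · simp only [Bool.and_eq_true, nat_beq] at h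
    exact ⟨_, _, by rw [h.1.1.1, h.1.2], h.1.1.2, h.2⟩
  · exact Bool.noConfusion h

theorem list_nil {α : Type} {L : List α} (h : L.isEmpty = true) : L = [] := List.isEmpty_iff.1 h

/-! ### Commutators -/

theorem conj_terms (g : T.GoodA) {r s : ℕ} (hr : r < T.n) (hs : s < T.n) (h1 : s ≠ r)
    (h2 : s ≠ T.neg r) (t u : F) :
    xg g.toGood r t * xg g.toGood s u * (xg g.toGood r t)⁻¹ = xg g.toGood s u *
      ((T.cTerms r s).map fun c =>
        xg g.toGood c.1 ((c.2.1 : F) * t ^ c.2.2.1 * u ^ c.2.2.2)).prod := by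
  have h := xg_comm g hr hs h1 h2 (-t) u
  have e : ((cVal T F r s (-t) u).map fun e => xg g.toGood e.1 e.2) =
      (T.cTerms r s).map fun c =>
        xg g.toGood c.1 ((c.2.1 : F) * t ^ c.2.2.1 * u ^ c.2.2.2) := by
    simp [cVal, List.map_map, Function.comp_def]
  rw [e, ← xg_inv, mul_assoc, eq_inv_mul_iff_mul_eq, ← mul_assoc] at h
  rw [← h]

theorem commute_of_zero (g : T.GoodA) {r s : ℕ} (hr : r < T.n) (hs : s < T.n) (h1 : s ≠ r)
    (h2 : s ≠ T.neg r) (h : ∀ c ∈ T.cTerms r s, (c.2.1 : F) = 0) (t u : F) :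
    Commute (xg g.toGood r t) (xg g.toGood s u) := by
  have e := conj_terms g hr hs h1 h2 t u
  rw [List.prod_eq_one (fun y hy => by
    obtain ⟨c, hc, rfl⟩ := List.mem_map.1 hy
    rw [h c hc]; simp), mul_one, mul_inv_eq_iff_eq_mul] at e
  exact e

theorem commute_nil (g : T.GoodA) {r s : ℕ} (h : trm T r s List.isEmpty = true) (t u : F) :
    Commute (xg g.toGood r t) (xg g.toGood s u) := by
  obtain ⟨h1, h2, h3, h4, h5⟩ := trm_spec h
  exact commute_of_zero g h1 h2 h3 h4 (fun c hc => by simp [list_nil h5] at hc) t u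

theorem commute_mod (g : T.GoodA) {d r s : ℕ} (hd : (d : F) = 0) (h : commMod T d r s = true)
    (t u : F) : Commute (xg g.toGood r t) (xg g.toGood s u) := by
  rw [commMod, Bool.or_eq_true, nat_beq] at h
  rcases h with rfl | h
  · show _ = _; rw [xg_add, xg_add, add_comm]
  obtain ⟨h1, h2, h3, h4, h5⟩ := trm_spec h
  refine commute_of_zero g h1 h2 h3 h4 (fun c hc => ?_) t u
  exact cast_of_div hd (List.all_eq_true.1 h5 c hc)

theorem commute_self (g : T.Good) (r : ℕ) (t u : F) : Commute (xg g r t) (xg g r u) := by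
  show _ = _; rw [xg_add, xg_add, add_comm]

/-! ### The pairing -/

theorem pr_eq (r s : ℕ) : pr T r s = ∑ j ∈ Finset.range T.l, T.c r j * T.A j s := sumBelow_eq_sum _ _

theorem pr_neg_right (g : T.Good) {r s : ℕ} (hs : s < T.n) : pr T r (T.neg s) = -pr T r s := by
  rw [pr_eq, pr_eq, ← Finset.sum_neg_distrib]
  refine Finset.sum_congr rfl fun j hj => ?_
  rw [((g.sign' hs).1 j (Finset.mem_range.1 hj)).2.2.2]; ring

theorem pr_self (g : T.Good) {r : ℕ} (hr : r < T.n) : pr T r r = 2 := by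
  rw [pr_eq]; exact (g.sign' hr).2.1

theorem pr_smp (g : T.Good) {i : ℕ} (hi : i < T.l) (s : ℕ) : pr T (T.smp i) s = T.A i s := by
  rw [pr_eq, Finset.sum_eq_single i]
  · rw [c_smp g hi hi, if_pos rfl, one_mul]
  · intro j hj hne; rw [c_smp g hi (Finset.mem_range.1 hj), if_neg hne, zero_mul]
  · exact fun h => absurd (Finset.mem_range.2 hi) h

theorem pr_ref (g : T.Good) {i r s : ℕ} (hi : i < T.l) (hr : r < T.n) (hs : s < T.n) :
    pr T (T.ref i r) (T.ref i s) = pr T r s := by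
  have hc : ∀ j ∈ Finset.range T.l, T.c (T.ref i r) j * T.A j (T.ref i s) =
      T.c r j * T.A j s - T.c r j * T.A j (T.smp i) * T.A i s +
        if j = i then pr T r (T.smp i) * T.A i s else 0 := by
    intro j hj
    have hj' := Finset.mem_range.1 hj
    rw [((g.refl' hi hr).2.2.2.2.2.2.2.2 j hj').2, A_ref g hi hj' hs, ← pr_eq]
    by_cases e : j = i
    · subst e; rw [if_pos rfl, if_pos rfl, A_smp_self g hi]; ring
    · rw [if_neg e, if_neg e]; ring
  rw [pr_eq, Finset.sum_congr rfl hc, Finset.sum_add_distrib, Finset.sum_sub_distrib,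
    ← Finset.sum_mul, ← pr_eq, ← pr_eq, Finset.sum_ite_eq', if_pos (Finset.mem_range.2 hi)]
  ring

theorem pr_rw' (g : T.Good) : ∀ {L : List ℕ}, T.Wd L → ∀ {r s : ℕ}, r < T.n → s < T.n →
    pr T (T.rw' L r) (T.rw' L s) = pr T r s
  | [], _, _, _, _, _ => rfl
  | i :: L, h, r, s, hr, hs => by
    obtain ⟨hi, hL⟩ := Wd.cons_iff.1 h
    rw [rw'_cons, rw'_cons, pr_ref g hi (rw'_lt g hL hr) (rw'_lt g hL hs), pr_rw' g hL hr hs]

theorem wt_cor (u : Fˣ) (r s : ℕ) : wt T F (fun j => u ^ T.c r j) s = u ^ pr T r s := by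
  rw [wt, pr_eq]
  induction Finset.range T.l using Finset.induction_on with
  | empty => simp
  | insert a A ha ih => rw [Finset.prod_insert ha, Finset.sum_insert ha, _root_.zpow_add, ih, ← _root_.zpow_mul]

theorem hE_dg (g : T.Good) {r : ℕ} (hr : r < T.n) :
    ∀ u : Fˣ, hE g r (u : F) = dg T F fun s => u ^ pr T r s := by
  refine root_induction g (P := fun r => ∀ u : Fˣ, hE g r (u : F) = dg T F fun s => u ^ pr T r s)
    (fun i hi u => ?_) (fun i hi s hs ih u => ?_) r hr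
  · rw [hE_smp g hi, hS_eq g hi]
    exact dg_congr g fun s _ => by rw [pr_smp g hi]
  · rw [← hE_ref g hi hs, ih, nG_dg g hi]
    refine dg_congr g fun v hv => ?_
    rw [← pr_ref g hi hs (g.ref_lt hi hv), g.ref_ref hi hv]

theorem hE_eq_tor (g : T.Good) {r : ℕ} (hr : r < T.n) (u : Fˣ) :
    hE g r (u : F) = tor T F fun j => u ^ T.c r j := by
  rw [hE_dg g hr, tor_apply]
  exact dg_congr g fun s _ => (wt_cor u r s).symm

theorem hE_xg (g : T.Good) {r s : ℕ} (hr : r < T.n) (hs : s < T.n) (u : Fˣ) (t : F) :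
    hE g r (u : F) * xg g s t * (hE g r (u : F))⁻¹ = xg g s (((u ^ pr T r s : Fˣ) : F) * t) := by
  rw [hE_eq_tor g hr, tor_xg g _ hs, wt_cor]

/-- the fundamental roots of grade zero -/
def J0 (T : Tab) : Set ℕ := {j | j < T.l ∧ grd T (T.smp j) = 0}

section
variable (g : SD T K W S)
include g

theorem top_lt : top T < T.n := by
  have := g.toGood.N_pos; have := n_def (T := T); show T.n - 1 < _; omega

theorem top_ge : T.N ≤ top T := by
  have := g.toGood.N_pos; have := n_def (T := T); show _ ≤ T.n - 1; omega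

theorem n_pos : 0 < T.n := lt_of_le_of_lt (Nat.zero_le _) (top_lt g)

theorem neg_top : T.neg (top T) = 0 := by
  have h := g.topOK
  simp only [checkTop, Bool.and_eq_true, nat_beq] at h
  exact h.1.1.1.1.1

theorem neg_zero_eq : T.neg 0 = top T := by rw [← neg_top g, Tab.neg_neg (top_lt g)]

theorem top_row {s : ℕ} (hs : s < T.n) :
    (T.N ≤ s → 0 ≤ grd T s ∧ grd T s ≤ 2 ∧ (grd T s = 2 ↔ s = top T) ∧ (1 ≤ grd T s ↔
      ∃ k < T.l, grd T (T.smp k) ≠ 0 ∧ T.c s k ≠ 0)) ∧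
    (grd T s = 0 → trm T (top T) s List.isEmpty = true ∧ trm T 0 s List.isEmpty = true) ∧
    (one T s = true → trm T (top T) s List.isEmpty = true) := by
  have h := g.topOK
  simp only [checkTop, Bool.and_eq_true] at h
  have h' := allBelow_eq_true.1 h.1.1.1.1.2 s hs
  simp only [Bool.and_eq_true, Bool.or_eq_true, Bool.not_eq_true', nat_ble_false, decide_eq_true_eq,
    beq_eq_false_iff_ne, beq_iff_eq] at h'
  obtain ⟨⟨h1, h2⟩, h3⟩ := h'
  refine ⟨fun hN => ?_, fun h0 => h2.resolve_left fun hh => hh h0, fun h0 => h3.resolve_left ?_⟩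
  · obtain ⟨⟨⟨a, b⟩, c⟩, d⟩ := h1.resolve_left (by omega)
    refine ⟨a, b, ⟨fun e => nat_beq.1 (c ▸ decide_eq_true e),
      fun e => of_decide_eq_true (c.symm ▸ nat_beq.2 e)⟩, ?_⟩
    constructor
    · intro e
      obtain ⟨k, hk, hk'⟩ := anyBelow_eq_true.1 (d ▸ decide_eq_true e)
      simp only [Bool.and_eq_true, Bool.not_eq_true', beq_eq_false_iff_ne] at hk'
      exact ⟨k, hk, hk'⟩
    · rintro ⟨k, hk, hk1, hk2⟩
      refine of_decide_eq_true (d.symm ▸ anyBelow_eq_true.2 ⟨k, hk, ?_⟩)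
      simp only [Bool.and_eq_true, Bool.not_eq_true', beq_eq_false_iff_ne]
      exact ⟨hk1, hk2⟩
  · simp [h0]

theorem c_top {k : ℕ} (hk : k < T.l) : 1 ≤ T.c (top T) k := by
  have h := g.topOK
  simp only [checkTop, Bool.and_eq_true] at h
  exact of_decide_eq_true (allBelow_eq_true.1 h.1.1.1.2 k hk)

theorem J0_proper : ∃ k < T.l, k ∉ J0 T := by
  have h := g.topOK
  simp only [checkTop, Bool.and_eq_true, anyBelow_eq_true, Bool.not_eq_true',
    beq_eq_false_iff_ne] at h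
  obtain ⟨k, hk, hne⟩ := h.1.1.2
  exact ⟨k, hk, fun hm => hne hm.2⟩

theorem J0_nonempty : ∃ k < T.l, grd T (T.smp k) = 0 := by
  have h := g.topOK
  simp only [checkTop, Bool.and_eq_true, anyBelow_eq_true, beq_iff_eq] at h
  exact h.1.2

theorem one_high : one T (T.n - 2) = true := by
  have h := g.topOK
  simp only [checkTop, Bool.and_eq_true] at h
  exact h.2

omit g in
theorem one_iff {s : ℕ} : one T s = true ↔ T.N ≤ s ∧ s < T.n ∧ grd T s = 1 := by
  simp only [one, Bool.and_eq_true, nat_ble, nat_blt, beq_iff_eq, and_assoc]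

theorem mem_out_iff {s : ℕ} : s ∈ T.outJ (J0 T) ↔ one T s = true ∨ s = top T := by
  constructor
  · rintro ⟨hN, hs, k, hk, hkJ, hne⟩
    obtain ⟨h0, h2, h3, h4⟩ := (top_row g hs).1 hN
    have : 1 ≤ grd T s := h4.2 ⟨k, hk, fun e => hkJ ⟨hk, e⟩, hne⟩
    rcases eq_or_ne (grd T s) 2 with e | e
    · exact Or.inr (h3.1 e)
    · exact Or.inl (one_iff.2 ⟨hN, hs, by omega⟩)
  · intro h
    obtain ⟨hN, hs, h1⟩ : T.N ≤ s ∧ s < T.n ∧ 1 ≤ grd T s := by
      rcases h with h | rfl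
      · obtain ⟨a, b, c⟩ := one_iff.1 h; exact ⟨a, b, by omega⟩
      · exact ⟨top_ge g, top_lt g, by rw [grd, pr_self g.toGood (top_lt g)]; norm_num⟩
    obtain ⟨k, hk, hk1, hk2⟩ := ((top_row g hs).1 hN).2.2.2.1 h1
    exact ⟨hN, hs, k, hk, fun e => hk1 e.2, hk2⟩

theorem inJ_grd {s : ℕ} (h : s ∈ T.inJ (J0 T)) : grd T s = 0 := by
  have key : ∀ s, T.N ≤ s → s ∈ T.inJ (J0 T) → grd T s = 0 := by
    intro s hN hs
    obtain ⟨h0, -, -, h4⟩ := (top_row g hs.1).1 hN
    by_contra hne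
    obtain ⟨k, hk, hk1, hk2⟩ := h4.1 (by omega)
    exact hk2 (hs.2 k hk fun e => hk1 e.2)
  by_cases hN : T.N ≤ s
  · exact key s hN h
  · have := key _ ((N_le_neg_iff h.1).2 (not_le.1 hN)) (inJ_neg g.toGood h)
    rw [grd, pr_neg_right g.toGood h.1] at this
    show pr T (top T) s = 0
    omega

/-- root elements of non-negative roots and of grade zero commute with the highest ones -/
theorem commute_top {s : ℕ} (hs : s < T.n) (h : T.N ≤ s ∨ grd T s = 0) (t u : F) :
    Commute (xg g.toGood (top T) t) (xg g.toGood s u) := by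
  obtain ⟨h1, h2, h3⟩ := top_row g hs
  by_cases h0 : grd T s = 0
  · exact commute_nil g.toGoodA (h2 h0).1 t u
  have hN := h.resolve_right h0
  obtain ⟨a, b, c, -⟩ := h1 hN
  rcases eq_or_ne (grd T s) 2 with e | e
  · rw [c.1 e]; exact commute_self _ _ _ _
  · exact commute_nil g.toGoodA (h3 (one_iff.2 ⟨hN, hs, by omega⟩)) t u

theorem pos_commute_top {u : GL T.D.Idx F} (hu : u ∈ genS g.toGood F (Set.Ico T.N T.n)) (t : F) :
    Commute (xg g.toGood (top T) t) u := by
  refine genS_induction g.toGood (p := fun u => Commute (xg g.toGood (top T) t) u)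
    (Commute.one_right _) (fun r hr a y hy => ?_) hu
  exact (commute_top g hr.2 (Or.inl hr.1) t a).mul_right hy

theorem parab_top {x : GL T.D.Idx F} (hx : x ∈ T.D.parabolicSubgroup F (J0 T)) :
    ∃ χ : Fˣ, ∀ t : F, x * xg g.toGood (top T) t * x⁻¹ = xg g.toGood (top T) ((χ : F) * t) := by
  rw [parabolic_eq g.toGood, diagonalSubgroup_eq g.toGood, genS,
    ← Subgroup.closure_eq (tor T F).range, ← Subgroup.closure_union] at hx
  induction hx using Subgroup.closure_induction with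
  | mem y hy =>
    rcases hy with ⟨c, rfl⟩ | ⟨r, hr, a, rfl⟩
    · exact ⟨_, fun t => tor_xg g.toGood c (top_lt g) t⟩
    · refine ⟨1, fun t => ?_⟩
      have hc : Commute (xg g.toGood (top T) t) (xg g.toGood r a) := by
        rcases hr with hr | hr
        · exact commute_top g hr.2 (Or.inl hr.1) t a
        · exact commute_top g hr.1 (Or.inr (inJ_grd g hr)) t a
      rw [← hc.eq, mul_inv_cancel_right, Units.val_one, one_mul]
  | one => exact ⟨1, fun t => by simp⟩
  | mul y z _ _ hy hz =>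
    obtain ⟨a, ha⟩ := hy; obtain ⟨b, hb⟩ := hz
    refine ⟨a * b, fun t => ?_⟩
    rw [show y * z * xg g.toGood (top T) t * (y * z)⁻¹ =
      y * (z * xg g.toGood (top T) t * z⁻¹) * y⁻¹ by group, hb, ha, Units.val_mul, mul_assoc]
  | inv y _ hy =>
    obtain ⟨a, ha⟩ := hy
    refine ⟨a⁻¹, fun t => ?_⟩
    rw [inv_inv]
    conv_lhs => rw [show t = (a : F) * ((a⁻¹ : Fˣ) * t) by rw [← mul_assoc, Units.mul_inv, one_mul],
      ← ha]
    group

/-! ### Long roots -/

theorem long_row {s : ℕ} (hs : s < T.n) :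
    (∀ i < T.l, lng S (T.ref i s) = lng S s) ∧
    (lng S s = true → s = top T ∨ ∃ i < T.l, s < T.ref i s) ∧
    (lng S s = true → s ≠ 0 → s ≠ top T → trm T s (top T) List.isEmpty = true ∨
      ∃ v < T.n, one T v = true ∧ lng S v = true ∧ trm T s (top T) (single v) = true ∧
        trm T s v List.isEmpty = true) ∧
    (lng S s = false → ∃ r < T.n, lng S r = true ∧ (pr T r s).natAbs = 1) := by
  have h := g.longOK
  simp only [checkLong, Bool.and_eq_true] at h
  have h' := allBelow_eq_true.1 h.2 s hs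
  simp only [Bool.and_eq_true, Bool.or_eq_true, allBelow_eq_true, anyBelow_eq_true, beq_iff_eq,
    Bool.not_eq_true', nat_beq, nat_blt] at h'
  obtain ⟨⟨⟨h1, h2⟩, h3⟩, h4⟩ := h'
  refine ⟨h1, fun hl => ?_, fun hl n0 nR => ?_, fun hl => h4.resolve_left (by simp [hl])⟩
  · rcases h2 with (h2 | h2) | h2
    · simp [hl] at h2
    · exact Or.inl h2
    · exact Or.inr h2
  · rcases h3 with (((h3 | h3) | h3) | h3) | ⟨v, hv, ⟨⟨h5, h6⟩, h7⟩, h8⟩
    · simp [hl] at h3
    · exact absurd h3 n0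
    · exact absurd h3 nR
    · exact Or.inl h3
    · exact Or.inr ⟨v, hv, h5, h6, h7, h8⟩

theorem lng_rw' : ∀ {L : List ℕ}, T.Wd L → ∀ {s : ℕ}, s < T.n → lng S (T.rw' L s) = lng S s
  | [], _, _, _ => rfl
  | i :: L, h, s, hs => by
    obtain ⟨hi, hL⟩ := Wd.cons_iff.1 h
    rw [rw'_cons, (long_row g (rw'_lt g.toGood hL hs)).1 i hi, lng_rw' hL hs]

theorem lng_top : lng S (top T) = true := by
  have h := g.longOK
  simp only [checkLong, Bool.and_eq_true] at h
  exact h.1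

theorem exists_word_long {s : ℕ} (hs : s < T.n) (hl : lng S s = true) :
    ∃ L, T.Wd L ∧ T.rw' L (top T) = s := by
  induction hm : T.n - s using Nat.strong_induction_on generalizing s with
  | _ m ih =>
    subst hm
    rcases (long_row g hs).2.1 hl with rfl | ⟨i, hi, hlt⟩
    · exact ⟨[], by simp [Wd], rfl⟩
    · have hu := g.toGood.ref_lt hi hs
      obtain ⟨L, hL, e⟩ := ih (T.n - T.ref i s) (by omega) hu (((long_row g hs).1 i hi).trans hl) rfl
      exact ⟨i :: L, Wd.cons_iff.2 ⟨hi, hL⟩, by rw [rw'_cons, e, g.toGood.ref_ref hi hs]⟩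

theorem lng_zero : lng S 0 = true := by
  obtain ⟨L, hL, hneg, -⟩ := exists_longest g.toGood
  have h0 : ∀ {s : ℕ}, s < T.n → lng S s = true → lng S (T.neg s) = true := by
    intro s hs hl
    obtain ⟨L, hL, e⟩ := exists_word_long g hs hl
    have hmem : ∀ v < T.n, ∃ M, T.Wd M ∧ T.rw' M v = T.neg v := by
      refine root_induction g.toGood (fun i hi => ⟨[i], by simp [Wd, hi], g.toGood.ref_smp hi⟩)
        fun i hi v hv ⟨M, hM, e⟩ => ⟨i :: (M ++ [i]), ?_, ?_⟩
      · exact Wd.cons_iff.2 ⟨hi, Wd.append_iff.2 ⟨hM, by simp [Wd, hi]⟩⟩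
      · rw [rw'_cons, rw'_append, rw'_cons, rw'_nil, g.toGood.ref_ref hi hv, e,
          g.toGood.ref_neg hi hv]
    obtain ⟨M, hM, e'⟩ := hmem s hs
    rw [← e', lng_rw' g hM hs, hl]
  have := h0 (top_lt g) (lng_top g)
  rwa [neg_top g] at this

end

/-! ### Columns of monomial elements -/

theorem nWd_conj_col (g : T.Good) : ∀ {L : List ℕ}, T.Wd L → ∀ {s : ℕ}, s < T.n →
    ∃ ε : Fˣ, (∀ t : F, nWd g F L * xg g s t * (nWd g F L)⁻¹ = xg g (T.rw' L s) ((ε : F) * t)) ∧
      Matrix.mulVec (nWd g F L : Matrix T.D.Idx T.D.Idx F) (bas T F (T.l + s)) =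
        (ε : F) • bas T F (T.l + T.rw' L s)
  | [], _, s, _ => ⟨1, fun t => by simp, by simp⟩
  | i :: L, h, s, hs => by
    obtain ⟨hi, hL⟩ := Wd.cons_iff.1 h
    obtain ⟨ε, h1, h2⟩ := nWd_conj_col g hL hs
    have hu := rw'_lt g hL hs
    refine ⟨⟨_, _, eta_sq T i (T.rw' L s), eta_sq T i (T.rw' L s)⟩ * ε, fun t => ?_, ?_⟩
    · rw [nWd_cons, show ∀ a b x : GL T.D.Idx F, a * b * x * (a * b)⁻¹ = a * (b * x * b⁻¹) * a⁻¹
        from fun a b x => by group, h1, nG_conj g hi hu, rw'_cons, Units.val_mul, mul_assoc]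
    · rw [nWd_cons, Units.val_mul, ← Matrix.mulVec_mulVec, h2, Matrix.mulVec_smul,
        nG_col_root g hi hu, smul_smul, rw'_cons, Units.val_mul, mul_comm]

theorem mono_conj_col (g : T.Good) {L : List ℕ} (hL : T.Wd L) (c : ℕ → Fˣ) {s : ℕ} (hs : s < T.n) :
    ∃ v : Fˣ, (∀ t : F, (tor T F c * nWd g F L) * xg g s t * (tor T F c * nWd g F L)⁻¹ =
        xg g (T.rw' L s) ((v : F) * t)) ∧
      Matrix.mulVec ((tor T F c * nWd g F L : GL T.D.Idx F) : Matrix T.D.Idx T.D.Idx F)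
        (bas T F (T.l + s)) = (v : F) • bas T F (T.l + T.rw' L s) := by
  obtain ⟨ε, h1, h2⟩ := nWd_conj_col (F := F) g hL hs
  refine ⟨wt T F c (T.rw' L s) * ε, fun t => ?_, ?_⟩
  · rw [show ∀ a b x : GL T.D.Idx F, a * b * x * (a * b)⁻¹ = a * (b * x * b⁻¹) * a⁻¹ from
      fun a b x => by group, h1, tor_xg g c (rw'_lt g hL hs), Units.val_mul, mul_assoc]
  · rw [Units.val_mul, ← Matrix.mulVec_mulVec, h2, Matrix.mulVec_smul, tor_apply, dg_col_root g,
      smul_smul, Units.val_mul, mul_comm]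

/-! ### Fixed elements -/

variable (T) in
/-- the elements fixed by `σ` -/
noncomputable def ratS (σ : F →+* F) : Subgroup (GL T.D.Idx F) :=
  (entryHom T σ).eqLocus (MonoidHom.id _)

theorem mem_ratS {σ : F →+* F} {x : GL T.D.Idx F} : x ∈ ratS T σ ↔ entryHom T σ x = x := Iff.rfl

theorem fixElem_le_ratS (g : T.Good) (σ : F →+* F) : fixElem g σ ≤ ratS T σ :=
  fun _ hx => fixElem_fixed g σ hx

theorem xg_ratS_iff (g : T.Good) {σ : F →+* F} {r : ℕ} (hr : r < T.n) {t : F} :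
    xg g r t ∈ ratS T σ ↔ σ t = t := by
  rw [mem_ratS, entryHom_xg]
  exact (xg_injective g hr).eq_iff

/-- the hypotheses on a finite group containing the elementary fixed group -/
structure Sett (g : T.Good) (σ : F →+* F) (H : Subgroup (GL T.D.Idx F)) : Prop where
  le : H ≤ T.D.group F
  fin : Finite H
  fix : fixElem g σ ≤ H
  top : ∀ t : F, xg g (top T) t ∈ H → σ t = t

theorem Sett.long {g : SD T K W S} {σ : F →+* F} {H : Subgroup (GL T.D.Idx F)}
    (hS : Sett g.toGood σ H) {s : ℕ} (hs : s < T.n) (hl : lng S s = true) {t : F}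
    (h : xg g.toGood s t ∈ H) : σ t = t := by
  obtain ⟨L, hL, e⟩ := exists_word_long g hs hl
  obtain ⟨ε, hε, hc⟩ := nWd_conj (F := F) g.toGood hL (top_lt g)
  have hε' : (ε : F) * ε = 1 := by rw [← Units.val_mul, hε, Units.val_one]
  have hn := hS.fix (nWd_mem_fixElem g.toGood σ L)
  have h1 := (hc ((ε : F) * t)).1
  rw [e, ← mul_assoc, hε', one_mul] at h1
  have h2 : xg g.toGood (SFMax.top T) ((ε : F) * t) ∈ H := by
    have := mul_mem (mul_mem (inv_mem hn) (h1.symm ▸ h)) hn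
    simpa [mul_assoc] using this
  have h3 := hS.top _ h2
  have h4 : σ (ε : F) = ε := by
    rcases mul_self_eq_one_iff.1 hε' with e | e <;> simp [e]
  rw [map_mul, h4] at h3
  exact mul_left_cancel₀ (Units.ne_zero ε) h3

end Cfsg.Agent.SFMax
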