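import Cfsg.Agent.Lib.Lie.GoodW
import Cfsg.Agent.Lib.Lie.GoodS

/-!
# Table facts about the highest root

`R = n - 1` is the highest root, `0` its negative, and the grade of a root `r` is the pairing
`⟨r, R∨⟩`.  The parabolic subgroup of the fundamental roots of grade `0` has the radical
`X_R · (grade one)`.
-/

set_option autoImplicit false
set_option maxRecDepth 8000

namespace Cfsg.Agent.SFMax

open Cfsg.Lie Cfsg.Agent.Chev Cfsg.Agent.Chev.Tab

variable (T : Tab)

/-- `⟨s, r∨⟩` -/
def pr (r s : ℕ) : ℤ := sumBelow (fun j => T.c r j * T.A j s) T.l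

/-- the highest root -/
def top : ℕ := T.n - 1

/-- the grade -/
def grd (r : ℕ) : ℤ := pr T (top T) r

/-- long roots, given by the list of the short ones -/
def lng (S : List ℕ) (r : ℕ) : Bool := !(S.any fun x => Nat.beq x r)

/-- a root of grade one -/
def one (r : ℕ) : Bool := Nat.ble T.N r && Nat.blt r T.n && grd T r == 1

/-- the commutator terms of `(r, s)` are listed by `L` -/
def trm (r s : ℕ) (p : List (ℕ × ℤ × ℕ × ℕ) → Bool) : Bool :=
  Nat.blt r T.n && Nat.blt s T.n && !Nat.beq s r && !Nat.beq s (T.neg r) && p (T.cTerms r s)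

/-- a unit coefficient -/
def unit1 (C : ℤ) : Bool := Nat.beq C.natAbs 1

/-- exactly one term, at `k`, linear in both parameters, with unit coefficient -/
def single (k : ℕ) : List (ℕ × ℤ × ℕ × ℕ) → Bool
  | [(a, C, 1, 1)] => Nat.beq a k && unit1 C
  | _ => false

/-- two terms, at `k` and `m`, the second quadratic in the second parameter -/
def doubleSnd (k m : ℕ) : List (ℕ × ℤ × ℕ × ℕ) → Bool
  | [(a, C, 1, 1), (b, D, 1, 2)] => Nat.beq a k && unit1 C && Nat.beq b m && unit1 D
  | _ => false

/-- two terms, at `k` and `m`, the second quadratic in the first parameter -/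
def doubleFst (k m : ℕ) : List (ℕ × ℤ × ℕ × ℕ) → Bool
  | [(a, C, 1, 1), (b, D, 2, 1)] => Nat.beq a k && unit1 C && Nat.beq b m && unit1 D
  | _ => false

/-- all coefficients are divisible by `d` -/
def allDiv (d : ℕ) (L : List (ℕ × ℤ × ℕ × ℕ)) : Bool := L.all fun c => c.2.1 % (d : ℤ) == 0

/-- equal, or commuting modulo `d` -/
def commMod (d r s : ℕ) : Bool := Nat.beq s r || trm T r s (allDiv d)

/-- the grade and the parabolic subgroup -/
def checkTop : Bool :=
  Nat.beq (T.neg (top T)) 0 &&
  allBelow (fun s => (!Nat.ble T.N s || (decide (0 ≤ grd T s) && decide (grd T s ≤ 2) &&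
      (decide (grd T s = 2) == Nat.beq s (top T)) &&
      (decide (1 ≤ grd T s) == anyBelow (fun k => !(grd T (T.smp k) == 0) && !(T.c s k == 0)) T.l))) &&
    (!(grd T s == 0) || (trm T (top T) s List.isEmpty && trm T 0 s List.isEmpty)) &&
    (!(one T s) || trm T (top T) s List.isEmpty)) T.n &&
  allBelow (fun k => decide (1 ≤ T.c (top T) k)) T.l &&
  anyBelow (fun k => !(grd T (T.smp k) == 0)) T.l &&
  anyBelow (fun k => grd T (T.smp k) == 0) T.l &&
  one T (T.n - 2)

/-- the pairing on the roots of grade one -/
def checkOne : Bool :=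
  allBelow (fun k => !(one T k) || (Nat.blt (T.ch k 0).length 4 && anyBelow (fun m => one T m && trm T k m (fun L => match L with
      | [(a, C, 1, 1)] => Nat.beq a (top T) && (unit1 C || Nat.beq C.natAbs 2 || Nat.beq C.natAbs 3)
      | _ => false) &&
      allBelow (fun j => !(one T j) || Nat.beq j k || Nat.beq j m ||
        (trm T j m List.isEmpty && trm T k j List.isEmpty)) T.n) T.n)) T.n

/-- `k` is coupled to its partner with a coefficient divisible by `d` -/
def isBad (d k : ℕ) : Bool :=
  one T k && anyBelow (fun m => one T m && trm T k m (fun L => allDiv d L && !L.isEmpty)) T.n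

/-- the roots of grade one with coupling divisible by 2 -/
def checkBad2 : Bool :=
  allBelow (fun k => !(isBad T 2 k) || anyBelow (fun m => isBad T 2 m &&
    trm T k m (fun L => !L.isEmpty) && trm T m k (fun L => !L.isEmpty) &&
    anyBelow (fun s => grd T s == 0 &&
      trm T k s (doubleFst m (top T)) && trm T (top T) (T.neg k) (doubleSnd m s) &&
      trm T s k (doubleSnd m (top T)) && commMod T 2 m (T.neg k) && commMod T 2 m s &&
      commMod T 2 m k &&
      allBelow (fun j => !(isBad T 2 j) || Nat.beq j k || commMod T 2 j s) T.n) T.n) T.n) T.n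

/-- the roots of grade one with coupling divisible by 3 -/
def checkBad3 : Bool :=
  allBelow (fun k => !(isBad T 3 k) || (anyBelow (fun m => isBad T 3 m &&
      anyBelow (fun s => grd T s == 0 &&
        trm T k s (fun L => match L with
          | (a, C, 1, 1) :: rest => Nat.beq a m && !(C % 3 == 0) && allDiv 3 rest
          | _ => false) &&
        allBelow (fun j => !(isBad T 3 j) || Nat.beq j k || commMod T 3 j s) T.n) T.n) T.n &&
    anyBelow (fun i => anyBelow (fun i' =>
      let a := T.ref i' (T.ref i k)
      anyBelow (fun b => trm T a b (fun L => L.all (fun c => one T c.1 || Nat.beq c.1 (top T)) &&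
        anyBelow (fun g => one T g && anyBelow (fun h => one T h && trm T g h (single (top T)) &&
          allBelow (fun j => !(one T j) || Nat.beq j g || Nat.beq j h || trm T j h List.isEmpty) T.n &&
          (match L.filter (fun c => Nat.beq c.1 g) with
            | [(_, C, 3, 1)] => !(C % 3 == 0)
            | _ => false)) T.n) T.n)) T.n) T.l) T.l)) T.n

/-- a way to see the coordinate at the highest root -/
def checkSee : Bool :=
  anyBelow (fun k => one T k && anyBelow (fun m => one T m &&
      trm T (top T) (T.neg k) (single m) && trm T m k (single (top T))) T.n) T.n ||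
  anyBelow (fun k => one T k && anyBelow (fun m => one T m && anyBelow (fun s => grd T s == 0 &&
      trm T (top T) (T.neg k) (doubleSnd m s) && trm T s k (doubleSnd m (top T)) &&
      trm T m k (fun L => L.all fun c => Nat.beq c.1 (top T))) T.n) T.n) T.n

/-- the long roots -/
def checkLong (S : List ℕ) : Bool :=
  lng S (top T) &&
  allBelow (fun s =>
    allBelow (fun i => lng S (T.ref i s) == lng S s) T.l &&
    (!(lng S s) || Nat.beq s (top T) || anyBelow (fun i => Nat.blt s (T.ref i s)) T.l) &&
    (!(lng S s) || Nat.beq s 0 || Nat.beq s (top T) || trm T s (top T) List.isEmpty ||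
      anyBelow (fun v => one T v && lng S v && trm T s (top T) (single v) && trm T s v List.isEmpty) T.n) &&
    (lng S s || anyBelow (fun r => lng S r && Nat.beq (pr T r s).natAbs 1) T.n)) T.n

/-- the entries of the row `a` in `x_r(t)` -/
def rowOf (r a : ℕ) : List (ℕ × ℤ × ℕ) :=
  (List.range (T.l + T.n)).flatMap fun v =>
    ((T.xcol r v).filter fun e => Nat.beq e.1 a).map fun e => (v, e.2)

/-- two long roots adding up to the lowest one, and two adding up to a long one -/
def checkPairLong (S : List ℕ) : Bool :=
  anyBelow (fun s => match rowOf T s (T.ix 0) with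
    | [(a, 1, 0), (b, C, 1)] => Nat.beq a (T.ix 0) && Nat.ble T.l b && Nat.blt b (T.l + T.n) &&
        lng S (b - T.l) && unit1 C
    | _ => false) T.n &&
  anyBelow (fun r => lng S r && anyBelow (fun s => lng S s &&
    trm T r s (fun L => match L with
      | [(a, C, 1, 1)] => unit1 C && lng S a
      | _ => false)) T.n) T.n

/-- the facts used for the groups of type `B₂` -/
def checkQuad (S : List ℕ) : Bool :=
  Nat.beq T.l 2 && Nat.beq T.N 4 && lng S 3 &&
  rowOf T 2 (T.ix 0) == [(2, 1, 0), (3, -2, 1), (5, -1, 2)] &&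
  rowOf T 5 (T.ix 1) == [(2, -1, 1), (3, 1, 0)] &&
  rowOf T 5 (T.ix 3) == [(2, -1, 2), (3, 2, 1), (5, 1, 0)] &&
  rowOf T 5 (T.ix 0) == [(2, 1, 0)] &&
  [4, 6, 7].all (fun r => rowOf T r (T.ix 0) == [(2, 1, 0)] && rowOf T r (T.ix 1) == [(3, 1, 0)] &&
    rowOf T r (T.ix 3) == [(5, 1, 0)]) &&
  trm T 4 5 (doubleSnd 6 7) && trm T 5 6 (fun L => match L with
    | [(a, C, 1, 1)] => Nat.beq a 7 && Nat.beq C.natAbs 2
    | _ => false) &&
  anyBelow (fun i => Nat.beq (T.ref i 6) 5 && Nat.beq (T.ref i 7) 7) T.l &&
  grd T 5 == 1 && lng S 4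

/-- All the facts. -/
structure SD (T : Tab) (K : List (List ℕ)) (W : List (ℕ × ℕ × ℕ)) (S : List ℕ) : Prop
    extends T.GoodW K W where
  topOK : checkTop T = true
  oneOK : checkOne T = true
  bad2OK : checkBad2 T = true
  bad3OK : checkBad3 T = true
  seeOK : checkSee T = true
  longOK : checkLong T S = true
  typeOK : (checkPairLong T S || checkQuad T S) = true
  connOK : T.checkConn = true

end Cfsg.Agent.SFMax
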