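import Cfsg.Agent.Lib.SubfieldMax.Data

/-! The table facts hold for the seven types. -/

set_option autoImplicit false
set_option maxRecDepth 8000

namespace Cfsg.Agent.SFMax

open Cfsg.Lie Cfsg.Agent.Chev

theorem exists_SD {D : ChevalleyDatum}
    (hD : D ∈ [chevG2, chevB2, chevD4, chevF4, chevE6, chevE7, chevE8]) :
    ∃ T : Tab, ∃ K W S, SD T K W S ∧ T.D = D := by
  simp only [List.mem_cons, List.not_mem_nil, or_false] at hD
  rcases hD with rfl | rfl | rfl | rfl | rfl | rfl | rfl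
  · exact ⟨_, [[2, 3], [1, 2]],
      [(0, 9, 1), (0, 8, 2)],
      [2, 3, 4, 7, 8, 9], ⟨⟨⟨⟨G2Data.good, by decide +kernel⟩, by decide +kernel⟩, by decide +kernel⟩,
        by decide +kernel, by decide +kernel, by decide +kernel, by decide +kernel, by decide +kernel,
        by decide +kernel, by decide +kernel, by decide +kernel⟩, rfl⟩
  · exact ⟨_, [[2, 2], [1, 2]],
      [(1, 7, 0), (0, 6, 1)],
      [1, 2, 5, 6], ⟨⟨⟨⟨B2Data.good, by decide +kernel⟩, by decide +kernel⟩, by decide +kernel⟩,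
        by decide +kernel, by decide +kernel, by decide +kernel, by decide +kernel, by decide +kernel,
        by decide +kernel, by decide +kernel, by decide +kernel⟩, rfl⟩
  · exact ⟨_, [[4, 4, 2, 2], [4, 8, 4, 4], [2, 4, 4, 2], [2, 4, 2, 4]],
      [(6, 22, 0), (1, 23, 0), (3, 22, 0), (2, 22, 0)],
      [], ⟨⟨⟨⟨D4Data.good, by decide +kernel⟩, by decide +kernel⟩, by decide +kernel⟩,
        by decide +kernel, by decide +kernel, by decide +kernel, by decide +kernel, by decide +kernel,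
        by decide +kernel, by decide +kernel, by decide +kernel⟩, rfl⟩
  · exact ⟨_, [[2, 3, 4, 2], [3, 6, 8, 4], [2, 4, 6, 3], [1, 2, 3, 2]],
      [(7, 44, 0), (3, 45, 0), (0, 39, 1), (1, 47, 0)],
      [3, 7, 8, 9, 10, 11, 12, 13, 14, 18, 19, 20, 27, 28, 29, 33, 34, 35, 36, 37, 38, 39, 40, 44], ⟨⟨⟨⟨F4Data.good, by decide +kernel⟩, by decide +kernel⟩, by decide +kernel⟩,
        by decide +kernel, by decide +kernel, by decide +kernel, by decide +kernel, by decide +kernel,
        by decide +kernel, by decide +kernel, by decide +kernel⟩, rfl⟩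
  · exact ⟨_, [[4, 3, 5, 6, 4, 2], [3, 6, 6, 9, 6, 3], [5, 6, 10, 12, 8, 4], [6, 9, 12, 18, 12, 6], [4, 6, 8, 12, 10, 5], [2, 3, 4, 6, 5, 4]],
      [(16, 66, 0), (1, 71, 0), (5, 69, 0), (2, 70, 0), (3, 69, 0), (4, 68, 0)],
      [], ⟨⟨⟨⟨E6Data.good, by decide +kernel⟩, by decide +kernel⟩, by decide +kernel⟩,
        by decide +kernel, by decide +kernel, by decide +kernel, by decide +kernel, by decide +kernel,
        by decide +kernel, by decide +kernel, by decide +kernel⟩, rfl⟩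
  · exact ⟨_, [[4, 4, 6, 8, 6, 4, 2], [4, 7, 8, 12, 9, 6, 3], [6, 8, 12, 16, 12, 8, 4], [8, 12, 16, 24, 18, 12, 6], [6, 9, 12, 18, 15, 10, 5], [4, 6, 8, 12, 10, 8, 4], [2, 3, 4, 6, 5, 4, 3]],
      [(1, 125, 0), (7, 122, 0), (2, 124, 0), (3, 123, 0), (4, 122, 0), (5, 121, 0), (6, 120, 0)],
      [], ⟨⟨⟨⟨E7Data.good, by decide +kernel⟩, by decide +kernel⟩, by decide +kernel⟩,
        by decide +kernel, by decide +kernel, by decide +kernel, by decide +kernel, by decide +kernel,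
        by decide +kernel, by decide +kernel, by decide +kernel⟩, rfl⟩
  · exact ⟨_, [[4, 5, 7, 10, 8, 6, 4, 2], [5, 8, 10, 15, 12, 9, 6, 3], [7, 10, 14, 20, 16, 12, 8, 4], [10, 15, 20, 30, 24, 18, 12, 6], [8, 12, 16, 24, 20, 15, 10, 5], [6, 9, 12, 18, 15, 12, 8, 4], [4, 6, 8, 12, 10, 8, 6, 3], [2, 3, 4, 6, 5, 4, 3, 2]],
      [(14, 233, 0), (7, 234, 0), (6, 234, 0), (5, 235, 0), (4, 236, 0), (3, 237, 0), (2, 238, 0), (1, 239, 0)],
      [], ⟨⟨⟨⟨E8Data.good, by decide +kernel⟩, by decide +kernel⟩, by decide +kernel⟩,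
        by decide +kernel, by decide +kernel, by decide +kernel, by decide +kernel, by decide +kernel,
        by decide +kernel, by decide +kernel, by decide +kernel⟩, rfl⟩

end Cfsg.Agent.SFMax
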