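import Cfsg.Agent.Lib.SubfieldMax.Parabolic

/-!
# Fixed conjugates and the position of a conjugate of the lowest root element
-/

set_option autoImplicit false

namespace Cfsg.Agent.SFMax

open Cfsg.Lie Cfsg.Agent.Chev Cfsg.Agent.Chev.Tab Cfsg.Agent.ChevAut
open Matrix hiding zpow_mul inv_zpow mul_inv_rev zpow_add zpow_neg

variable {T : Tab} {K : List (List ℕ)} {W : List (ℕ × ℕ × ℕ)} {S : List ℕ} {F : Type*} [Field F]

/-- the fundamental roots on which a form vanishes -/
def Jf (T : Tab) (φ : ℕ → ℝ) : Set ℕ := {j | j < T.l ∧ φ (T.smp j) = 0}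

theorem zero_inJ (g : T.GoodK K) {φ : ℕ → ℝ} (hl : BTi.IsLin T φ) (hd : BTi.Dom T φ) :
    ∀ r, T.N ≤ r → r < T.n → φ r = 0 → r ∈ T.inJ (Jf T φ) := by
  have hg := g.toGood
  intro s
  induction s using Nat.strong_induction_on with
  | _ s ih =>
    intro hN hs h0
    rcases exists_descent hg hs hN with ⟨i, hi, rfl⟩ | ⟨i, hi, h1, h2, m, hm, hk⟩
    · exact smp_mem_inJ hg hi ⟨hi, h0⟩
    · have hu := hg.ref_lt hi hs
      obtain ⟨-, hA, -⟩ := chRoot_spec hg (hg.smp_lt hi) hu hm hk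
      have e := hl.lincomb (hg.smp_lt hi) hu hs (i := (m : ℤ)) (j := 1)
        (fun j hj => by rw [hA j hj]; ring)
      push_cast at e
      have p1 := hd _ h1 hu
      have p2 := hd _ (hg.smp_ge hi) (hg.smp_lt hi)
      have hmR : (1 : ℝ) ≤ m := by exact_mod_cast hm
      have z2 : φ (T.smp i) = 0 := by nlinarith
      have z1 : φ (T.ref i s) = 0 := by rw [h0, z2] at e; linarith
      have hin := ih _ h2 h1 hu z1
      have := ref_inJ hg hi (show i ∈ Jf T φ from ⟨hi, z2⟩) hin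
      rwa [hg.ref_ref hi hs] at this

theorem nonneg_mem (g : T.GoodK K) {φ : ℕ → ℝ} (hl : BTi.IsLin T φ) (hd : BTi.Dom T φ) {r : ℕ}
    (hr : r < T.n) (h : 0 ≤ φ r) : r ∈ Set.Ico T.N T.n ∪ T.inJ (Jf T φ) := by
  by_cases hN : T.N ≤ r
  · exact Or.inl ⟨hN, hr⟩
  · have h1 := (N_le_neg_iff hr).2 (not_le.1 hN)
    have h2 := hd _ h1 (neg_lt hr)
    rw [hl.neg g.toGood hr] at h2
    have := zero_inJ g hl hd _ h1 (neg_lt hr) (by rw [hl.neg g.toGood hr]; linarith)
    have := inJ_neg g.toGood this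
    rw [Tab.neg_neg hr] at this
    exact Or.inr this

theorem neg_mem_out (g : T.GoodK K) {φ : ℕ → ℝ} (hl : BTi.IsLin T φ) (hd : BTi.Dom T φ) {r : ℕ}
    (hr : r < T.n) (h : φ r < 0) : T.neg r ∈ T.outJ (Jf T φ) := by
  have hN : r < T.N := by
    by_contra hh
    have := hd r (not_lt.1 hh) hr
    linarith
  have hneg := (N_le_neg_iff hr).2 hN
  refine (outJ_or_inJ hneg (neg_lt hr)).resolve_right fun hin => ?_
  have key : ∀ r, T.N ≤ r → r ∈ T.inJ (Jf T φ) → φ r = 0 := by
    intro r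
    induction r using Nat.strong_induction_on with
    | _ r ih =>
      intro hN hr
      rcases descent_inJ g.toGood hN hr with ⟨j, hj, hJ, rfl⟩ | ⟨j, hj, hJ, h1, h2⟩
      · exact hJ.2
      · have := ih _ h2 h1 (ref_inJ g.toGood hj hJ hr)
        rwa [(hl.comp_ref g.toGood hj).1 r hr.1, hJ.2, mul_zero, sub_zero] at this
  have := key _ hneg hin
  rw [hl.neg g.toGood hr] at this
  linarith

/-- A parabolic subgroup meets the opposite radical trivially. -/
theorem parab_inf_opp (g : T.GoodK K) (J : Set ℕ) {x : GL T.D.Idx F}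
    (h1 : x ∈ T.D.parabolicSubgroup F J)
    (h2 : x ∈ genS g.toGood F {r | r < T.n ∧ T.neg r ∈ T.outJ J}) : x = 1 := by
  classical
  have hg := g.toGood
  have hlow : UT (fun a => -T.levI K J a) (x : Matrix T.D.Idx T.D.Idx F) := by
    refine genS_UT hg (fun r hr t a b hab => ?_) h2
    rcases xg_lev g J hr.1 t a b with h | ⟨m, hm, h⟩
    · exact h
    · have h0 := lev_outJ g hr.2
      have hneg : T.lev K J (T.neg r) = -T.lev K J r := by
        simp only [lev, phi_neg g hr.1, Finset.sum_neg_distrib]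
      rw [hneg] at h0
      simp only [neg_le_neg_iff] at hab
      have : (m : ℤ) * T.lev K J r < 0 := mul_neg_of_pos_of_neg (by exact_mod_cast hm) (by omega)
      omega
  have hup : ∀ a b, T.levI K J a < T.levI K J b → (x : Matrix T.D.Idx T.D.Idx F) a b = 0 := by
    have hmul : ∀ X Y : Matrix T.D.Idx T.D.Idx F,
        (∀ a b, T.levI K J a < T.levI K J b → X a b = 0) →
        (∀ a b, T.levI K J a < T.levI K J b → Y a b = 0) →
        ∀ a b, T.levI K J a < T.levI K J b → (X * Y) a b = 0 := by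
      intro X Y hX hY a b hab
      rw [Matrix.mul_apply]
      refine Finset.sum_eq_zero fun c _ => ?_
      by_cases hac : T.levI K J a < T.levI K J c
      · rw [hX a c hac, zero_mul]
      · rw [hY c b (by omega), mul_zero]
    have htor : ∀ c : ℕ → Fˣ, ∀ a b, T.levI K J a < T.levI K J b →
        (tor T F c : Matrix T.D.Idx T.D.Idx F) a b = 0 :=
      fun c a b hab => tor_apply_ne c fun e => by subst e; omega
    have hroot : ∀ r ∈ Set.Ico T.N T.n ∪ T.inJ J, ∀ t : F, ∀ a b, T.levI K J a < T.levI K J b →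
        (xg hg r t : Matrix T.D.Idx T.D.Idx F) a b = 0 := by
      intro r hr t a b hab
      have hrn : r < T.n := by rcases hr with hr | hr; exacts [hr.2, hr.1]
      have hge : 0 ≤ T.lev K J r := by
        rcases hr with hr | hr
        · rcases outJ_or_inJ (J := J) hr.1 hr.2 with h | h
          · exact (lev_outJ g h).le
          · exact (lev_inJ g h).ge
        · exact (lev_inJ g hr).ge
      rcases xg_lev g J hrn t a b with h | ⟨m, -, h⟩
      · rw [xg_val, h, Matrix.one_apply_ne]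
        intro e; subst e; omega
      · have : (0 : ℤ) ≤ (m : ℤ) * T.lev K J r := mul_nonneg (Int.natCast_nonneg m) hge
        omega
    rw [parabolic_eq hg, diagonalSubgroup_eq hg, ← Subgroup.closure_eq (tor T F).range, genS,
      ← Subgroup.closure_union] at h1
    refine Subgroup.closure_induction_left (p := fun (y : GL T.D.Idx F) _ => ∀ a b,
      T.levI K J a < T.levI K J b → (y : Matrix T.D.Idx T.D.Idx F) a b = 0) ?_ ?_ ?_ h1
    · intro a b hab
      rw [Units.val_one, Matrix.one_apply_ne]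
      intro e; subst e; omega
    · rintro y hy z _ hz
      rw [Units.val_mul]
      rcases hy with ⟨c, rfl⟩ | ⟨r, hr, t, rfl⟩
      · exact hmul _ _ (htor c) hz
      · exact hmul _ _ (hroot r hr t) hz
    · rintro y hy z _ hz
      rw [Units.val_mul]
      rcases hy with ⟨c, rfl⟩ | ⟨r, hr, t, rfl⟩
      · rw [← map_inv]; exact hmul _ _ (htor c⁻¹) hz
      · rw [xg_inv]; exact hmul _ _ (hroot r hr _) hz
  refine Units.ext ?_
  rw [Units.val_one]
  ext a b
  by_cases hab : T.levI K J a < T.levI K J b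
  · rw [hup a b hab, Matrix.one_apply_ne]
    intro e; subst e; omega
  · exact hlow a b (by simp only [neg_le_neg_iff]; omega)

theorem entryHom_parab (g : T.Good) (σ : F →+* F) {J : Set ℕ} {x : GL T.D.Idx F}
    (hx : x ∈ T.D.parabolicSubgroup F J) : entryHom T σ x ∈ T.D.parabolicSubgroup F J := by
  rw [parabolic_eq g] at hx ⊢
  have hle : T.D.diagonalSubgroup F ⊔ genS g F (Set.Ico T.N T.n ∪ T.inJ J) ≤
      (T.D.diagonalSubgroup F ⊔ genS g F (Set.Ico T.N T.n ∪ T.inJ J)).comap (entryHom T σ) := by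
    refine sup_le ?_ (genS_le g fun r hr t => ?_)
    · rw [diagonalSubgroup_eq g]
      rintro _ ⟨c, rfl⟩
      rw [Subgroup.mem_comap, entryHom_tor]
      exact Subgroup.mem_sup_left ⟨_, rfl⟩
    · rw [Subgroup.mem_comap, entryHom_xg]
      exact Subgroup.mem_sup_right (xg_mem_genS g hr _)
  exact hle hx

/-- A parabolic coset fixed by `σ` has a fixed representative. -/
theorem lang_parabolic (g : T.GoodK K) {φ : ℕ → ℝ} (hl : BTi.IsLin T φ) (hd : BTi.Dom T φ)
    (σ : F →+* F) {x : GL T.D.Idx F} (hx : x ∈ T.D.group F)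
    (h : x⁻¹ * entryHom T σ x ∈ T.D.parabolicSubgroup F (Jf T φ)) :
    ∃ m ∈ fixElem g.toGood σ, m⁻¹ * x ∈ T.D.parabolicSubgroup F (Jf T φ) := by
  have hg := g.toGood
  set P := T.D.parabolicSubgroup F (Jf T φ)
  obtain ⟨b, hb, _, -, L, hL, ⟨c, rfl⟩, u, hu, rfl⟩ := bruhat_exists g.toGoodA hx
  obtain ⟨u0, hu0, d, hd0⟩ := (mem_borel_iff hg).1 (mul_mem hb (torus_le_borel (F := F) hg c))
  obtain ⟨e, he⟩ := torus_pass hg (inv_mem (nWd_mem_wSub (F := F) hg hL)) d
  set n := nWd hg F L with hn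
  have hp1 : tor T F e * u ∈ P :=
    mul_mem (Subgroup.mem_sup_left (torus_le_borel hg e))
      (Subgroup.mem_sup_left (genS_pos_le_borel hg (fun r hr => hr) (uMinus_le_pos hg L hu)))
  have hxe : b * (tor T F c * n) * u = u0 * n * (tor T F e * u) := by
    rw [show b * (tor T F c * n) * u = b * tor T F c * n * u by group, hd0]
    have : tor T F d * n = n * tor T F e := by
      have := congrArg (fun y => n * y * n) he
      simpa [mul_assoc] using this
    rw [mul_assoc u0, this]; group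
  set A : Set ℕ := {r | (T.N ≤ r ∧ r < T.n) ∧ φ (T.rw' L.reverse r) < 0}
  set B : Set ℕ := {r | (T.N ≤ r ∧ r < T.n) ∧ 0 ≤ φ (T.rw' L.reverse r)}
  obtain ⟨a, ha, cc, hcc, e0⟩ := BTi.split_two g.toGoodA (BTi.cl_pos hg) (A := A) (B := B)
    (fun r hr => (lt_or_ge (φ (T.rw' L.reverse r)) 0).imp (fun h => ⟨hr, h⟩) (fun h => ⟨hr, h⟩))
    T.n T.N (by omega) u0 (by rwa [Set.inter_self])
  have conj : ∀ {r : ℕ}, r < T.n → ∀ t : F, ∃ t' : F,
      n⁻¹ * xg hg r t * n = xg hg (T.rw' L.reverse r) t' := by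
    intro r hr t
    obtain ⟨ε, hε, hcj⟩ := nWd_conj (F := F) hg hL (rw'_lt hg hL.reverse hr)
    refine ⟨(ε : F) * t, ?_⟩
    have h1 := (hcj ((ε : F) * t)).1
    rw [rw'_rev' hg hL hr, ← mul_assoc, ← Units.val_mul, hε, Units.val_one, one_mul, ← hn] at h1
    rw [← h1]; group
  have hc' : n⁻¹ * cc * n ∈ P := by
    have hle : genS hg F B ≤ P.comap (MulAut.conj n⁻¹).toMonoidHom := by
      refine genS_le hg fun r hr t => ?_
      obtain ⟨t', ht'⟩ := conj hr.1.2 t
      simp only [Subgroup.mem_comap, MulEquiv.coe_toMonoidHom, MulAut.conj_apply, inv_inv, ht']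
      show _ ∈ T.D.parabolicSubgroup F (Jf T φ)
      rw [parabolic_eq hg]
      exact Subgroup.mem_sup_right (xg_mem_genS hg
        (nonneg_mem g hl hd (rw'_lt hg hL.reverse hr.1.2) hr.2) _)
    simpa using hle hcc
  have hsn : entryHom T σ n = n := fixElem_fixed hg σ (nWd_mem_fixElem hg σ L)
  set p2 := n⁻¹ * cc * n * (tor T F e * u)
  have hp2 : p2 ∈ P := mul_mem hc' hp1
  have hx2 : b * (tor T F c * n) * u = a * n * p2 := by
    rw [hxe, e0]; simp only [p2]; group
  have hz : n⁻¹ * (a⁻¹ * entryHom T σ a) * n = 1 := by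
    refine parab_inf_opp g (Jf T φ) ?_ ?_
    · have h1 := mul_mem (mul_mem hp2 h) (inv_mem (entryHom_parab hg σ hp2))
      rw [hx2, map_mul, map_mul, hsn] at h1
      convert h1 using 1
      group
    · have hle : genS hg F A ≤
          (genS hg F {r | r < T.n ∧ T.neg r ∈ T.outJ (Jf T φ)}).comap
            (MulAut.conj n⁻¹).toMonoidHom := by
        refine genS_le hg fun r hr t => ?_
        obtain ⟨t', ht'⟩ := conj hr.1.2 t
        simp only [Subgroup.mem_comap, MulEquiv.coe_toMonoidHom, MulAut.conj_apply, inv_inv, ht']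
        have hlt := rw'_lt hg hL.reverse hr.1.2
        exact xg_mem_genS hg (S := {r | r < T.n ∧ T.neg r ∈ T.outJ (Jf T φ)})
          (r := T.rw' L.reverse r) ⟨hlt, neg_mem_out g hl hd hlt hr.2⟩ _
      simpa using hle (mul_mem (inv_mem ha) (entryHom_genS hg σ ha))
  have hafix : entryHom T σ a = a := by
    have : a⁻¹ * entryHom T σ a = 1 := by
      have := congrArg (fun y => n * y * n⁻¹) hz
      simpa [mul_assoc] using this
    exact (inv_mul_eq_one.1 this).symm
  refine ⟨a * n, mul_mem (pos_fixed_mem g.toGoodA (genS_mono hg (fun r hr => hr.1) ha) hafix)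
    (nWd_mem_fixElem hg σ L), ?_⟩
  rw [hx2, inv_mul_cancel_left]
  exact hp2

section
variable (g : SD T K W S)
include g

theorem grd_isLin : BTi.IsLin T fun r => (grd T r : ℝ) := by
  refine ⟨fun j => (T.c (top T) j : ℝ), fun r _ => ?_⟩
  show ((pr T (top T) r : ℤ) : ℝ) = _
  rw [pr_eq, BTi.lin]
  push_cast
  rfl

theorem grd_dom : BTi.Dom T fun r => (grd T r : ℝ) := fun r h1 h2 => by
  have := ((top_row g h2).1 h1).1
  show (0 : ℝ) ≤ ((grd T r : ℤ) : ℝ)
  exact_mod_cast this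

theorem Jf_grd : Jf T (fun r => (grd T r : ℝ)) = J0 T := by
  ext j
  simp [Jf, J0]

theorem parab_le : T.D.parabolicSubgroup F (J0 T) ≤ T.D.group F := by
  rw [← normalizer_radical g.toGoodK (J0 T)]; exact inf_le_right

/-- An element moving one highest root element to another lies in the parabolic subgroup. -/
theorem stab_top {z : GL T.D.Idx F} (hz : z ∈ T.D.group F) {a b : F} (ha : a ≠ 0)
    (h : z * xg g.toGood (top T) a * z⁻¹ = xg g.toGood (top T) b) :
    z ∈ T.D.parabolicSubgroup F (J0 T) := by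
  have hg := g.toGood
  obtain ⟨β, hβ, _, -, L, hL, ⟨c, rfl⟩, u, hu, rfl⟩ := bruhat_exists g.toGoodA hz
  have huU := uMinus_le_pos hg L hu
  have hβP : β ∈ T.D.parabolicSubgroup F (J0 T) := Subgroup.mem_sup_left hβ
  obtain ⟨χ, hχ⟩ := parab_top g (inv_mem hβP)
  obtain ⟨v, hv⟩ := mono_conj (F := F) hg hL c (top_lt g)
  set n := tor T F c * nWd hg F L with hn
  have e : n * xg hg (top T) a * n⁻¹ = xg hg (top T) ((χ : F) * b) := by
    rw [← hχ b, ← h, show β * n * u * xg hg (top T) a * (β * n * u)⁻¹ =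
      β * n * (u * xg hg (top T) a * u⁻¹) * n⁻¹ * β⁻¹ by group,
      (pos_commute_top g huU a).symm.eq, mul_inv_cancel_right]
    group
  rw [hv] at e
  set r := T.rw' L (top T) with hr'
  have hrn : r < T.n := rw'_lt hg hL (top_lt g)
  have hva : (v : F) * a ≠ 0 := mul_ne_zero (Units.ne_zero _) ha
  have hwR : r = top T := by
    by_contra hne
    refine hva ?_
    by_cases hN : T.N ≤ r
    · refine lowest_coeff hg hN hrn (e ▸ xg_mem_genS hg (S := Set.Ico (r + 1) T.n) ⟨?_, top_lt g⟩ _)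
      show r + 1 ≤ top T
      have : top T = T.n - 1 := rfl
      omega
    · have h1 : xg hg r ((v : F) * a) = 1 := borel_inf_neg hg
        (e ▸ pos_le_borel hg (top_ge g) (top_lt g) _)
        (xg_mem_genS hg (S := Set.Iio T.N) (not_le.1 hN) _)
      exact xg_injective hg hrn (h1.trans (xg_zero hg r).symm)
  have hfix : ∀ s < T.n, (grd T (T.rw' L s) : ℝ) = (grd T s : ℝ) := fun s hs => by
    have := pr_rw' hg hL (top_lt g) hs
    rw [← hr', hwR] at this
    exact_mod_cast this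
  have hnP : nWd hg F L ∈ T.D.parabolicSubgroup F (J0 T) := by
    have := BTi.stab_parabolic (F := F) hg (grd_isLin g) (grd_dom g) _ hL le_rfl hfix
    rwa [show {j | j < T.l ∧ (grd T (T.smp j) : ℝ) = 0} = J0 T from Jf_grd g] at this
  exact mul_mem (mul_mem hβP (mul_mem (Subgroup.mem_sup_left (torus_le_borel hg c)) hnP))
    (Subgroup.mem_sup_left (genS_pos_le_borel hg (fun r hr => hr) huU))

theorem commute_stab {z : GL T.D.Idx F} (hz : z ∈ T.D.group F) {a : F} (ha : a ≠ 0)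
    (h : Commute z (xg g.toGood (top T) a)) : z ∈ T.D.parabolicSubgroup F (J0 T) :=
  stab_top g hz ha (b := a) (by rw [h.eq, mul_inv_cancel_right])

/-- A fixed conjugate of a highest root element is a fixed conjugate. -/
theorem lang_top (σ : F →+* F) {x : GL T.D.Idx F} (hx : x ∈ T.D.group F) {τ : F} (hτ : τ ≠ 0)
    (h : x * xg g.toGood (top T) τ * x⁻¹ ∈ ratS T σ) :
    ∃ m ∈ fixElem g.toGood σ, m⁻¹ * x ∈ T.D.parabolicSubgroup F (J0 T) := by
  have hg := g.toGood
  rw [mem_ratS, map_mul, map_mul, map_inv, entryHom_xg] at h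
  have hz : x⁻¹ * entryHom T σ x ∈ T.D.parabolicSubgroup F (J0 T) := by
    refine stab_top g (mul_mem (inv_mem hx) (entryHom_group hg σ hx)) (a := σ τ) (b := τ)
      ((map_ne_zero σ).2 hτ) ?_
    calc _ = x⁻¹ * (entryHom T σ x * xg hg (top T) (σ τ) * (entryHom T σ x)⁻¹) * x := by group
      _ = _ := by rw [h]; group
  have h2 := lang_parabolic (φ := fun r => (grd T r : ℝ)) g.toGoodK (grd_isLin g) (grd_dom g) σ hx
  rw [Jf_grd g] at h2
  exact h2 hz

variable {σ : F →+* F} {H : Subgroup (GL T.D.Idx F)} (hS : Sett g.toGood σ H)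
include hS

theorem conj_rat {h : GL T.D.Idx F} (hh : h ∈ H)
    (hy : h * xg g.toGood (top T) 1 * h⁻¹ ∈ ratS T σ) : h ∈ ratS T σ := by
  obtain ⟨m, hm, hp⟩ := lang_top g σ (hS.le hh) one_ne_zero hy
  have := mul_mem (fixElem_le_ratS g.toGood σ hm)
    (parab_rat g hS (mul_mem (inv_mem (hS.fix hm)) hh) hp)
  rwa [mul_inv_cancel_left] at this

/-- An element of `H` commuting with a fixed conjugate of a highest root element is fixed. -/
theorem comm_rat {y x : GL T.D.Idx F} (hy : y ∈ H) (hx : x ∈ T.D.group F) {τ : F} (hτ : τ ≠ 0)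
    (hw : x * xg g.toGood (top T) τ * x⁻¹ ∈ ratS T σ)
    (hc : Commute y (x * xg g.toGood (top T) τ * x⁻¹)) : y ∈ ratS T σ := by
  have hg := g.toGood
  obtain ⟨m, hm, hp⟩ := lang_top g σ hx hτ hw
  obtain ⟨χ, hχ⟩ := parab_top g hp
  have e : x * xg hg (top T) τ * x⁻¹ = m * xg hg (top T) ((χ : F) * τ) * m⁻¹ := by
    rw [← hχ]; group
  have hy' : m⁻¹ * y * m ∈ H := mul_mem (mul_mem (inv_mem (hS.fix hm)) hy) (hS.fix hm)
  have hcc : Commute (m⁻¹ * y * m) (xg hg (top T) ((χ : F) * τ)) := by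
    rw [e] at hc
    show _ = _
    calc m⁻¹ * y * m * xg hg (top T) ((χ : F) * τ)
        = m⁻¹ * (y * (m * xg hg (top T) ((χ : F) * τ) * m⁻¹)) * m := by group
      _ = m⁻¹ * ((m * xg hg (top T) ((χ : F) * τ) * m⁻¹) * y) * m := by rw [hc.eq]
      _ = _ := by group
  have h1 := parab_rat g hS hy' (commute_stab g (hS.le hy') (mul_ne_zero χ.ne_zero hτ) hcc)
  have hmr := fixElem_le_ratS hg σ hm
  have := mul_mem (mul_mem hmr h1) (inv_mem hmr)
  simpa [mul_assoc] using this

/-! ### The conjugates of the lowest root element -/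

omit hS in
theorem pos_fix_top {u : GL T.D.Idx F} (hu : u ∈ genS g.toGood F (Set.Ico T.N T.n)) :
    (u : Matrix T.D.Idx T.D.Idx F) *ᵥ bas T F (T.l + top T) = bas T F (T.l + top T) := by
  have hg := g.toGood
  obtain ⟨i, hi⟩ := exists_code hg (show T.l + top T < T.l + T.n by have := top_lt g; omega)
  funext a
  rw [← hi, ← apply_eq_col hg, ← one_apply_bas hg a i]
  refine pos_UT hg hu a i ?_
  have hN := top_ge g
  have h1 := rho_bounds hg a
  have : T.rho i = ((T.l + T.n : ℕ) : ℤ) - 1 := by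
    rcases i with ⟨v, hv⟩ | ⟨v, hv⟩ <;> simp only [code] at hi
    · have := hg.rank_eq; omega
    · obtain rfl : v = top T := by omega
      simp only [rho, show ¬ top T < T.N by omega, if_false]
      have : top T = T.n - 1 := rfl
      have := top_lt g
      omega
  omega

omit hS in
/-- Position of a conjugate of the lowest root group. -/
theorem exists_form {h : GL T.D.Idx F} (hh : h ∈ T.D.group F) :
    ∃ u ∈ genS g.toGood F (Set.Ico T.N T.n), ∃ r < T.n, lng S r = true ∧ ∃ χ : Fˣ,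
      (∀ t : F, h * xg g.toGood 0 t * h⁻¹ = u * xg g.toGood r ((χ : F) * t) * u⁻¹) ∧
      (h : Matrix T.D.Idx T.D.Idx F) *ᵥ bas T F (T.l + 0) =
        (χ : F) • ((u : Matrix T.D.Idx T.D.Idx F) *ᵥ bas T F (T.l + r)) := by
  have hg := g.toGood
  obtain ⟨L₀, hL₀, e0⟩ := exists_word_long g (n_pos g) (lng_zero g)
  obtain ⟨ε, hε1, hε2⟩ := nWd_conj_col (F := F) hg hL₀ (top_lt g)
  rw [e0] at hε1 hε2
  set n0 := nWd hg F L₀
  have hn0 : n0 ∈ T.D.group F :=
    monomial_le_group hg ((mem_monomial_iff hg).2 ⟨L₀, hL₀, 1, by simp [n0]⟩)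
  obtain ⟨b, hb, _, -, L, hL, ⟨c, rfl⟩, u1, hu1, e⟩ := bruhat_exists g.toGoodA (mul_mem hh hn0)
  obtain ⟨u, hu, d, hd⟩ := (mem_borel_iff hg).1 (mul_mem hb (torus_le_borel (F := F) hg c))
  obtain ⟨v, hv1, hv2⟩ := mono_conj_col (F := F) hg hL d (top_lt g)
  have e' : h * n0 = u * (tor T F d * nWd hg F L) * u1 := by
    rw [e, ← mul_assoc u, ← hd]; group
  have hu1' := uMinus_le_pos hg L hu1
  refine ⟨u, hu, _, rw'_lt hg hL (top_lt g), by rw [lng_rw' g hL (top_lt g)]; exact lng_top g,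
    v * ε⁻¹, fun t => ?_, ?_⟩
  · have h1 := hε1 ((ε⁻¹ : Fˣ) * t)
    rw [← mul_assoc, Units.mul_inv, one_mul] at h1
    rw [← h1, show h * (n0 * xg hg (top T) ((ε⁻¹ : Fˣ) * t) * n0⁻¹) * h⁻¹ =
      (h * n0) * xg hg (top T) ((ε⁻¹ : Fˣ) * t) * (h * n0)⁻¹ by group, e',
      show ∀ A B C X : GL T.D.Idx F, A * B * C * X * (A * B * C)⁻¹ =
        A * (B * (C * X * C⁻¹) * B⁻¹) * A⁻¹ from fun A B C X => by group,
      (pos_commute_top g hu1' _).symm.eq, mul_inv_cancel_right, hv1, Units.val_mul, mul_assoc (v : F)]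
  · have h3 : (h : Matrix T.D.Idx T.D.Idx F) *ᵥ ((ε : F) • bas T F (T.l + 0)) =
        (v : F) • ((u : Matrix T.D.Idx T.D.Idx F) *ᵥ bas T F (T.l + T.rw' L (top T))) := by
      rw [← hε2, mulVec_mulVec, ← Units.val_mul, e', Units.val_mul, ← mulVec_mulVec,
        pos_fix_top g hu1', Units.val_mul, ← mulVec_mulVec, hv2, mulVec_smul]
    rw [mulVec_smul] at h3
    have h4 := congrArg (fun w => (ε : F)⁻¹ • w) h3
    simp only [smul_smul, inv_mul_cancel₀ (Units.ne_zero ε), one_smul] at h4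
    rw [h4, Units.val_mul, Units.val_inv_eq_inv_val, mul_comm]

/-- For `h ∈ H` not fixed, the conjugate of the lowest root group lies over the lowest root. -/
theorem irr_form {h : GL T.D.Idx F} (hh : h ∈ H) (hirr : h ∉ ratS T σ) :
    ∃ u ∈ genS g.toGood F (Set.Ico T.N T.n), ∃ χ : Fˣ,
      (∀ t : F, h * xg g.toGood 0 t * h⁻¹ = u * xg g.toGood 0 ((χ : F) * t) * u⁻¹) ∧
      (h : Matrix T.D.Idx T.D.Idx F) *ᵥ bas T F (T.l + 0) =
        (χ : F) • ((u : Matrix T.D.Idx T.D.Idx F) *ᵥ bas T F (T.l + 0)) := by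
  have hg := g.toGood
  obtain ⟨u, hu, r, hr, hlr, χ, h1, h2⟩ := exists_form g (hS.le hh)
  suffices hr0 : r = 0 by subst hr0; exact ⟨u, hu, χ, h1, h2⟩
  by_contra hr0
  set y := h * xg hg 0 1 * h⁻¹ with hy
  have hyH : y ∈ H :=
    mul_mem (mul_mem hh (hS.fix (xg_mem_fixElem hg 0 (map_one σ)))) (inv_mem hh)
  have hye : y = u * xg hg r (χ : F) * u⁻¹ := by rw [hy, h1, mul_one]
  have huc : ∀ t : F, Commute u (xg hg (top T) t) := fun t => (pos_commute_top g hu t).symm
  -- it suffices that `y` be fixed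
  have done : y ∈ ratS T σ → False := by
    intro hyr
    obtain ⟨L₀, hL₀, e0⟩ := exists_word_long g (n_pos g) (lng_zero g)
    obtain ⟨ε, hεε, hc⟩ := nWd_conj (F := F) hg hL₀ (top_lt g)
    have hn := hS.fix (nWd_mem_fixElem hg σ L₀)
    have hεs : (ε : F) = 1 ∨ (ε : F) = -1 :=
      mul_self_eq_one_iff.1 (by rw [← Units.val_mul, hεε, Units.val_one])
    refine hirr ?_
    have hrat : (h * nWd hg F L₀) * xg hg (top T) 1 * (h * nWd hg F L₀)⁻¹ ∈ ratS T σ := by
      rw [show h * nWd hg F L₀ * xg hg (top T) 1 * (h * nWd hg F L₀)⁻¹ =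
        h * (nWd hg F L₀ * xg hg (top T) 1 * (nWd hg F L₀)⁻¹) * h⁻¹ by group, (hc 1).1, e0, mul_one]
      rcases hεs with e | e <;> rw [e]
      · exact hyr
      · rw [← xg_inv, show h * (xg hg 0 (1 : F))⁻¹ * h⁻¹ = y⁻¹ by rw [hy]; group]
        exact inv_mem hyr
    have := mul_mem (conj_rat g hS (mul_mem hh hn) hrat)
      (inv_mem (fixElem_le_ratS hg σ (nWd_mem_fixElem hg σ L₀)))
    rwa [mul_inv_cancel_right] at this
  by_cases hrR : r = top T
  · subst hrR
    refine done (parab_rat g hS hyH (commute_stab g (hS.le hyH) one_ne_zero ?_))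
    rw [hye]
    exact (((huc 1).mul_left (commute_self _ _ _ _)).mul_left (huc 1).inv_left)
  rcases (long_row g hr).2.2.1 hlr hr0 hrR with hc | ⟨v, hv, hv1, hvl, htr, hrv⟩
  · refine done (parab_rat g hS hyH (commute_stab g (hS.le hyH) one_ne_zero ?_))
    rw [hye]
    exact (((huc 1).mul_left (commute_nil g.toGoodA hc _ _)).mul_left (huc 1).inv_left)
  obtain ⟨q1, q2, q3, q4, q5⟩ := trm_spec htr
  obtain ⟨C, eC, hC⟩ := single_spec q5
  set w := u * xg hg v ((C : F) * χ) * u⁻¹ with hw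
  have ew : y * xg hg (top T) 1 * y⁻¹ = xg hg (top T) 1 * w := by
    rw [hye, hw]
    calc u * xg hg r (χ : F) * u⁻¹ * xg hg (top T) 1 * (u * xg hg r (χ : F) * u⁻¹)⁻¹
        = u * xg hg r (χ : F) * (u⁻¹ * xg hg (top T) 1 * u) * (xg hg r (χ : F))⁻¹ * u⁻¹ := by group
      _ = u * (xg hg r (χ : F) * xg hg (top T) 1 * (xg hg r (χ : F))⁻¹) * u⁻¹ := by
          rw [show u⁻¹ * xg hg (top T) 1 * u = xg hg (top T) (1 : F) by
            rw [mul_assoc, ← (huc 1).eq, inv_mul_cancel_left]]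
          group
      _ = u * (xg hg (top T) 1 * xg hg v ((C : F) * χ)) * u⁻¹ := by
          rw [conj_terms g.toGoodA q1 q2 q3 q4, eC]; simp
      _ = _ := by rw [← mul_assoc u, (huc 1).eq]; group
  have hwH : w ∈ H := moved_mem g hS (map_one σ) hyH ew
  have hwc : Commute w (xg hg (top T) 1) :=
    ((huc 1).mul_left (commute_top g (one_iff.1 hv1).2.1 (Or.inl (one_iff.1 hv1).1) _ _).symm).mul_left
      (huc 1).inv_left
  have hwr : w ∈ ratS T σ := parab_rat g hS hwH (commute_stab g (hS.le hwH) one_ne_zero hwc)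
  obtain ⟨L, hL, eL⟩ := exists_word_long g hv hvl
  obtain ⟨ε, -, hcv⟩ := nWd_conj (F := F) hg hL (top_lt g)
  set x := u * nWd hg F L
  have hx : x ∈ T.D.group F :=
    mul_mem (posU_le_group hg hu) (monomial_le_group hg ((mem_monomial_iff hg).2 ⟨L, hL, 1, by simp⟩))
  have hxw : x * xg hg (top T) ((ε⁻¹ : Fˣ) * ((C : F) * χ)) * x⁻¹ = w := by
    have h1 := (hcv ((ε⁻¹ : Fˣ) * ((C : F) * χ))).1
    rw [eL, ← mul_assoc (ε : F), Units.mul_inv, one_mul] at h1
    rw [hw, ← h1]; simp only [x]; group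
  refine done (comm_rat g hS hyH hx (mul_ne_zero (Units.ne_zero _)
    (mul_ne_zero (unit1_ne hC) χ.ne_zero)) (hxw ▸ hwr) ?_)
  rw [hxw, hye, hw]
  have := (commute_nil g.toGoodA hrv (χ : F) ((C : F) * χ)).map (MulAut.conj u).toMonoidHom
  simpa using this

end

end Cfsg.Agent.SFMax
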