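import Cfsg.Agent.Lib.Lie.BorelTits

/-! The Borel–Tits optimum over an arbitrary field, for a subgroup of the positive unipotent group. -/

set_option autoImplicit false

namespace Cfsg.Agent.SFMax

open Cfsg.Lie Cfsg.Agent.Chev Cfsg.Agent.Chev.Tab Cfsg.Agent.Chev.Tab.BTi
open Matrix hiding zpow_mul inv_zpow mul_inv_rev zpow_add zpow_neg one_zpow

variable {T : Tab} {K : List (List ℕ)} {F : Type*} [Field F]

theorem exists_opt_pos (g : T.GoodK K) (U : Subgroup (GL T.D.Idx F)) (hne : U ≠ ⊥)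
    (h0 : Into g.toGood U 1 (Set.Ico T.N T.n)) :
    ∃ x φ k, Opt g.toGood U x φ k := by
  classical
  have hg := g.toGood
  let 𝒮 : Finset (Finset ℕ) := (Finset.Ico T.N T.n).powerset.filter fun S : Finset ℕ =>
    ∃ x ∈ T.D.group F, Into hg U x (↑S : Set ℕ)
  have hS0 : Finset.Ico T.N T.n ∈ 𝒮 := by
    simp only [𝒮, Finset.mem_filter, Finset.mem_powerset]
    exact ⟨subset_rfl, _, one_mem _, by rwa [Finset.coe_Ico]⟩
  have hne' : ∀ S ∈ 𝒮, S.Nonempty := by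
    intro S hS
    obtain ⟨x, -, hx⟩ := (Finset.mem_filter.1 hS).2
    exact Finset.coe_nonempty.1 (into_ne hg hne hx)
  have hN := (hne' _ hS0)
  obtain ⟨r₀, hr₀⟩ := hN
  obtain ⟨hr₀N, hr₀n⟩ := Finset.mem_Ico.1 hr₀
  -- the starting form
  have hν : 0 < nsq T (phi0 T K) := nsq_pos hr₀n (phi0_pos g hr₀N hr₀n).ne'
  set φ₀ : ℕ → ℝ := fun r => (Real.sqrt (nsq T (phi0 T K)))⁻¹ * phi0 T K r with hφ₀
  have hφ₀l : IsLin T φ₀ := (phi0_lin T K).smul _
  have hφ₀p : ∀ r, T.N ≤ r → r < T.n → 0 < φ₀ r := fun r h1 h2 =>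
    mul_pos (inv_pos.2 (Real.sqrt_pos.2 hν)) (phi0_pos g h1 h2)
  have hf₀ := mem_X hφ₀l (nsq_normalize hν) fun r h1 h2 => (hφ₀p r h1 h2).le
  have key : ∀ S ∈ 𝒮, ∃ f ∈ X T, ∀ f' ∈ X T, ∀ k', (∀ r ∈ S, k' ≤ ext0 f' r) →
      ∀ r ∈ S, ∃ s ∈ S, ext0 f s ≤ ext0 f r ∧ k' ≤ ext0 f s := by
    intro S hS
    have hc : Continuous fun f : Fin T.n → ℝ => S.inf' (hne' S hS) fun r => ext0 f r := by
      refine Continuous.finset_inf'_apply (hne' S hS) fun r _ => ?_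
      unfold ext0
      split_ifs <;> fun_prop
    obtain ⟨f, hf, hfmax⟩ := (isCompact_X T).exists_isMaxOn ⟨_, hf₀⟩ hc.continuousOn
    refine ⟨f, hf, fun f' hf' k' hk' r hr => ?_⟩
    obtain ⟨s, hs, hse⟩ := S.exists_mem_eq_inf' (hne' S hS) fun r => ext0 f r
    refine ⟨s, hs, hse ▸ Finset.inf'_le _ hr, ?_⟩
    have h' : S.inf' (hne' S hS) (fun r => ext0 f' r) ≤ S.inf' (hne' S hS) (fun r => ext0 f r) :=
      hfmax hf'
    rw [← hse]
    exact le_trans (Finset.le_inf' _ _ hk') h'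
  choose! fS hfS hkey using key
  let val : Finset ℕ → ℝ := fun S =>
    if h : S.Nonempty then S.inf' h (fun r => ext0 (fS S) r) else 0
  obtain ⟨S, hS, hSmax⟩ := 𝒮.exists_max_image val ⟨_, hS0⟩
  have hval : ∀ S' ∈ 𝒮, ∀ f' ∈ X T, ∀ k', (∀ r ∈ S', k' ≤ ext0 f' r) → k' ≤ val S := by
    intro S' hS' f' hf' k' hk'
    refine le_trans ?_ (hSmax S' hS')
    simp only [val, dif_pos (hne' S' hS')]
    refine Finset.le_inf' _ _ fun r hr => ?_
    obtain ⟨s, -, h1, h2⟩ := hkey S' hS' f' hf' k' hk' r hr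
    exact le_trans h2 h1
  obtain ⟨hSsub, x, hx, hint⟩ := Finset.mem_filter.1 hS
  obtain ⟨hl, hn, hd⟩ := ext0_mem (hfS S hS)
  have hkv : ∀ r ∈ S, val S ≤ ext0 (fS S) r := fun r hr => by
    simp only [val, dif_pos (hne' S hS)]
    exact Finset.inf'_le _ hr
  refine ⟨x, ext0 (fS S), val S, hx, hl, hn, hd, ?_, fun z hz => ?_, ?_⟩
  · obtain ⟨r₁, hr₁, hmin⟩ := (Finset.Ico T.N T.n).exists_min_image φ₀ ⟨r₀, hr₀⟩
    obtain ⟨h1, h2⟩ := Finset.mem_Ico.1 hr₁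
    refine lt_of_lt_of_le (hφ₀p r₁ h1 h2) (hval _ hS0 _ hf₀ _ fun r hr => ?_)
    rw [show ext0 (fun r : Fin T.n => φ₀ r.val) r = φ₀ r by simp [ext0, (Finset.mem_Ico.1 hr).2]]
    exact hmin r hr
  · refine genS_mono hg (fun r hr => ?_) (hint z hz)
    have := Finset.mem_Ico.1 (Finset.mem_powerset.1 hSsub hr)
    exact ⟨this, hkv r hr⟩
  · intro x' hx' φ' hl' hn' hd' k' _ hint'
    let S' := (Finset.Ico T.N T.n).filter fun r => k' ≤ φ' r
    have hS' : S' ∈ 𝒮 := by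
      simp only [𝒮, Finset.mem_filter, Finset.mem_powerset]
      refine ⟨Finset.filter_subset _ _, x', hx', fun z hz => genS_mono hg (fun r hr => ?_) (hint' z hz)⟩
      exact Finset.mem_coe.2 (Finset.mem_filter.2 ⟨Finset.mem_Ico.2 hr.1, hr.2⟩)
    refine hval S' hS' _ (mem_X hl' hn' hd') k' fun r hr => ?_
    obtain ⟨h1, h2⟩ := Finset.mem_filter.1 hr
    rw [show ext0 (fun r : Fin T.n => φ' r.val) r = φ' r by simp [ext0, (Finset.mem_Ico.1 h1).2]]
    exact h2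

/-- Two optima with the same form differ by an element of its parabolic subgroup. -/
theorem opt_rel (g : T.GoodK K) {U : Subgroup (GL T.D.Idx F)} (hne : U ≠ ⊥)
    {x x' : GL T.D.Idx F} {φ : ℕ → ℝ} {k : ℝ} (o : Opt g.toGood U x φ k)
    (o' : Opt g.toGood U x' φ k) :
    x⁻¹ * x' ∈ T.D.parabolicSubgroup F {j | j < T.l ∧ φ (T.smp j) = 0} := by
  have hg := g.toGood
  have hy : x⁻¹ * x' ∈ T.D.group F := mul_mem (inv_mem o.mem) o'.mem
  obtain ⟨b, hb, _, -, L, hL, ⟨c, rfl⟩, u, hu, hbnu⟩ := bruhat_exists g.toGoodA hy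
  have huB : u ∈ T.D.borelSubgroup F :=
    genS_pos_le_borel hg (fun r hr => hr) (uMinus_le_pos hg _ hu)
  have hN := borel_normalizes_lvl (F := F) g.toGoodA o.lin o.dom o.kpos.le
  have hS := cl_lvl hg o.lin o.kpos.le
  have key : ∀ z ∈ U, (x' * u⁻¹)⁻¹ * z * (x' * u⁻¹) ∈ genS hg F
      {r | (T.N ≤ r ∧ r < T.n) ∧ k ≤ φ r ∧ k ≤ φ (T.rw' L r)} := by
    intro z hz
    set R := (x' * u⁻¹)⁻¹ * z * (x' * u⁻¹)
    have hR : R ∈ genS hg F (lvl T φ k) := by
      have := (Subgroup.mem_normalizer_iff.1 (hN huB) _).1 (o'.into z hz)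
      have e : R = u * (x'⁻¹ * z * x') * u⁻¹ := by simp only [R]; group
      rwa [e]
    have hbt : (b * tor T F c)⁻¹ ∈ T.D.borelSubgroup F :=
      inv_mem (mul_mem hb (torus_le_borel hg c))
    have hconj : nWd hg F L * R * (nWd hg F L)⁻¹ ∈ genS hg F (lvl T φ k) := by
      have h2 := (Subgroup.mem_normalizer_iff.1 (hN hbt) _).1 (o.into z hz)
      have e : nWd hg F L * R * (nWd hg F L)⁻¹ =
          (b * tor T F c)⁻¹ * (x⁻¹ * z * x) * ((b * tor T F c)⁻¹)⁻¹ := by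
        have e' : x' = x * (b * (tor T F c * nWd hg F L) * u) := by
          rw [← hbnu]; group
        simp only [R]
        rw [e']
        group
      rwa [e]
    have h3 := inter_conj g hL hS (genS_mono hg hS.pos hR) hconj
    have hcl : Cl T {s | (T.N ≤ s ∧ s < T.n) ∧ T.rw' L s ∈ lvl T φ k} := by
      have h4 := cl_lvl hg (o.lin.comp_rw' hg hL) o.kpos.le
      have h5 := cl_cond hg ((phi0_lin T K).comp_rw' hg hL) (fun a => 0 < a)
        fun a b i j hi hj ha hb => by positivity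
      convert h4.inter h5 using 1
      ext s
      simp only [lvl, Set.mem_inter_iff, Set.mem_setOf_eq]
      constructor
      · rintro ⟨hs, ⟨h1, h2⟩, h3⟩
        exact ⟨⟨hs, h3⟩, hs, phi0_pos g h1 h2⟩
      · rintro ⟨⟨hs, h1⟩, -, h2⟩
        refine ⟨hs, ⟨?_, rw'_lt hg hL hs.2⟩, h1⟩
        by_contra hneg
        exact absurd h2 (not_lt.2 (phi0_neg g (not_le.1 hneg)).le)
    refine genS_mono hg (fun s hs => ?_) (genS_inter g.toGoodA hS hcl hR h3)
    exact ⟨hs.1.1, hs.1.2, hs.2.2.2⟩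
  have hfix := opt_fixed hg hne o hL (mul_mem o'.mem (inv_mem (borel_le_group hg huB))) key
  rw [hbnu]
  exact mul_mem (mul_mem (borel_le_parabolic _ hb)
    (mul_mem (borel_le_parabolic _ (torus_le_borel hg c))
      (stab_parabolic hg o.lin o.dom _ hL le_rfl hfix))) (borel_le_parabolic _ huB)

end Cfsg.Agent.SFMax
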