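import Cfsg.Agent.Lib.SubfieldMax.Lang
import Cfsg.Agent.Lib.SubfieldMax.Opt
import Cfsg.Agent.Lib.ChevOdd.RootSL2
import Cfsg.Agent.Lib.ChevAut.SubfieldGroup
import Mathlib.FieldTheory.Finite.Basic

/-!
Characteristic two: the elements of `H` are fixed.

The involution `i = x_0(1) x_k(1)`, with `k` orthogonal to the highest root, is conjugate to no
highest root element.  The centralizer in `H` of a fixed involution consists of fixed elements, by
the optimum of Borel and Tits.  So a moved highest root element of `H` would be conjugate to `i`.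
-/

set_option autoImplicit false

namespace Cfsg.Agent.SFMax

open Cfsg.Lie Cfsg.Agent.Chev Cfsg.Agent.Chev.Tab Cfsg.Agent.ChevAut
open Matrix hiding zpow_mul inv_zpow mul_inv_rev zpow_add zpow_neg
open SL2Pres (up low)

variable {T : Tab} {K : List (List ℕ)} {W : List (ℕ × ℕ × ℕ)} {S : List ℕ} {F : Type*} [Field F]

theorem fixElem_le_group' (g : T.Good) (σ : F →+* F) : fixElem g σ ≤ T.D.group F := by
  refine (Subgroup.closure_le _).2 ?_
  rintro _ ⟨s, t, -, rfl⟩
  exact xg_mem_group g s t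

theorem two_xg_sq (g : T.Good) (h2 : (2 : F) = 0) (r : ℕ) (t : F) : xg g r t * xg g r t = 1 := by
  rw [xg_add, ← two_mul, h2, zero_mul, xg_zero]

section
variable (g : SD T K W S)
include g

/-- The `SL₂` of the highest root. -/
theorem topHom_two (h2 : (2 : F) = 0) :
    ∃ f : SpecialLinearGroup (Fin 2) F →* GL T.D.Idx F, Function.Injective f ∧
      (∀ t, f (up t) = xg g.toGood (top T) t) ∧ (∀ t, f (low t) = xg g.toGood 0 t) := by
  have hg := g.toGood
  have hr := top_lt g
  have hrel : ∀ s < T.n, ∀ t u : F, t ≠ 0 →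
      (xg hg s t * xg hg (T.neg s) (-t⁻¹) * xg hg s t) * xg hg s u *
        (xg hg s t * xg hg (T.neg s) (-t⁻¹) * xg hg s t)⁻¹ = xg hg (T.neg s) (-(t⁻¹ ^ 2 * u)) :=
    fun s hs t u ht => by
      have h := congrArg (Tab.Cov.θ0 g.toGoodA F) (Tab.Cov.sn_conj_self g.toGoodW s hs t u ht)
      simpa [Tab.Cov.sn, Tab.Cov.θ0_sx] using h
  let D : SL2Pres.SData F (GL T.D.Idx F) :=
    { X := xg hg (top T)
      Y := xg hg (T.neg (top T))
      addX := xg_add hg (top T)
      addY := xg_add hg (T.neg (top T))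
      relX := hrel (top T) hr
      relY := fun t u ht => by
        have h := hrel (T.neg (top T)) (neg_lt hr) t u ht
        rwa [Tab.neg_neg hr] at h }
  obtain ⟨f, hX, hY⟩ := SL2Pres.exists_hom' D (fun s t hs ht =>
    (hE_mul hg hr (Units.mk0 s hs) (Units.mk0 t ht)).symm)
  have hY0 : ∀ t, f (low t) = xg hg 0 t := fun t => by
    rw [hY]; show xg hg (T.neg (top T)) t = _; rw [neg_top g]
  refine ⟨f, ?_, hX, hY0⟩
  -- the lower left entry of a kernel element vanishes
  have hc : ∀ γ : SpecialLinearGroup (Fin 2) F, f γ = 1 → γ.1 1 0 = 0 := by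
    intro γ hγ
    by_contra hc
    obtain ⟨a, b, c, d, hγv⟩ : ∃ a b c d, γ.1 = !![a, b; c, d] := ⟨_, _, _, _, Matrix.eta_fin_two _⟩
    rw [hγv] at hc
    change c ≠ 0 at hc
    have hdet : a * d - b * c = 1 := by
      have := γ.2; rwa [hγv, Matrix.det_fin_two_of] at this
    have hdec : γ = up ((a - 1) / c) * low c * up ((d - 1) / c) := by
      apply Subtype.ext
      show γ.1 = (up ((a - 1) / c)).1 * (low c).1 * (up ((d - 1) / c)).1
      rw [hγv, SL2Pres.up_val, SL2Pres.low_val,
        SL2Pres.up_val, Matrix.mul_fin_two, Matrix.mul_fin_two]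
      ext i j
      fin_cases i <;> fin_cases j <;> simp <;> field_simp
      all_goals first | linear_combination hdet | linear_combination -hdet | ring
    rw [hdec, map_mul, map_mul, hX, hX, hY0, mul_assoc, mul_eq_one_iff_inv_eq] at hγ
    have hγ2 := eq_mul_inv_of_mul_eq hγ.symm
    have hpos : xg hg 0 c ∈ genS hg F (Set.Ico T.N T.n) := by
      rw [hγ2]
      exact mul_mem (inv_mem (xg_mem_genS hg (S := Set.Ico T.N T.n) ⟨top_ge g, hr⟩ _))
        (inv_mem (xg_mem_genS hg (S := Set.Ico T.N T.n) ⟨top_ge g, hr⟩ _))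
    have h1 : xg hg 0 c = 1 := borel_inf_neg hg
      (genS_pos_le_borel hg (fun r hr => hr) hpos)
      (xg_mem_genS hg (S := Set.Iio T.N) hg.N_pos c)
    exact hc (xg_injective hg (n_pos g) (h1.trans (xg_zero hg _).symm))
  rw [← MonoidHom.ker_eq_bot_iff, Subgroup.eq_bot_iff_forall]
  intro γ hγ
  have hγ' : f γ = 1 := hγ
  have hconj : ∀ δ : SpecialLinearGroup (Fin 2) F, (δ * γ * δ⁻¹).1 1 0 = 0 := fun δ => hc _ (by
    rw [map_mul, map_mul, hγ', mul_one, ← map_mul, mul_inv_cancel, map_one])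
  obtain ⟨a, b, c, d, hγv⟩ : ∃ a b c d, γ.1 = !![a, b; c, d] := ⟨_, _, _, _, Matrix.eta_fin_two _⟩
  have hc0 : c = 0 := by have := hc γ hγ'; rwa [hγv] at this
  have hdet : a * d = 1 := by
    have := γ.2; rw [hγv, Matrix.det_fin_two_of, hc0] at this; simpa using this
  have hneg : (-1 : F) = 1 := by linear_combination -h2
  have h1 := hconj (low 1)
  have hw := hconj (up 1 * low 1 * up 1)
  rw [Matrix.SpecialLinearGroup.coe_mul, Matrix.SpecialLinearGroup.coe_mul,
    Matrix.SpecialLinearGroup.coe_inv, hγv, SL2Pres.low_val, hc0, Matrix.adjugate_fin_two_of] at h1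
  rw [Matrix.SpecialLinearGroup.coe_mul, Matrix.SpecialLinearGroup.coe_mul,
    Matrix.SpecialLinearGroup.coe_inv, hγv, Matrix.SpecialLinearGroup.coe_mul,
    Matrix.SpecialLinearGroup.coe_mul, SL2Pres.up_val, SL2Pres.low_val, hc0, Matrix.mul_fin_two,
    Matrix.mul_fin_two, Matrix.adjugate_fin_two_of] at hw
  simp [h2, hneg, show (1 : F) + 1 = 0 by linear_combination h2] at h1 hw
  have hb : b = 0 := by first | linear_combination hw | linear_combination -hw
  have had : a = d := by linear_combination h1 - hb - d * h2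
  rw [← had, mul_self_eq_one_iff, hneg, or_self] at hdet
  apply Subtype.ext
  rw [hγv, hb, hc0, ← had, hdet]
  simp [Matrix.one_fin_two]

/-- An involution conjugate to no highest root element. -/
theorem exists_not_conj (σ : F →+* F) (h2 : (2 : F) = 0) :
    ∃ i ∈ fixElem g.toGood σ, i * i = 1 ∧ i ≠ 1 ∧
      ∀ x ∈ T.D.group F, ∀ τ : F, i ≠ x * xg g.toGood (top T) τ * x⁻¹ := by
  have hg := g.toGood
  obtain ⟨j, hj, h0⟩ := J0_nonempty g
  set k := T.smp j with hk
  have hkn : k < T.n := hg.smp_lt hj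
  have hkN : T.N ≤ k := hg.smp_ge hj
  have hc0 : ∀ a b : F, Commute (xg hg 0 a) (xg hg k b) := fun a b =>
    commute_nil g.toGoodA ((top_row g hkn).2.1 h0).2 a b
  have hcR : ∀ a b : F, Commute (xg hg (top T) a) (xg hg k b) := fun a b =>
    commute_top g hkn (Or.inr h0) a b
  set i := xg hg 0 (1 : F) * xg hg k 1 with hi
  have hi2 : i * i = 1 := by
    rw [hi, (hc0 1 1).symm.mul_mul_mul_comm, two_xg_sq hg h2, two_xg_sq hg h2, one_mul]
  obtain ⟨f, hinj, hup, hlow⟩ := topHom_two (F := F) g h2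
  refine ⟨i, mul_mem (xg_mem_fixElem hg _ (map_one σ)) (xg_mem_fixElem hg _ (map_one σ)), hi2,
    fun e => ?_, fun x hx τ e => ?_⟩
  · have hpos : xg hg 0 (1 : F) ∈ genS hg F (Set.Ico T.N T.n) := by
      rw [eq_inv_of_mul_eq_one_left e]
      exact inv_mem (xg_mem_genS hg (S := Set.Ico T.N T.n) ⟨hkN, hkn⟩ _)
    have h1 : xg hg 0 (1 : F) = 1 := borel_inf_neg hg
      (genS_pos_le_borel hg (fun r hr => hr) hpos)
      (xg_mem_genS hg (S := Set.Iio T.N) hg.N_pos 1)
    exact one_ne_zero (xg_injective hg (n_pos g) (h1.trans (xg_zero hg _).symm))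
  -- write `x` as a conjugator of the lowest root group
  obtain ⟨L, hL, eL⟩ := exists_word_long g (n_pos g) (lng_zero g)
  obtain ⟨ε, hε, -⟩ := nWd_conj_col (F := F) hg hL (top_lt g)
  rw [eL] at hε
  set n := nWd hg F L
  have hn : n ∈ T.D.group F := fixElem_le_group' hg σ (nWd_mem_fixElem hg σ L)
  obtain ⟨u, hu, r, hr, hlr, χ, hχ, -⟩ := exists_form g (mul_mem hx (inv_mem hn))
  set c : F := (χ : F) * ((ε : F) * τ)
  have e' : i = u * xg hg r c * u⁻¹ := by
    rw [e, ← hχ, ← hε]; simp only [mul_inv_rev, inv_inv, mul_assoc, inv_mul_cancel_left]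
  clear_value c
  set a := xg hg r c
  set b := xg hg (top T) (1 : F)
  set π := i * b with hπ
  have hπu : π = u * (a * b) * u⁻¹ := by
    rw [hπ, e', mul_assoc (u * a), ← (pos_commute_top g (inv_mem hu) 1).eq]
    simp only [mul_assoc, b]
  have hlu : xg hg 0 (1 : F) * b = f (low 1 * up 1) := by rw [map_mul, hlow, hup]
  have hπd : π = xg hg k 1 * f (low 1 * up 1) := by
    rw [hπ, hi, (hc0 1 1).eq, mul_assoc, hlu]
  have hcomm : Commute (xg hg k 1) (f (low 1 * up 1)) := by
    rw [← hlu]; exact (hc0 1 1).symm.mul_right (hcR 1 1).symm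
  have hm : (low (1 : F) * up 1).1 = !![1, 1; 1, 0] := by
    rw [Matrix.SpecialLinearGroup.coe_mul, SL2Pres.low_val, SL2Pres.up_val, Matrix.mul_fin_two]
    ext p q
    fin_cases p <;> fin_cases q <;> simp [show (1 : F) + 1 = 0 by linear_combination h2]
  have h11 : (1 : F) + 1 = 0 := by linear_combination h2
  have hγ2 : (low (1 : F) * up 1) ^ 2 ≠ 1 := by
    intro e
    have := congrFun (congrFun (congrArg Subtype.val e) 0) 1
    rw [Matrix.SpecialLinearGroup.coe_pow, hm, pow_two, Matrix.mul_fin_two] at this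
    simp at this
  have hγ3 : (low (1 : F) * up 1) ^ 3 = 1 := by
    apply Subtype.ext
    rw [Matrix.SpecialLinearGroup.coe_pow, hm, pow_succ, pow_two, Matrix.mul_fin_two,
      Matrix.mul_fin_two]
    simp [h11, Matrix.one_fin_two]
  have hk2 : xg hg k (1 : F) * xg hg k 1 = 1 := two_xg_sq hg h2 k 1
  have hπ3 : π ^ 3 = xg hg k 1 := by
    rw [hπd, hcomm.mul_pow, ← map_pow, hγ3, map_one, mul_one, pow_succ, pow_two, hk2, one_mul]
  have hπ3' : π ^ 3 ≠ 1 := by
    rw [hπ3]
    exact fun e => one_ne_zero (xg_injective hg hkn (e.trans (xg_zero hg _).symm))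
  have hπ6 : π ^ 6 = 1 := by rw [show 6 = 3 * 2 from rfl, pow_mul, hπ3, pow_two, hk2]
  have hπ2 : π ^ 2 ≠ 1 := by
    intro e
    rw [hπd, hcomm.mul_pow, pow_two (xg hg k 1), hk2, one_mul, ← map_pow,
      ← map_one f] at e
    exact hγ2 (hinj e)
  have hπp : ∀ m : ℕ, π ^ m = u * (a * b) ^ m * u⁻¹ := fun m => by rw [hπu, conj_pow]
  have haa : a * a = 1 := two_xg_sq hg h2 r c
  have hbb : b * b = 1 := two_xg_sq hg h2 _ 1
  have hab : Commute a b → False := by
    intro h
    apply hπ2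
    rw [hπp, pow_two (a * b), h.symm.mul_mul_mul_comm a b, haa, hbb, one_mul, mul_one, mul_inv_cancel]
  rcases eq_or_ne r 0 with hr0 | hr0
  · -- the lowest root
    have haf : a * b = f (low c * up 1) := by rw [map_mul, hlow, hup]; simp only [a, b, hr0]
    set δ := low c * up (1 : F) with hδ
    have hδ6 : δ ^ 6 = 1 := hinj (by
      rw [map_pow, map_one, ← haf]
      have := hπp 6
      rw [hπ6] at this
      exact conj_eq_one_iff.1 this.symm)
    have hδv : δ.1 = !![1, 1; c, c + 1] := by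
      rw [hδ, Matrix.SpecialLinearGroup.coe_mul, SL2Pres.low_val, SL2Pres.up_val, Matrix.mul_fin_two]
      simp
    have hsq : (δ ^ 3 * δ ^ 3).1 = 1 := by rw [← pow_add, hδ6]; rfl
    obtain ⟨p, q, s, w, hv⟩ : ∃ p q s w, (δ ^ 3).1 = !![p, q; s, w] :=
      ⟨_, _, _, _, Matrix.eta_fin_two _⟩
    have hdet := (δ ^ 3).2
    rw [hv, Matrix.det_fin_two_of] at hdet
    rw [Matrix.SpecialLinearGroup.coe_mul, hv, Matrix.mul_fin_two] at hsq
    have e00 := congrFun (congrFun hsq 0) 0
    have e11 := congrFun (congrFun hsq 1) 1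
    simp at e00 e11
    have htr : (p + w) ^ 2 = 0 := by linear_combination e00 + e11 + 2 * hdet + 2 * h2
    have htr' : p + w = 0 := pow_eq_zero_iff two_ne_zero |>.1 htr
    rw [Matrix.SpecialLinearGroup.coe_pow, hδv, pow_succ, pow_two, Matrix.mul_fin_two,
      Matrix.mul_fin_two] at hv
    have hp := congrFun (congrFun hv 0) 0
    have hw := congrFun (congrFun hv 1) 1
    simp at hp hw
    have hc3 : c * (c + 1) ^ 2 = 0 := by
      linear_combination htr' + hp + hw + (-1 - 4 * c - 2 * c ^ 2) * h2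
    rcases mul_eq_zero.1 hc3 with hc | hc
    · refine hab ?_
      simp only [a, b, hc, xg_zero]
      exact Commute.one_left _
    · have hc1 : c = 1 := by linear_combination (pow_eq_zero_iff two_ne_zero).1 hc - h2
      apply hπ3'
      rw [hπp, haf, ← map_pow, hδ, hc1, hγ3, map_one, mul_one, mul_inv_cancel]
  rcases eq_or_ne r (top T) with hrT | hrT
  · exact hab (by simp only [a, b, hrT]; exact commute_self hg (top T) c 1)
  rcases (long_row g hr).2.2.1 hlr hr0 hrT with hnil | ⟨v, hv, hv1, -, hs, hsv⟩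
  · exact hab (commute_nil g.toGoodA hnil c 1)
  obtain ⟨hr', -, hne, hne', hL'⟩ := trm_spec hs
  obtain ⟨C, hC, -⟩ := single_spec hL'
  have hconj := conj_terms g.toGoodA hr' (top_lt g) hne hne' c (1 : F)
  rw [hC] at hconj
  simp only [List.map_cons, List.map_nil, List.prod_cons, List.prod_nil, mul_one, pow_one] at hconj
  have hbv : Commute b (xg hg v ((C : F) * c)) := commute_top g hv (Or.inl (one_iff.1 hv1).1) _ _
  have hsq : (a * b) ^ 2 = xg hg v ((C : F) * c) := by
    calc (a * b) ^ 2 = (a * b * a⁻¹) * (a * a) * b := by rw [pow_two]; group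
      _ = b * (xg hg v ((C : F) * c) * b) := by rw [hconj, haa, mul_one, mul_assoc]
      _ = _ := by rw [← hbv.eq, ← mul_assoc, hbb, one_mul]
  have hπ4 : π ^ 4 = 1 := by
    rw [hπp, show 4 = 2 * 2 from rfl, pow_mul, hsq, pow_two, two_xg_sq hg h2, mul_one, mul_inv_cancel]
  exact hπ2 (by rw [show 6 = 4 + 2 from rfl, pow_add, hπ4, one_mul] at hπ6; exact hπ6)

variable {σ : F →+* F} {H : Subgroup (GL T.D.Idx F)} (hS : Sett g.toGood σ H)
  (kfin : {t : F | σ t = t}.Finite)
include hS kfin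

/-- What commutes in `H` with a fixed involution is fixed. -/
theorem cent_rat (h2 : (2 : F) = 0) {z y : GL T.D.Idx F} (hz : z ∈ H) (hzr : z ∈ ratS T σ)
    (hz2 : z * z = 1) (hz1 : z ≠ 1) (hy : y ∈ H) (hc : Commute y z) : y ∈ ratS T σ := by
  classical
  have hg := g.toGood
  let k : Subfield F := RingHom.eqLocusField σ (RingHom.id F)
  haveI : Finite k := kfin.to_subtype
  haveI : Fintype k := Fintype.ofFinite k
  have h2k : (2 : k) = 0 := k.subtype.injective (by rw [map_ofNat, map_zero]; exact h2)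
  haveI : Fact (Nat.Prime 2) := ⟨Nat.prime_two⟩
  haveI : CharP k 2 := CharTwo.of_one_ne_zero_of_two_eq_zero one_ne_zero h2k
  -- `z` lies in the elementary fixed group
  have hzf : z ∈ fixElem hg σ := by
    obtain ⟨l, hl, c, hcf, r, hr, e⟩ := fixed_decomp g.toGoodA (hS.le hz) hzr
    set E := fixElem hg σ
    set N := Subgroup.normalizer (E : Set (GL T.D.Idx F))
    have hzN : z ∈ N := fixed_normalizes g.toGoodA (fixElem_le_group' hg σ) le_rfl
      (fun y hy => fixElem_fixed hg σ hy) (hS.le hz) hzr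
    have htN : tor T F c ∈ N := by
      have := mul_mem (mul_mem (inv_mem (Subgroup.le_normalizer hl)) hzN)
        (inv_mem (Subgroup.le_normalizer hr))
      rw [e] at this
      simpa [mul_assoc] using this
    obtain ⟨d, hd⟩ : ∃ d, Fintype.card k = 2 * (d + 1) := by
      obtain ⟨d, hd⟩ := even_iff_two_dvd.1
        (Nat.even_iff.2 (FiniteField.even_card_of_char_two (ringChar.eq k 2)))
      exact ⟨d - 1, by have := Fintype.card_pos (α := k); omega⟩
    have hodd : tor T F c ^ (2 * d + 1) = 1 := by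
      rw [← map_pow, tor_apply]
      rw [show (1 : GL T.D.Idx F) = tor T F 1 from (map_one _).symm, tor_apply]
      refine dg_congr hg fun s hs => ?_
      have hw : σ (wt T F c s : F) = wt T F c s := wt_fixed g hcf hs
      have hq := FiniteField.pow_card_sub_one_eq_one (⟨_, hw⟩ : k) fun h =>
        (wt T F c s).ne_zero (congrArg Subtype.val h)
      rw [hd, show 2 * (d + 1) - 1 = 2 * d + 1 by omega] at hq
      have hq' : (wt T F c s : F) ^ (2 * d + 1) = 1 := congrArg Subtype.val hq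
      refine Units.ext ?_
      simp only [wt, Pi.pow_apply, Pi.one_apply, ← Finset.prod_pow, _root_.one_zpow,
        Finset.prod_const_one, Units.val_one] at hq' ⊢
      rw [← hq', ← Units.val_pow_eq_pow_val, ← Finset.prod_pow]
      refine congrArg Units.val (Finset.prod_congr rfl fun j _ => ?_)
      rw [← _root_.zpow_natCast, ← _root_.zpow_natCast, ← _root_.zpow_mul, ← _root_.zpow_mul, mul_comm]
    set Q := E.subgroupOf N
    have hq : QuotientGroup.mk' Q ⟨z, hzN⟩ = QuotientGroup.mk' Q ⟨tor T F c, htN⟩ := by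
      have hlN : l ∈ N := Subgroup.le_normalizer hl
      have hrN : r ∈ N := Subgroup.le_normalizer hr
      have e' : (⟨z, hzN⟩ : N) = ⟨l, hlN⟩ * ⟨tor T F c, htN⟩ * ⟨r, hrN⟩ := Subtype.ext e
      have hl1 : QuotientGroup.mk' Q (⟨l, hlN⟩ : N) = 1 :=
        (QuotientGroup.eq_one_iff (⟨l, hlN⟩ : N)).2 (Subgroup.mem_subgroupOf.2 hl)
      have hr1 : QuotientGroup.mk' Q (⟨r, hrN⟩ : N) = 1 :=
        (QuotientGroup.eq_one_iff (⟨r, hrN⟩ : N)).2 (Subgroup.mem_subgroupOf.2 hr)
      rw [e', map_mul, map_mul, hl1, hr1, one_mul, mul_one]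
    have h1 : QuotientGroup.mk' Q ⟨tor T F c, htN⟩ ^ (2 * d + 1) = 1 := by
      rw [← map_pow, ← map_one (QuotientGroup.mk' Q)]
      exact congrArg _ (Subtype.ext hodd)
    rw [← hq, pow_succ, pow_mul, ← map_pow, show (⟨z, hzN⟩ : N) ^ 2 = 1 from
      Subtype.ext (by simpa [pow_two] using hz2), map_one, one_pow, one_mul] at h1
    exact (QuotientGroup.eq_one_iff (⟨z, hzN⟩ : N)).1 h1
  -- conjugate it into the positive unipotent group
  obtain ⟨m, hm, hmU⟩ : ∃ m ∈ fixElem hg σ, m * z * m⁻¹ ∈ genS hg F (Set.Ico T.N T.n) := by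
    set f := fieldMap T k.subtype
    have hle : fixElem hg σ ≤ (T.D.group k).map f := by
      refine (Subgroup.closure_le _).2 ?_
      rintro _ ⟨s, t, ht, rfl⟩
      exact ⟨xg hg s (⟨t, ht⟩ : k), xg_mem_group hg _ _, fieldMap_xg hg _ _ _⟩
    have hge : ∀ y ∈ T.D.group k, f y ∈ fixElem hg σ := by
      intro y hy
      rw [ChevalleyDatum.group] at hy
      induction hy using Subgroup.closure_induction with
      | mem y hy =>
        obtain ⟨r, t, hr⟩ := hy
        rw [show y = xg hg r t from eq_xg hg (by rw [hr, ChevalleyDatum.x, dif_pos r.2]), fieldMap_xg]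
        exact xg_mem_fixElem hg _ t.2
      | one => rw [map_one]; exact one_mem _
      | mul a b _ _ ha hb => rw [map_mul]; exact mul_mem ha hb
      | inv a _ ha => rw [map_inv]; exact inv_mem ha
    obtain ⟨z₀, hz₀, e⟩ := hle hzf
    have hinj : Function.Injective f :=
      Units.map_injective (Matrix.map_injective k.subtype.injective)
    have hz₀2 : (⟨z₀, hz₀⟩ : T.D.group k) ^ 2 = 1 := Subtype.ext (hinj (by
      rw [pow_two, Subgroup.coe_mul, map_mul, e, hz2, Subgroup.coe_one, map_one]))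
    obtain ⟨P, hP⟩ := exists_sylow_posU (F := k) g.toGoodA 2
    have hp : IsPGroup 2 (Subgroup.zpowers (⟨z₀, hz₀⟩ : T.D.group k)) := by
      rintro ⟨w, hw⟩
      obtain ⟨j, rfl⟩ := Subgroup.mem_zpowers_iff.1 hw
      refine ⟨1, Subtype.ext ?_⟩
      simp only [pow_one, Subgroup.coe_pow, Subgroup.coe_one]
      rw [← _root_.zpow_natCast, ← _root_.zpow_mul, mul_comm, _root_.zpow_mul, _root_.zpow_natCast,
        hz₀2, _root_.one_zpow]
    obtain ⟨P', hP'⟩ := hp.exists_le_sylow
    obtain ⟨a, ha⟩ := MulAction.exists_smul_eq (T.D.group k) P' P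
    have hmem : a * ⟨z₀, hz₀⟩ * a⁻¹ ∈ (P : Subgroup (T.D.group k)) := by
      rw [← ha]
      exact Subgroup.smul_mem_pointwise_smul _ (MulAut.conj a) _ (hP' (Subgroup.mem_zpowers _))
    rw [hP, Subgroup.mem_subgroupOf, posUnipotent_eq hg] at hmem
    refine ⟨f a, hge _ a.2, ?_⟩
    rw [← e, ← map_inv, ← map_mul, ← map_mul]
    refine genS_induction hg (p := fun y => f y ∈ genS hg F (Set.Ico T.N T.n)) ?_ ?_ hmem
    · rw [map_one]; exact one_mem _
    · intro r hr t y hy
      rw [map_mul, fieldMap_xg]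
      exact mul_mem (xg_mem_genS hg hr _) hy
  set v := m * z * m⁻¹
  set y' := m * y * m⁻¹
  have hy' : y' ∈ H := mul_mem (mul_mem (hS.fix hm) hy) (inv_mem (hS.fix hm))
  have hvf : v ∈ fixElem hg σ := mul_mem (mul_mem hm hzf) (inv_mem hm)
  have hne : Subgroup.zpowers v ≠ ⊥ := fun e => hz1 (by
    rw [Subgroup.zpowers_eq_bot, conj_eq_one_iff] at e; exact e)
  have hU : Subgroup.zpowers v ≤ genS hg F (Set.Ico T.N T.n) := Subgroup.zpowers_le.2 hmU
  obtain ⟨x, φ, l, o⟩ := exists_opt_pos g.toGoodK (Subgroup.zpowers v) hne fun w hw => by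
    simpa using hU hw
  have o' : BTi.Opt hg (Subgroup.zpowers v) (entryHom T σ x) φ l :=
    { o with
      mem := entryHom_group hg σ o.mem
      into := fun w hw => by
        have hwf : entryHom T σ w = w := fixElem_fixed hg σ (Subgroup.zpowers_le.2 hvf hw)
        have := entryHom_genS hg σ (o.into w hw)
        rwa [map_mul, map_mul, map_inv, hwf] at this }
  obtain ⟨n, hn, hp⟩ := lang_parabolic g.toGoodK o.lin o.dom σ o.mem (opt_rel g.toGoodK hne o o')
  have hyN : y' ∈ Subgroup.normalizer (Subgroup.zpowers v : Set (GL T.D.Idx F)) := by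
    have hc' : Commute y' v := (Commute.conj_iff m).2 hc
    rw [Subgroup.mem_normalizer_iff]
    intro w
    constructor
    · intro hw
      obtain ⟨j, rfl⟩ := Subgroup.mem_zpowers_iff.1 hw
      rw [(hc'.zpow_right j).eq, mul_inv_cancel_right]
      exact hw
    · intro hw
      obtain ⟨j, hj⟩ := Subgroup.mem_zpowers_iff.1 hw
      refine Subgroup.mem_zpowers_iff.2 ⟨j, mul_left_cancel (a := y') ?_⟩
      rw [(hc'.zpow_right j).eq, hj, inv_mul_cancel_right]
  have hxyx := BTi.normalizer_le g.toGoodK hne o (hS.le hy') hyN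
  set d := n⁻¹ * y' * n
  have hdP : d ∈ T.D.parabolicSubgroup F (Jf T φ) := by
    have := mul_mem (mul_mem hp hxyx) (inv_mem hp)
    have e : d = (n⁻¹ * x) * (x⁻¹ * y' * x) * (n⁻¹ * x)⁻¹ := by simp only [d]; group
    rw [e]; exact this
  have hdH : d ∈ H := mul_mem (mul_mem (inv_mem (hS.fix hn)) hy') (hS.fix hn)
  have htop : top T ∈ T.outJ (Jf T φ) := by
    refine ⟨top_ge g, top_lt g, ?_⟩
    by_contra! hall
    have hJ : ∀ j < T.l, j ∈ Jf T φ := fun j hj => by
      by_contra hne'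
      have := hall j hj hne'
      have := c_top g hj
      omega
    have h0 : ∀ r, T.N ≤ r → r < T.n → φ r = 0 := by
      intro r hN hr
      by_contra hne'
      obtain ⟨-, -, j, hj, hjn, -⟩ := BTi.lvl_subset_outJ hg o.lin
        (lt_of_le_of_ne (o.dom r hN hr) (Ne.symm hne'))
        (show r ∈ BTi.lvl T φ (φ r) from ⟨⟨hN, hr⟩, le_rfl⟩)
      exact hjn (hJ j hj)
    have : BTi.nsq T φ = 0 := Finset.sum_eq_zero fun r hr => by
      rw [Finset.mem_range] at hr
      by_cases hN : T.N ≤ r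
      · rw [h0 r hN hr]; norm_num
      · have h1 := h0 _ ((N_le_neg_iff hr).2 (not_le.1 hN)) (neg_lt hr)
        rw [o.lin.neg hg hr, neg_eq_zero] at h1
        rw [h1]; norm_num
    rw [o.norm] at this
    exact one_ne_zero this
  have hw : d * xg hg (top T) 1 * d⁻¹ ∈ genS hg F (Set.Ico T.N T.n) :=
    genS_mono hg outJ_pos ((Subgroup.mem_normalizer_iff.1
      (parabolic_normalizes g.toGoodK (Jf T φ) hdP) _).1 (xg_mem_genS hg htop 1))
  have hwr := parab_rat g hS
    (mul_mem (mul_mem hdH (hS.fix (xg_mem_fixElem hg _ (map_one σ)))) (inv_mem hdH))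
    (commute_stab g (posU_le_group hg hw) one_ne_zero (pos_commute_top g hw 1).symm)
  have hd := conj_rat g hS hdH hwr
  have hmr := fixElem_le_ratS hg σ hm
  have hnr := fixElem_le_ratS hg σ hn
  have e : y = m⁻¹ * (n * d * n⁻¹) * m := by simp only [d, y']; group
  rw [e]
  exact mul_mem (mul_mem (inv_mem hmr) (mul_mem (mul_mem hnr hd) (inv_mem hnr))) hmr

/-- Characteristic two: everything is fixed. -/
theorem two_rat (h2 : (2 : F) = 0) {h : GL T.D.Idx F} (hh : h ∈ H) : h ∈ ratS T σ := by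
  have hg := g.toGood
  by_contra hirr
  obtain ⟨i, hif, hi2, hi1, hnc⟩ := exists_not_conj g σ h2
  have hiH : i ∈ H := hS.fix hif
  have hir : i ∈ ratS T σ := fixElem_le_ratS hg σ hif
  set b := xg hg (top T) (1 : F)
  set y := h * b * h⁻¹ with hy
  have hyH : y ∈ H := mul_mem (mul_mem hh (hS.fix (xg_mem_fixElem hg _ (map_one σ)))) (inv_mem hh)
  have hy2 : y * y = 1 := by
    rw [hy, conj_mul, two_xg_sq hg h2, mul_one, mul_inv_cancel]
  have hyr : y ∉ ratS T σ := fun e => hirr (conj_rat g hS hh e)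
  set π := y * i with hπ
  have hπH : π ∈ H := mul_mem hyH hiH
  haveI := hS.fin
  clear_value π
  have hfin : 0 < orderOf π := by
    rw [← Subgroup.orderOf_mk π hπH]; exact orderOf_pos _
  have hπi : i * π * i⁻¹ = π⁻¹ := by
    rw [hπ, inv_eq_of_mul_eq_one_right hi2, mul_inv_rev, inv_eq_of_mul_eq_one_right hi2,
      inv_eq_of_mul_eq_one_right hy2, mul_assoc, mul_assoc, hi2, mul_one]
  have hswap : ∀ j : ℕ, i * π ^ j * i⁻¹ = (π ^ j)⁻¹ := fun j => by
    rw [← conj_pow, hπi, _root_.inv_pow]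
  obtain ⟨m, hm⟩ := Nat.even_or_odd' (orderOf π)
  rcases hm with hm | hm
  · set j := π ^ m with hj
    have hm0 : 0 < m := by omega
    have hj2 : j * j = 1 := by rw [← pow_add, ← two_mul, ← hm, pow_orderOf_eq_one]
    have hj1 : j ≠ 1 := pow_ne_one_of_lt_orderOf hm0.ne' (by omega)
    have hji : Commute j i := by
      have := hswap m
      rw [← hj, inv_eq_of_mul_eq_one_right hj2, mul_inv_eq_iff_eq_mul] at this
      exact this.symm
    have hjy : Commute j y := by
      have e : y = π * i := by rw [hπ, mul_assoc, hi2, mul_one]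
      rw [e]
      exact ((Commute.refl π).pow_left m).mul_right hji
    have hjr := cent_rat g hS kfin h2 hiH hir hi2 hi1 (pow_mem hπH m) hji
    exact hyr (cent_rat g hS kfin h2 (pow_mem hπH m) hjr hj2 hj1 hyH hjy.symm)
  · set x := π ^ (m + 1)
    have hx : x * i * x⁻¹ = y := by
      have h1 : x⁻¹ = i * x * i⁻¹ := (hswap (m + 1)).symm
      calc x * i * x⁻¹ = x * i * (i * x * i⁻¹) := by rw [h1]
        _ = x * (i * i) * x * i⁻¹ := by simp only [mul_assoc]
        _ = π ^ (orderOf π + 1) * i⁻¹ := by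
          rw [hi2, mul_one, ← pow_add, hm, show m + 1 + (m + 1) = 2 * m + 1 + 1 by omega]
        _ = y := by rw [pow_add, pow_orderOf_eq_one, one_mul, pow_one, hπ, mul_inv_cancel_right]
    refine hnc (x⁻¹ * h) (mul_mem (inv_mem (hS.le (pow_mem hπH _))) (hS.le hh)) 1 ?_
    calc i = x⁻¹ * (x * i * x⁻¹) * x := by group
      _ = _ := by rw [hx, hy, mul_inv_rev, inv_inv]; simp only [mul_assoc, b]

end

end Cfsg.Agent.SFMax
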