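import Cfsg.Agent.Lib.SubfieldMax.Basic
import Mathlib.GroupTheory.Index

/-!
A finite group containing the elementary fixed group contains a group over a finite field with all
parameters of its highest root elements.
-/

set_option autoImplicit false

namespace Cfsg.Agent.SFMax

open Cfsg.Lie Cfsg.Agent.Chev Cfsg.Agent.Chev.Tab Cfsg.Agent.ChevAut

variable {T : Tab} {K : List (List ℕ)} {W : List (ℕ × ℕ × ℕ)} {S : List ℕ} {F : Type*} [Field F]

/-- the parameters of the elements of `X_r` in `H` -/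
noncomputable def par (g : T.Good) (H : Subgroup (GL T.D.Idx F)) (r : ℕ) : AddSubgroup F where
  carrier := {t | xg g r t ∈ H}
  zero_mem' := by simp only [Set.mem_setOf_eq, xg_zero]; exact one_mem H
  add_mem' := fun {a b} ha hb => by
    simp only [Set.mem_setOf_eq] at ha hb ⊢
    rw [← xg_add]; exact mul_mem ha hb
  neg_mem' := fun {a} ha => by
    simp only [Set.mem_setOf_eq] at ha ⊢
    rw [← xg_inv]; exact inv_mem ha

theorem mem_par {g : T.Good} {H : Subgroup (GL T.D.Idx F)} {r : ℕ} {t : F} :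
    t ∈ par g H r ↔ xg g r t ∈ H := Iff.rfl

theorem sign_mem {A : AddSubgroup F} {e : F} (he : e * e = 1) {t : F} : e * t ∈ A ↔ t ∈ A := by
  rcases mul_self_eq_one_iff.1 he with rfl | rfl
  · rw [one_mul]
  · rw [neg_one_mul, neg_mem_iff]

theorem unit1_sq {C : ℤ} (h : unit1 C = true) : (C : F) * C = 1 := unit1_cast h

theorem par_finite (g : T.Good) {H : Subgroup (GL T.D.Idx F)} [Finite H] {r : ℕ} (hr : r < T.n) :
    (par g H r : Set F).Finite := by
  rw [← Set.finite_coe_iff]
  exact Finite.of_injective (fun t : par g H r => (⟨xg g r t.1, t.2⟩ : H)) fun a b e =>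
    Subtype.ext (xg_injective g hr (congrArg Subtype.val e))

/-- A finite additive subgroup `A` with `A² = A` and `(t² + t) A ⊆ A` is closed under products. -/
theorem mul_mem_of_sq (h2 : (2 : F) = 0) {A : AddSubgroup F} [Finite A]
    (hsq : ∀ t ∈ A, t * t ∈ A) (hmov : ∀ t ∈ A, ∀ a ∈ A, (t * t + t) * a ∈ A) :
    ∀ x ∈ A, ∀ y ∈ A, x * y ∈ A := by
  classical
  let φ : A →+ A :=
    { toFun := fun t => ⟨(t : F) * t + t, add_mem (hsq _ t.2) t.2⟩
      map_zero' := Subtype.ext (by simp)
      map_add' := fun a b => Subtype.ext (by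
        simp only [AddSubgroup.coe_add]; linear_combination ((a : F) * b) * h2) }
  have hker : Nat.card φ.ker ≤ 2 := by
    refine (Nat.card_le_card_of_injective (fun t : φ.ker => decide (((t : A) : F) = 0)) ?_).trans
      (by simp)
    intro a b e
    have key : ∀ t : φ.ker, ((t : A) : F) = 0 ∨ ((t : A) : F) = 1 := fun t => by
      have h : ((t : A) : F) * (t : A) + (t : A) = 0 := congrArg Subtype.val t.2
      rcases eq_or_ne ((t : A) : F) 0 with h0 | h0
      · exact Or.inl h0
      · have : ((t : A) : F) * (((t : A) : F) + 1) = 0 := by linear_combination h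
        exact Or.inr (by linear_combination (mul_eq_zero.1 this).resolve_left h0 - h2)
    refine Subtype.ext (Subtype.ext ?_)
    simp only [decide_eq_decide] at e
    rcases key a with ha | ha <;> rcases key b with hb | hb
    · rw [ha, hb]
    · exact absurd (e.1 ha) (by rw [hb]; exact one_ne_zero)
    · exact absurd (e.2 hb) (by rw [ha]; exact one_ne_zero)
    · rw [ha, hb]
  have hidx : φ.range.index ≤ 2 := by
    have h1 := φ.range.card_mul_index
    have h2 := φ.ker.card_mul_index
    rw [AddSubgroup.index_ker] at h2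
    rw [← h2, mul_comm (Nat.card φ.ker)] at h1
    have hpos : 0 < Nat.card φ.range := Nat.card_pos
    rw [Nat.eq_of_mul_eq_mul_left hpos h1]
    exact hker
  have hM : ∀ v : A, v ∈ φ.range → ∀ a ∈ A, (v : F) * a ∈ A := by
    rintro _ ⟨t, rfl⟩ a ha
    exact hmov t t.2 a ha
  intro x hx y hy
  by_cases hxM : (⟨x, hx⟩ : A) ∈ φ.range
  · exact hM _ hxM y hy
  by_cases hyM : (⟨y, hy⟩ : A) ∈ φ.range
  · rw [mul_comm]; exact hM _ hyM x hx
  have hi : φ.range.index = 2 := by
    have h0 : φ.range.index ≠ 0 := AddSubgroup.index_ne_zero_of_finite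
    have h1 : φ.range.index ≠ 1 := fun e => hxM (by rw [AddSubgroup.index_eq_one.1 e]; trivial)
    omega
  have hxy := hM _ ((AddSubgroup.add_mem_iff_of_index_two hi).2 (iff_of_false hxM hyM)) x hx
  have e : x * y = ((⟨x, hx⟩ + ⟨y, hy⟩ : A) : F) * x - x * x := by
    simp only [AddSubgroup.coe_add]; ring
  rw [e]
  exact sub_mem hxy (hsq x hx)

section
variable (g : SD T K W S)
include g

variable {σ : F →+* F} {H : Subgroup (GL T.D.Idx F)} (hfix : fixElem g.toGood σ ≤ H)
include hfix

theorem long_par {s : ℕ} (hs : s < T.n) (hl : lng S s = true) (t : F) :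
    (t ∈ par g.toGood H s ↔ t ∈ par g.toGood H (top T)) ∧
      (t ∈ par g.toGood H (top T) → t ∈ par g.toGood H (T.neg s)) := by
  have hg := g.toGood
  obtain ⟨L, hL, e⟩ := exists_word_long g hs hl
  obtain ⟨ε, hε, hc⟩ := nWd_conj (F := F) hg hL (top_lt g)
  have hε' : (ε : F) * ε = 1 := by rw [← Units.val_mul, hε, Units.val_one]
  have hn := hfix (nWd_mem_fixElem hg σ L)
  refine ⟨?_, fun ht => ?_⟩
  · rw [← sign_mem hε' (A := par g.toGood H s), mem_par, mem_par, ← e, ← (hc t).1]
    exact ⟨fun h => by simpa [mul_assoc] using mul_mem (mul_mem (inv_mem hn) h) hn,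
      fun h => mul_mem (mul_mem hn h) (inv_mem hn)⟩
  · obtain ⟨L₀, hL₀, e0⟩ := exists_word_long g (n_pos g) (lng_zero g)
    obtain ⟨δ, hδ, hd⟩ := nWd_conj (F := F) hg hL₀ (top_lt g)
    have hδ' : (δ : F) * δ = 1 := by rw [← Units.val_mul, hδ, Units.val_one]
    have h0 : t ∈ par g.toGood H 0 := by
      rw [← sign_mem hδ' (A := par g.toGood H 0), mem_par, ← e0, ← (hd t).1]
      exact mul_mem (mul_mem (hfix (nWd_mem_fixElem hg σ L₀)) ht)
        (inv_mem (hfix (nWd_mem_fixElem hg σ L₀)))
    rw [← sign_mem hε' (A := par g.toGood H (T.neg s)), mem_par, ← e, ← (hc t).2, neg_top g]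
    exact mul_mem (mul_mem hn h0) (inv_mem hn)

variable [Finite H]

theorem top_par_finite : (par g.toGood H (top T) : Set F).Finite := par_finite _ (top_lt g)

/-- The parameters of the long root elements are closed under products. -/
theorem top_par_mul {t u : F} (ht : t ∈ par g.toGood H (top T)) (hu : u ∈ par g.toGood H (top T)) :
    t * u ∈ par g.toGood H (top T) := by
  have hg := g.toGood
  set A := par hg H (top T) with hA
  have hL : ∀ {s}, s < T.n → lng S s = true → ∀ x : F, x ∈ par hg H s ↔ x ∈ A :=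
    fun hs hl x => (long_par g hfix hs hl x).1
  rcases Bool.or_eq_true_iff.1 g.typeOK with hP | hQ
  · simp only [checkPairLong, Bool.and_eq_true, anyBelow_eq_true] at hP
    obtain ⟨-, r, hr, hlr, s, hs, hls, htr⟩ := hP
    obtain ⟨-, -, h1, h2, hT⟩ := trm_spec htr
    split at hT
    swap
    · exact Bool.noConfusion hT
    rename_i a C heq
    simp only [Bool.and_eq_true] at hT
    obtain ⟨hC, hla⟩ := hT
    have ha : a < T.n := (cTerms_mem hg hr hs (c := (a, C, 1, 1)) (by rw [heq]; simp)).1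
    have e := conj_terms g.toGoodA hr hs h1 h2 t u
    rw [heq] at e
    simp only [List.map_cons, List.map_nil, List.prod_cons, List.prod_nil, mul_one, pow_one] at e
    have hr' : xg hg r t ∈ H := (hL hr hlr t).2 ht
    have hs' : xg hg s u ∈ H := (hL hs hls u).2 hu
    have : xg hg a ((C : F) * t * u) ∈ H := by
      have := mul_mem (inv_mem hs') (mul_mem (mul_mem hr' hs') (inv_mem hr'))
      rwa [e, inv_mul_cancel_left] at this
    rw [← sign_mem (unit1_sq hC), ← mul_assoc]
    exact (hL ha hla _).1 this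
  -- type `B₂`
  simp only [checkQuad, Bool.and_eq_true, nat_beq, anyBelow_eq_true] at hQ
  obtain ⟨⟨⟨⟨⟨⟨hll, -⟩, h45⟩, h56⟩, ⟨i, hi, hi6, hi7⟩⟩, -⟩, hl4⟩ := hQ
  obtain ⟨⟨⟨⟨⟨⟨hl, hN⟩, -⟩, -⟩, -⟩, -⟩, -⟩ := hll
  have hn8 : T.n = 8 := by rw [n_def, hN]
  have htop : top T = 7 := by show T.n - 1 = 7; omega
  rw [hA, htop] at ht hu ⊢
  have hA7 : ∀ x : F, x ∈ A ↔ x ∈ par hg H 7 := fun x => by rw [hA, htop]
  have h4 : ∀ x : F, x ∈ par hg H 7 → xg hg 4 x ∈ H := fun x hx =>
    (hL (by omega) hl4 x).2 ((hA7 x).2 hx)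
  have hc7 : ∀ (r : ℕ), r < 8 → T.N ≤ r → ∀ a b : F, Commute (xg hg 7 a) (xg hg r b) :=
    fun r h8 hrN a b => htop ▸ commute_top g (by omega : r < T.n) (Or.inl hrN) a b
  -- the reflection exchanging `5` and `6`
  have hnH : nG hg F i ∈ H := hfix (by simpa [nWd_cons] using nWd_mem_fixElem hg σ [i])
  have hsign : ∀ s, ((T.eta i s : ℤ) : F) * (T.eta i s : ℤ) = 1 := fun s => by
    rcases eta_cases T i s with e | e <;> simp [e]
  have hi5 : T.ref i 5 = 6 := by rw [← hi6, hg.ref_ref hi (by omega : (6 : ℕ) < T.n)]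
  have h56' : ∀ x : F, xg hg 5 x ∈ H ↔ xg hg 6 x ∈ H := fun x => by
    rw [← mem_par (g := hg), ← mem_par (g := hg),
      ← sign_mem (hsign 5) (A := par hg H 6), mem_par, mem_par,
      ← hi5, ← nG_conj hg hi (by omega : (5 : ℕ) < T.n)]
    exact ⟨fun h => mul_mem (mul_mem hnH h) (inv_mem hnH),
      fun h => by simpa [mul_assoc] using mul_mem (mul_mem (inv_mem hnH) h) hnH⟩
  obtain ⟨-, -, n45, n45', hT⟩ := trm_spec h45
  obtain ⟨C, D, hCD, hC, hD⟩ := doubleSnd_spec hT
  have e45 : ∀ a b : F, xg hg 4 a * xg hg 5 b * (xg hg 4 a)⁻¹ =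
      xg hg 5 b * (xg hg 6 ((C : F) * a * b) * xg hg 7 ((D : F) * a * b ^ 2)) := fun a b => by
    have e := conj_terms g.toGoodA (by omega : 4 < T.n) (by omega : 5 < T.n) n45 n45' a b
    rw [hCD] at e
    simpa [mul_assoc] using e
  set A5 := par hg H 5 with hA5
  haveI : Finite (par hg H 7) := (par_finite hg (by omega : 7 < T.n)).to_subtype
  haveI : Finite A5 := (par_finite hg (by omega : 5 < T.n)).to_subtype
  have h1 : (1 : F) ∈ A5 := hfix (xg_mem_fixElem hg _ (map_one σ))
  have step : ∀ a ∈ par hg H 7, ∀ b ∈ A5,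
      xg hg 6 ((C : F) * a * b) * xg hg 7 ((D : F) * a * b ^ 2) ∈ H := by
    intro a ha b hb
    have hb5 : xg hg 5 b ∈ H := hb
    have := mul_mem (inv_mem hb5) (mul_mem (mul_mem (h4 a ha) hb5) (inv_mem (h4 a ha)))
    rwa [e45, inv_mul_cancel_left] at this
  have hsub : ∀ a ∈ par hg H 7, a ∈ A5 := by
    intro a ha
    have h := step a ha 1 h1
    rw [mul_one, one_pow, mul_one] at h
    have h7 : xg hg 7 ((D : F) * a) ∈ H := (sign_mem (unit1_sq hD) (A := par hg H 7)).2 ha
    have h6 : xg hg 6 ((C : F) * a) ∈ H := by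
      have := mul_mem h (inv_mem h7); rwa [mul_inv_cancel_right] at this
    exact (sign_mem (unit1_sq hC) (A := A5)).1 ((h56' _).2 h6)
  obtain ⟨-, -, n56, n56', hT'⟩ := trm_spec h56
  split at hT'
  swap
  · exact Bool.noConfusion hT'
  rename_i a E heq
  simp only [Bool.and_eq_true, nat_beq] at hT'
  obtain ⟨rfl, hE⟩ := hT'
  have e56 : ∀ a b : F, xg hg 5 a * xg hg 6 b * (xg hg 5 a)⁻¹ =
      xg hg 6 b * xg hg 7 ((E : F) * a * b) := fun a b => by
    have e := conj_terms g.toGoodA (by omega : 5 < T.n) (by omega : 6 < T.n) n56 n56' a b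
    rw [heq] at e
    simpa [mul_assoc] using e
  have prod56 : ∀ a ∈ A5, ∀ b ∈ A5, (2 : F) * (a * b) ∈ par hg H 7 := by
    intro a ha b hb
    have hb' := (h56' b).1 hb
    have ha5 : xg hg 5 a ∈ H := ha
    have h : xg hg 7 ((E : F) * a * b) ∈ H := by
      have := mul_mem (inv_mem hb') (mul_mem (mul_mem ha5 hb') (inv_mem ha5))
      rwa [e56, inv_mul_cancel_left] at this
    rcases Int.natAbs_eq E with e | e <;> rw [hE] at e <;> rw [e] at h
    · simpa [mem_par, mul_assoc] using h
    · have := neg_mem (show (_ : F) ∈ par hg H 7 from h)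
      simpa [mul_assoc] using this
  by_cases h2 : (2 : F) = 0
  · -- even characteristic
    have hneg : ∀ x : F, -x = x := fun x => by linear_combination -x * h2
    have hone : ∀ z : ℤ, (z : F) * z = 1 → (z : F) = 1 := fun z hz => by
      rcases mul_self_eq_one_iff.1 hz with e | e
      · exact e
      · rw [e, hneg]
    have step' : ∀ a ∈ par hg H 7, ∀ b ∈ A5, xg hg 6 (a * b) * xg hg 7 (a * (b * b)) ∈ H :=
      fun a ha b hb => by
        have := step a ha b hb
        rw [hone C (unit1_sq hC), hone D (unit1_sq hD)] at this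
        simpa only [one_mul, pow_two] using this
    have hsq : ∀ b ∈ A5, b * b ∈ par hg H 7 := by
      intro b hb
      have h := step' 1 (hfix (xg_mem_fixElem hg _ (map_one σ))) b hb
      rw [one_mul, one_mul] at h
      have := mul_mem (inv_mem ((h56' b).1 hb)) h
      rwa [inv_mul_cancel_left] at this
    have hsqi : Function.Injective fun x : A5 => (⟨(x : F) * x, hsq _ x.2⟩ : par hg H 7) := by
      intro a b e
      have e' : (a : F) * a = b * b := congrArg Subtype.val e
      exact Subtype.ext (sub_eq_zero.1 (mul_self_eq_zero.1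
        (show ((a : F) - b) * (a - b) = 0 by linear_combination e' + ((b : F) * b - a * b) * h2)))
    have hincl : Function.Injective fun x : par hg H 7 => (⟨x, hsub _ x.2⟩ : A5) :=
      fun a b e => Subtype.ext (congrArg (Subtype.val : A5 → F) e)
    have hsurj : Function.Surjective fun x : A5 => (⟨(x : F) * x, hsq _ x.2⟩ : par hg H 7) :=
      (hsqi.bijective_of_nat_card_le (Nat.card_le_card_of_injective _ hincl)).2
    have heq5 : ∀ x ∈ A5, x ∈ par hg H 7 := fun x hx => by
      obtain ⟨y, hy⟩ := (hincl.bijective_of_nat_card_le (Nat.card_le_card_of_injective _ hsqi)).2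
        ⟨x, hx⟩
      have := y.2
      rwa [show (y : F) = x from congrArg Subtype.val hy] at this
    have hmov : ∀ a ∈ par hg H 7, ∀ b ∈ par hg H 7, (a * a + a) * b ∈ par hg H 7 := by
      intro a ha b hb
      obtain ⟨⟨c, hc⟩, hcb⟩ := hsurj ⟨b, hb⟩
      have hcb' : c * c = b := congrArg Subtype.val hcb
      have h6 := step' a ha c hc
      -- move it by the reflection and by `x₄(1)`
      have h5 : xg hg 5 (a * c) * xg hg 7 (a * (c * c)) ∈ H := by
        have := mul_mem (mul_mem hnH h6) (inv_mem hnH)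
        rw [show ∀ x y n : GL T.D.Idx F, n * (x * y) * n⁻¹ = (n * x * n⁻¹) * (n * y * n⁻¹) from
          fun x y n => by group, nG_conj hg hi (by omega : (6 : ℕ) < T.n),
          nG_conj hg hi (by omega : (7 : ℕ) < T.n), hi6, hi7, hone _ (hsign 6), hone _ (hsign 7),
          one_mul, one_mul] at this
        exact this
      have h4' : xg hg 4 (1 : F) ∈ H := hfix (xg_mem_fixElem hg _ (map_one σ))
      have h67 : xg hg 6 (a * c) * xg hg 7 ((a * c) * (a * c)) ∈ H := by
        have h := mul_mem (inv_mem h5) (mul_mem (mul_mem h4' h5) (inv_mem h4'))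
        have e : xg hg 4 1 * (xg hg 5 (a * c) * xg hg 7 (a * (c * c))) * (xg hg 4 1)⁻¹ =
            (xg hg 5 (a * c) * xg hg 7 (a * (c * c))) *
              (xg hg 6 (a * c) * xg hg 7 ((a * c) * (a * c))) := by
          rw [show ∀ x y n : GL T.D.Idx F, n * (x * y) * n⁻¹ = (n * x * n⁻¹) * (n * y * n⁻¹) from
            fun x y n => by group, e45, hone C (unit1_sq hC), hone D (unit1_sq hD),
            ← (hc7 4 (by omega) (by omega) _ _).eq, mul_inv_cancel_right, one_mul, one_mul, one_mul,
            pow_two]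
          rw [mul_assoc, mul_assoc (xg hg 5 (a * c))]
          congr 1
          exact ((hc7 6 (by omega) (by omega) _ _).mul_right (hc7 7 (by omega) (by omega) _ _)).eq.symm
        rwa [e, inv_mul_cancel_left] at h
      have h := mul_mem (inv_mem h6) h67
      rw [mul_inv_rev, mul_assoc, inv_mul_cancel_left, xg_inv, xg_add] at h
      rw [mem_par]
      convert h using 2
      rw [hneg, ← hcb']
      ring
    exact mul_mem_of_sq h2 (fun x hx => hsq x (hsub x hx)) hmov t ht u hu
  · -- odd characteristic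
    have hdbl : Function.Injective fun x : par hg H 7 => (⟨(x : F) + x, add_mem x.2 x.2⟩ : par hg H 7) :=
      fun a b e => Subtype.ext (mul_left_cancel₀ h2 (by
        have e' : (a : F) + a = b + b := congrArg Subtype.val e
        linear_combination e'))
    obtain ⟨⟨v, hv⟩, e⟩ := (Finite.injective_iff_surjective.1 hdbl)
      ⟨_, prod56 t (hsub t ht) u (hsub u hu)⟩
    have e' : v + v = 2 * (t * u) := congrArg Subtype.val e
    rwa [show t * u = v from mul_left_cancel₀ h2 (by linear_combination -e')]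

/-- `H` contains all root elements over a finite field with all its highest root parameters. -/
theorem upgrade : ∃ L : Subfield F, Finite L ∧
    (∀ t : F, t ∈ L ↔ xg g.toGood (top T) t ∈ H) ∧ ∀ s, ∀ t ∈ L, xg g.toGood s t ∈ H := by
  have hg := g.toGood
  set A := par hg H (top T) with hA
  haveI : Finite A := (top_par_finite g hfix).to_subtype
  have h1 : (1 : F) ∈ A := hfix (xg_mem_fixElem hg _ (map_one σ))
  have hinv : ∀ a ∈ A, a⁻¹ ∈ A := by
    intro a ha
    rcases eq_or_ne a 0 with rfl | h0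
    · rwa [inv_zero]
    have hi : Function.Injective fun x : A => (⟨a * x, top_par_mul g hfix ha x.2⟩ : A) :=
      fun x y e => Subtype.ext (mul_left_cancel₀ h0 (congrArg Subtype.val e))
    obtain ⟨⟨x, hx⟩, e⟩ := (Finite.injective_iff_surjective.1 hi) ⟨1, h1⟩
    rwa [inv_eq_of_mul_eq_one_right (congrArg Subtype.val e)]
  let L : Subfield F :=
    { carrier := (A : Set F)
      mul_mem' := fun ha hb => top_par_mul g hfix ha hb
      one_mem' := h1
      add_mem' := fun ha hb => add_mem ha hb
      zero_mem' := zero_mem A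
      neg_mem' := fun {a} ha => show -a ∈ A from neg_mem ha
      inv_mem' := hinv }
  refine ⟨L, inferInstanceAs (Finite A), fun t => Iff.rfl, fun s t ht => ?_⟩
  by_cases hs : s < T.n
  swap
  · rw [xg_out hg hs]; exact one_mem H
  by_cases hl : lng S s = true
  · exact (long_par g hfix hs hl t).1.2 ht
  obtain ⟨r, hr, hlr, hpr⟩ := (long_row g hs).2.2.2 (by simpa using hl)
  rcases eq_or_ne t 0 with rfl | ht0
  · rw [xg_zero]; exact one_mem H
  have hh : ∀ x : Fˣ, (x : F) ∈ A → hE hg r (x : F) ∈ H := by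
    intro x hx
    have key : ∀ y ∈ A, y ≠ 0 → nE hg r y ∈ H := fun y hy _ => by
      have h1 : xg hg r y ∈ H := (long_par g hfix hr hlr y).1.2 hy
      exact mul_mem (mul_mem h1 ((long_par g hfix hr hlr _).2 (neg_mem (hinv y hy)))) h1
    exact mul_mem (key _ hx x.ne_zero) (key _ (neg_mem h1) (neg_ne_zero.2 one_ne_zero))
  have hs1 : xg hg s (1 : F) ∈ H := hfix (xg_mem_fixElem hg _ (map_one σ))
  rcases Int.natAbs_eq (pr T r s) with e | e <;> rw [hpr] at e
  · have h := hE_xg hg hr hs (Units.mk0 t ht0) (1 : F)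
    rw [e, Nat.cast_one, _root_.zpow_one, Units.val_mk0, mul_one] at h
    rw [← h]
    exact mul_mem (mul_mem (hh (Units.mk0 t ht0) ht) hs1) (inv_mem (hh (Units.mk0 t ht0) ht))
  · have h := hE_xg hg hr hs (Units.mk0 t ht0)⁻¹ (1 : F)
    rw [e, Nat.cast_one, _root_.zpow_neg_one, inv_inv, Units.val_inv_eq_inv_val, Units.val_mk0,
      mul_one] at h
    have hm := hh (Units.mk0 t ht0)⁻¹ (by rw [Units.val_inv_eq_inv_val]; exact hinv t ht)
    rw [Units.val_inv_eq_inv_val, Units.val_mk0] at hm
    rw [← h]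
    exact mul_mem (mul_mem hm hs1) (inv_mem hm)

end

end Cfsg.Agent.SFMax
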