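import Cfsg.Agent.Lib.SubfieldMax.Odd
import Cfsg.Agent.Lib.SubfieldMax.Two
import Cfsg.Agent.Lib.SubfieldMax.Upgrade
import Cfsg.Agent.Lib.SubfieldMax.Exist
import Cfsg.Agent.Lib.ChevAut.SubfieldGroup
import Mathlib.FieldTheory.Finite.GaloisField
import Mathlib.FieldTheory.IsAlgClosed.Basic

/-! Finite groups containing the Chevalley group over a subfield. -/

set_option autoImplicit false

namespace Cfsg.Agent.SFMax

open Cfsg.Lie Cfsg.Agent.Chev Cfsg.Agent.Chev.Tab Cfsg.Agent.ChevAut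

variable {T : Tab} {K : List (List ℕ)} {W : List (ℕ × ℕ × ℕ)} {S : List ℕ} {F : Type*} [Field F]

/-- The fixed field is finite. -/
theorem fix_finite (g : T.Good) {σ : F →+* F} {H : Subgroup (GL T.D.Idx F)} [Finite H]
    (hfix : fixElem g σ ≤ H) : {t : F | σ t = t}.Finite :=
  (par_finite g (H := H) (r := 0) (by have := g.N_pos; have := n_def (T := T); omega)).subset
    fun _ ht => hfix (xg_mem_fixElem g 0 ht)

/-- Without new highest root parameters, everything is fixed. -/
theorem all_rat (g : SD T K W S) {σ : F →+* F} {H : Subgroup (GL T.D.Idx F)}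
    (hS : Sett g.toGood σ H) {h : GL T.D.Idx F} (hh : h ∈ H) : h ∈ ratS T σ := by
  haveI := hS.fin
  have kfin := fix_finite g.toGood hS.fix
  by_cases h2 : (2 : F) = 0
  · exact two_rat g hS kfin h2 hh
  · exact odd_rat g hS kfin h2 hh

theorem group_le_of_xg (g : T.Good) {H : Subgroup (GL T.D.Idx F)} (h : ∀ s, ∀ t : F, xg g s t ∈ H) :
    T.D.group F ≤ H := by
  rw [ChevalleyDatum.group, Subgroup.closure_le]
  rintro y ⟨r, t, hr⟩
  rw [eq_xg g (show (y : Matrix T.D.Idx T.D.Idx F) = T.D.x F r t by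
    rw [hr, ChevalleyDatum.x, dif_pos r.2])]
  exact h _ t

theorem card_fixed_alg [IsAlgClosed F] (p : ℕ) [Fact p.Prime] [CharP F p] {n : ℕ} (hn : 1 ≤ n) :
    Set.ncard {t : F | t ^ p ^ n = t} = p ^ n := by
  classical
  have hp := (Fact.out : p.Prime).one_lt
  have h1 : 1 < p ^ n := Nat.one_lt_pow (by omega) hp
  set f : Polynomial F := Polynomial.X ^ p ^ n - Polynomial.X
  have hdeg : f.natDegree = p ^ n := FiniteField.X_pow_card_sub_X_natDegree_eq F h1
  have hne : f ≠ 0 := FiniteField.X_pow_card_sub_X_ne_zero F h1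
  have hs : f.Separable := galois_poly_separable p _ (dvd_pow_self p (by omega))
  have e : {t : F | t ^ p ^ n = t} = f.rootSet F := by
    ext t
    rw [Polynomial.mem_rootSet_of_ne hne]
    simp [f, sub_eq_zero]
  rw [e, ← Nat.card_coe_set_eq, Nat.card_eq_fintype_card,
    Polynomial.card_rootSet_eq_natDegree hs (IsAlgClosed.splits _), hdeg]

theorem iterateFrobenius_fixed {R : Type*} [CommRing R] (p : ℕ) [ExpChar R p] (n : ℕ) (t : R) :
    iterateFrobenius R p n t = t ↔ t ^ p ^ n = t := by rw [iterateFrobenius_def]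

/-- Subfield subgroups of prime degree are maximal. -/
theorem subfield_maximal [Fintype F] (g : SD T K W S) (p : ℕ) [Fact p.Prime] [CharP F p] {a r : ℕ}
    (ha : 1 ≤ a) (hr : r.Prime) (hF : Fintype.card F = (p ^ a) ^ r) {M : Subgroup (GL T.D.Idx F)}
    (hM : ∀ x : GL T.D.Idx F, x ∈ M ↔ x ∈ T.D.group F ∧
      ∀ i j : T.D.Idx, ((x : Matrix T.D.Idx T.D.Idx F) i j) ^ p ^ a =
        (x : Matrix T.D.Idx T.D.Idx F) i j) :
    M ≠ T.D.group F ∧
      ∀ H : Subgroup (GL T.D.Idx F), M ≤ H → H ≤ T.D.group F → H = M ∨ H = T.D.group F := by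
  classical
  have hg := g.toGood
  haveI : ExpChar F p := ExpChar.prime Fact.out
  set σ := iterateFrobenius F p a
  have hσ : ∀ t : F, σ t = t ↔ t ^ p ^ a = t := iterateFrobenius_fixed p a
  have hMr : ∀ x : GL T.D.Idx F, x ∈ M ↔ x ∈ T.D.group F ∧ x ∈ ratS T σ := by
    intro x
    rw [hM, mem_ratS]
    refine and_congr_right fun _ => ⟨fun h => Units.ext (Matrix.ext fun i j => ?_), fun h i j => ?_⟩
    · rw [entryHom_apply, hσ]; exact h i j
    · rw [← hσ, ← entryHom_apply, h]
  -- the fixed field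
  let k : Subfield F := RingHom.eqLocusField σ (RingHom.id F)
  have hk : ∀ t : F, t ∈ k ↔ t ^ p ^ a = t := hσ
  let e : F ≃+* F := RingEquiv.ofBijective σ ((Finite.injective_iff_bijective).1 σ.injective)
  have he : ∀ (n : ℕ) (t : F), (e ^ n) t = t ^ (p ^ a) ^ n := by
    intro n t
    induction n with
    | zero => simp
    | succ n ih =>
      rw [pow_succ']
      show e ((e ^ n) t) = _
      rw [ih, pow_succ (p ^ a), pow_mul]
      exact iterateFrobenius_def p a _
  have hq1 : 1 < p ^ a := Nat.one_lt_pow (by omega) (Fact.out : p.Prime).one_lt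
  have hlt : p ^ a < Fintype.card F := by
    rw [hF]; exact lt_self_pow₀ hq1 hr.one_lt
  -- some element is not fixed
  obtain ⟨t₀, ht₀⟩ : ∃ t : F, t ^ p ^ a ≠ t := by
    by_contra! hall
    set f : Polynomial F := Polynomial.X ^ p ^ a - Polynomial.X
    have hne : f ≠ 0 := FiniteField.X_pow_card_sub_X_ne_zero F hq1
    have h1 : Finset.univ.card ≤ f.natDegree :=
      Polynomial.card_le_degree_of_subset_roots (fun t _ => by
        rw [Polynomial.mem_roots hne]; simp [f, sub_eq_zero, hall t])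
    rw [FiniteField.X_pow_card_sub_X_natDegree_eq F hq1, Finset.card_univ] at h1
    omega
  have hord : orderOf e = r := by
    haveI : Fact r.Prime := ⟨hr⟩
    refine orderOf_eq_prime (RingEquiv.ext fun t => ?_) fun h => ht₀ ?_
    · rw [he, ← hF, FiniteField.pow_card]; rfl
    · have := he 1 t₀
      rw [pow_one, pow_one, h] at this
      exact this.symm
  obtain ⟨K', _, _, f, hcard, hf⟩ := exists_fixed_field e
  rw [hord, hF] at hcard
  have hkK : Nat.card k = p ^ a := by
    have hK' : Fintype.card K' = p ^ a := (Nat.pow_left_injective hr.ne_zero hcard).symm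
    rw [← hK', ← Nat.card_eq_fintype_card]
    refine (Nat.card_congr (Equiv.ofBijective
      (fun s : K' => (⟨f s, (hf _).2 ⟨s, rfl⟩⟩ : k)) ⟨fun x y h => f.injective (congrArg Subtype.val h),
        fun t => ?_⟩)).symm
    obtain ⟨s, hs⟩ := (hf t).1 t.2
    exact ⟨s, Subtype.ext hs⟩
  refine ⟨fun hMG => ?_, fun H hMH hHG => ?_⟩
  · have h1 : xg hg (top T) t₀ ∈ M := hMG ▸ xg_mem_group hg (top T) t₀
    exact ht₀ ((hσ _).1 ((xg_ratS_iff hg (top_lt g)).1 ((hMr _).1 h1).2))
  have hfix : fixElem hg σ ≤ H := le_trans ((Subgroup.closure_le _).2 (by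
    rintro _ ⟨s, t, ht, rfl⟩
    exact (hMr _).2 ⟨xg_mem_group hg s t, fixElem_le_ratS hg σ (xg_mem_fixElem hg s ht)⟩)) hMH
  haveI : Finite H := inferInstance
  by_cases htop : ∀ t : F, xg hg (top T) t ∈ H → σ t = t
  · refine Or.inl (le_antisymm (fun x hx => (hMr x).2 ⟨hHG hx, ?_⟩) hMH)
    exact all_rat g ⟨hHG, inferInstance, hfix, htop⟩ hx
  push Not at htop
  obtain ⟨t, htH, htσ⟩ := htop
  obtain ⟨L, -, hL, hLH⟩ := upgrade g hfix
  refine Or.inr (le_antisymm hHG (group_le_of_xg hg fun s u => hLH s u ?_))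
  -- there is no field strictly between
  let L' : IntermediateField k F :=
    { L with
      algebraMap_mem' := fun x => (hL (x : F)).2 (hfix (xg_mem_fixElem hg _ x.2)) }
  have hn : Module.finrank k F = r := by
    have h := Module.natCard_eq_pow_finrank (K := k) (V := F)
    rw [hkK, Nat.card_eq_fintype_card, hF] at h
    exact (Nat.pow_right_injective hq1 h).symm
  have hmul := Module.finrank_mul_finrank k L' F
  rw [hn] at hmul
  rcases hr.eq_one_or_self_of_dvd _ ⟨_, hmul.symm⟩ with h | h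
  · exfalso
    rw [IntermediateField.finrank_eq_one_iff] at h
    have : t ∈ (⊥ : IntermediateField k F) := h ▸ (show t ∈ L' from (hL t).2 htH)
    obtain ⟨x, hx⟩ := IntermediateField.mem_bot.1 this
    exact htσ (hx ▸ x.2)
  · have h' := Module.finrank_mul_finrank k L' F
    rw [h, hn] at h'
    have h1 : Module.finrank L' F = 1 := Nat.eq_of_mul_eq_mul_left hr.pos (by rw [h', mul_one])
    rw [IntermediateField.finrank_eq_one_iff_eq_top] at h1
    exact (h1 ▸ IntermediateField.mem_top : u ∈ L')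

/-- A finite group containing the group over a finite field lies between two fixed groups. -/
theorem finite_overgroup [IsAlgClosed F] (g : SD T K W S) (p : ℕ) [Fact p.Prime] [CharP F p] {a : ℕ}
    (ha : 1 ≤ a) {M : Subgroup (GL T.D.Idx F)} (hfin : Finite M) (hMG : M ≤ T.D.group F)
    (hLM : Subgroup.closure {x : GL T.D.Idx F | ∃ (s : ℕ) (t : F), t ^ (p ^ a) = t ∧
      (x : Matrix T.D.Idx T.D.Idx F) = T.D.x F s t} ≤ M) :
    ∃ r : ℕ, 1 ≤ r ∧ Subgroup.closure {x : GL T.D.Idx F | ∃ (s : ℕ) (t : F),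
        t ^ ((p ^ a) ^ r) = t ∧ (x : Matrix T.D.Idx T.D.Idx F) = T.D.x F s t} ≤ M ∧
      ∀ x ∈ M, ∀ i j : T.D.Idx, ((x : Matrix T.D.Idx T.D.Idx F) i j) ^ ((p ^ a) ^ r) =
        (x : Matrix T.D.Idx T.D.Idx F) i j := by
  classical
  have hg := g.toGood
  haveI : ExpChar F p := ExpChar.prime Fact.out
  let σ := fun r => iterateFrobenius F p (a * r)
  have hσ : ∀ (r : ℕ) (t : F), σ r t = t ↔ t ^ (p ^ a) ^ r = t := fun r t => by
    rw [iterateFrobenius_fixed, pow_mul]
  have hgen : ∀ r, Subgroup.closure {x : GL T.D.Idx F | ∃ (s : ℕ) (t : F),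
      t ^ ((p ^ a) ^ r) = t ∧ (x : Matrix T.D.Idx T.D.Idx F) = T.D.x F s t} = fixElem hg (σ r) := by
    intro r
    refine congrArg Subgroup.closure (Set.ext fun x => ?_)
    simp only [Set.mem_setOf_eq, hσ]
    exact ⟨fun ⟨s, t, h, e⟩ => ⟨s, t, h, eq_xg hg e⟩,
      fun ⟨s, t, h, e⟩ => ⟨s, t, h, by rw [e, xg_val]⟩⟩
  let P := fun r => 1 ≤ r ∧ fixElem hg (σ r) ≤ M
  have hbound : ∀ r, P r → r ≤ Nat.card M := by
    rintro r ⟨hr, hle⟩
    have hfS : {t : F | t ^ p ^ (a * r) = t}.Finite :=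
      (fix_finite hg hle).subset fun t ht => ((iterateFrobenius_fixed p _ t).2 ht : σ r t = t)
    have h1 : Set.ncard {t : F | t ^ p ^ (a * r) = t} ≤ Nat.card M := by
      rw [← Nat.card_coe_set_eq]
      exact Nat.card_le_card_of_injective
        (fun t => (⟨xg hg 0 t.1, hle (xg_mem_fixElem hg 0 ((iterateFrobenius_fixed p _ _).2 t.2))⟩ : M))
        fun x y e => Subtype.ext (xg_injective hg (n_pos g) (congrArg Subtype.val e))
    rw [card_fixed_alg p (Nat.one_le_iff_ne_zero.2 (Nat.mul_ne_zero (by omega) (by omega)))] at h1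
    have h2 : a * r < p ^ (a * r) := Nat.lt_pow_self (Fact.out : p.Prime).one_lt
    nlinarith
  obtain ⟨r, ⟨hr, hle⟩, hmax⟩ : ∃ r, P r ∧ ∀ r', P r' → r' ≤ r := by
    have h1 : P 1 := ⟨le_rfl, by rw [← hgen]; simpa using hLM⟩
    refine ⟨_, Nat.findGreatest_spec (P := P) (hbound 1 h1) h1, fun r' hr' => ?_⟩
    exact Nat.le_findGreatest (hbound r' hr') hr'
  refine ⟨r, hr, (hgen r).trans_le hle, fun x hx i j => ?_⟩
  by_cases htop : ∀ t : F, xg hg (top T) t ∈ M → σ r t = t
  · have h := all_rat g ⟨hMG, hfin, hle, htop⟩ hx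
    rw [← hσ, ← entryHom_apply, mem_ratS.1 h]
  exfalso
  push Not at htop
  obtain ⟨t, htM, htσ⟩ := htop
  obtain ⟨L, hLfin, hL, hLM'⟩ := upgrade g hle
  let k : Subfield F := RingHom.eqLocusField (σ r) (RingHom.id F)
  have hkL : k ≤ L := fun u hu => (hL u).2 (hle (xg_mem_fixElem hg _ hu))
  have hkc : Nat.card k = p ^ (a * r) := by
    have e : (k : Set F) = {u : F | u ^ p ^ (a * r) = u} :=
      Set.ext fun u => iterateFrobenius_fixed p (a * r) u
    rw [show Nat.card k = Nat.card (k : Set F) from rfl, Nat.card_coe_set_eq, e,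
      card_fixed_alg p (Nat.one_le_iff_ne_zero.2 (Nat.mul_ne_zero (by omega) (by omega)))]
  -- the bigger field is the fixed field of a power
  letI : Algebra k L := (Subfield.inclusion hkL).toAlgebra
  set j := Module.finrank k L
  have hLc : Nat.card L = p ^ (a * r * j) := by
    rw [Module.natCard_eq_pow_finrank (K := k) (V := L), hkc, ← pow_mul]
  have hj : 2 ≤ j := by
    by_contra! hj
    have hle' : Nat.card L ≤ Nat.card k := by
      rw [hLc, hkc]
      exact Nat.pow_le_pow_right (Fact.out : p.Prime).pos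
        (le_of_le_of_eq (Nat.mul_le_mul_left _ (by omega : j ≤ 1)) (mul_one _))
    obtain ⟨⟨u, hu⟩, e⟩ :=
      ((Subfield.inclusion hkL).injective.bijective_of_nat_card_le hle').2 ⟨t, (hL t).2 htM⟩
    have : u = t := congrArg Subtype.val e
    exact htσ (this ▸ hu)
  have hsub : (L : Set F) = {u : F | u ^ p ^ (a * r * j) = u} := by
    have hcard := card_fixed_alg (F := F) p (n := a * r * j)
      (Nat.one_le_iff_ne_zero.2 (Nat.mul_ne_zero (Nat.mul_ne_zero (by omega) (by omega)) (by omega)))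
    refine Set.eq_of_subset_of_ncard_le (fun u hu => ?_) ?_ ?_
    · haveI := Fintype.ofFinite L
      have := FiniteField.pow_card (⟨u, hu⟩ : L)
      rw [← Nat.card_eq_fintype_card, hLc] at this
      exact congrArg Subtype.val this
    · rw [hcard, ← Nat.card_coe_set_eq]; exact hLc.ge
    · exact Set.finite_of_ncard_pos (by rw [hcard]; exact pow_pos (Fact.out : p.Prime).pos _)
  have hP : P (r * j) := by
    refine ⟨Nat.one_le_iff_ne_zero.2 (Nat.mul_ne_zero (by omega) (by omega)), ?_⟩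
    refine (Subgroup.closure_le _).2 ?_
    rintro _ ⟨s, u, hu, rfl⟩
    refine hLM' s u ?_
    rw [← SetLike.mem_coe, hsub, Set.mem_setOf_eq, mul_assoc]
    exact (iterateFrobenius_fixed p _ u).1 hu
  have := hmax _ hP
  nlinarith

end Cfsg.Agent.SFMax
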