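import Cfsg.Agent.Lib.SubfieldMax.Rows
import Cfsg.Agent.Lib.SubfieldMax.Dickson3
import Cfsg.Agent.Lib.ChevOdd.RootSL2
import Mathlib.FieldTheory.IntermediateField.Adjoin.Basic

/-! Odd characteristic: the elements of `H` are fixed. -/

set_option autoImplicit false

namespace Cfsg.Agent.SFMax

open Cfsg.Lie Cfsg.Agent.Chev Cfsg.Agent.Chev.Tab Cfsg.Agent.ChevAut
open Matrix hiding zpow_mul inv_zpow mul_inv_rev zpow_add zpow_neg
open Polynomial hiding C

variable {T : Tab} {K : List (List ℕ)} {W : List (ℕ × ℕ × ℕ)} {S : List ℕ} {F : Type*} [Field F]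

/-- the upper corner of the powers of `!![1 + X, 1; X, 1]` -/
noncomputable def cornerP (R : Type*) [CommRing R] : ℕ → R[X]
  | 0 => 0
  | 1 => 1
  | n + 2 => (X + 2) * cornerP R (n + 1) - cornerP R n

theorem cornerP_monic (R : Type*) [CommRing R] [Nontrivial R] :
    ∀ n, (cornerP R (n + 1)).Monic ∧ (cornerP R (n + 1)).natDegree = n
  | 0 => by simp [cornerP]
  | 1 => by
    have : cornerP R 2 = X + 2 := by simp [cornerP]
    rw [this, show (2 : R[X]) = Polynomial.C 2 from (map_ofNat Polynomial.C 2).symm]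
    exact ⟨monic_X_add_C _, natDegree_X_add_C _⟩
  | n + 2 => by
    obtain ⟨h1, d1⟩ := cornerP_monic R (n + 1)
    obtain ⟨h0, d0⟩ := cornerP_monic R n
    have hx : (X + 2 : R[X]).Monic ∧ (X + 2 : R[X]).natDegree = 1 := by
      rw [show (2 : R[X]) = Polynomial.C 2 from (map_ofNat Polynomial.C 2).symm]
      exact ⟨monic_X_add_C _, natDegree_X_add_C _⟩
    have hm := hx.1.mul h1
    have hd : ((X + 2) * cornerP R (n + 2)).natDegree = n + 2 := by
      rw [hx.1.natDegree_mul h1, hx.2, d1]; omega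
    have hlt : (cornerP R (n + 1)).degree < ((X + 2) * cornerP R (n + 2)).degree :=
      degree_lt_degree (by rw [hd, d0]; omega)
    have e : cornerP R (n + 2 + 1) = (X + 2) * cornerP R (n + 2) - cornerP R (n + 1) := rfl
    rw [e]
    exact ⟨hm.sub_of_left hlt, by rw [natDegree_sub_eq_left_of_natDegree_lt (by rw [hd, d0]; omega), hd]⟩

theorem cornerP_pow {k : Type*} [Field k] [Algebra k F] (c : F) : ∀ n : ℕ,
    ((!![1 + c, 1; c, 1] : Matrix (Fin 2) (Fin 2) F) ^ n) 0 1 = aeval c (cornerP k n)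
  | 0 => by simp [cornerP]
  | 1 => by simp [cornerP]
  | n + 2 => by
    have hM : (!![1 + c, 1; c, 1] : Matrix (Fin 2) (Fin 2) F) ^ 2 =
        (c + 2) • !![1 + c, 1; c, 1] - 1 := by
      rw [pow_two, Matrix.mul_fin_two]
      ext a b
      fin_cases a <;> fin_cases b <;> simp <;> ring
    rw [pow_add, hM, Matrix.mul_sub, Matrix.mul_one, Matrix.mul_smul, ← pow_succ, Matrix.sub_apply,
      Matrix.smul_apply, cornerP_pow (k := k) c (n + 1), cornerP_pow (k := k) c n,
      show cornerP k (n + 2) = (X + 2) * cornerP k (n + 1) - cornerP k n from rfl]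
    simp [map_ofNat]

section
variable (g : SD T K W S)
include g

theorem hE_top_ne (h2 : (2 : F) ≠ 0) : hE g.toGood (top T) (-1 : F) ≠ 1 := by
  intro e
  obtain ⟨-, hkn, hk⟩ := one_iff.1 (one_high g)
  have h := hE_xg g.toGood (top_lt g) hkn (-1 : Fˣ) (1 : F)
  rw [show pr T (top T) (T.n - 2) = 1 from hk, _root_.zpow_one, Units.val_neg, Units.val_one, e,
    inv_one, one_mul, mul_one, mul_one] at h
  exact h2 (by linear_combination (xg_injective g.toGood hkn h))

variable {σ : F →+* F} {H : Subgroup (GL T.D.Idx F)} (hS : Sett g.toGood σ H)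
  (kfin : {t : F | σ t = t}.Finite)
include hS kfin

/-- The scalar of a conjugate of the lowest root group in `H` is fixed. -/
theorem chi_fixed (h2 : (2 : F) ≠ 0) {h : GL T.D.Idx F} (hh : h ∈ H) {u : GL T.D.Idx F}
    (hu : u ∈ genS g.toGood F (Set.Ico T.N T.n)) {χ : Fˣ}
    (hχ : ∀ t : F, h * xg g.toGood 0 t * h⁻¹ = u * xg g.toGood 0 ((χ : F) * t) * u⁻¹) :
    σ (χ : F) = χ := by
  classical
  have hg := g.toGood
  obtain ⟨φ, hinj, hup, hlow, -⟩ :=
    ChevOdd.exists_rootHom (F := F) g.toGoodW (top_lt g) (top_ge g) (hE_top_ne g h2)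
  let ψ : SpecialLinearGroup (Fin 2) F →* GL T.D.Idx F :=
    (MulAut.conj u).toMonoidHom.comp ((T.D.group F).subtype.comp φ)
  have hψinj : Function.Injective ψ :=
    (MulAut.conj u).injective.comp ((T.D.group F).subtype_injective.comp hinj)
  have hψ : ∀ γ, ψ γ = u * (φ γ : GL T.D.Idx F) * u⁻¹ := fun γ => rfl
  set c : F := (χ : F) with hc
  set J := H.comap ψ with hJ
  have hupJ : ∀ t, σ t = t → SL2Pres.up t ∈ J := by
    intro t ht
    show ψ (SL2Pres.up t) ∈ H
    rw [hψ, hup, ← (pos_commute_top g hu t).eq, mul_inv_cancel_right]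
    exact hS.fix (xg_mem_fixElem hg _ ht)
  have hlowJ : ∀ t, σ t = t → SL2Pres.low (t * c) ∈ J := by
    intro t ht
    show ψ (SL2Pres.low (t * c)) ∈ H
    rw [hψ, hlow, neg_top g, mul_comm t c, ← hχ]
    exact mul_mem (mul_mem hh (hS.fix (xg_mem_fixElem hg _ ht))) (inv_mem hh)
  haveI hJfin : Finite J := by
    haveI := hS.fin
    exact Finite.of_injective (fun γ : J => (⟨ψ γ.1, γ.2⟩ : H)) fun a b e =>
      Subtype.ext (hψinj (congrArg Subtype.val e))
  have hback : ∀ t, SL2Pres.up t ∈ J → σ t = t := by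
    intro t ht
    have h1 : ψ (SL2Pres.up t) ∈ H := ht
    rw [hψ, hup, ← (pos_commute_top g hu t).eq, mul_inv_cancel_right] at h1
    exact hS.top t h1
  -- the fixed field, and `c` is algebraic over it
  let k : Subfield F := RingHom.eqLocusField σ (RingHom.id F)
  haveI : Finite k := kfin.to_subtype
  have hmem : ∀ t : k, σ (t : F) = t := fun t => t.2
  have halg : IsAlgebraic k c := by
    set γ : SpecialLinearGroup (Fin 2) F := SL2Pres.up 1 * SL2Pres.low c with hγ
    have hγJ : γ ∈ J := mul_mem (hupJ 1 (map_one σ)) (by simpa using hlowJ 1 (map_one σ))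
    obtain ⟨n, hn, hpow⟩ := (isOfFinOrder_of_finite (⟨γ, hγJ⟩ : J)).exists_pow_eq_one
    have hval : (γ : Matrix (Fin 2) (Fin 2) F) = !![1 + c, 1; c, 1] := by
      rw [hγ, Matrix.SpecialLinearGroup.coe_mul]
      show !![1, (1 : F); 0, 1] * !![1, 0; c, 1] = _
      rw [Matrix.mul_fin_two]
      ext a b
      fin_cases a <;> fin_cases b <;> simp
    have hpow' : γ ^ n = 1 := congrArg Subtype.val hpow
    have h1 := congrArg (fun M : SpecialLinearGroup (Fin 2) F =>
      (M : Matrix (Fin 2) (Fin 2) F) 0 1) hpow'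
    simp only [Matrix.SpecialLinearGroup.coe_pow, hval, cornerP_pow (k := k),
      Matrix.SpecialLinearGroup.coe_one] at h1
    obtain ⟨m, rfl⟩ : ∃ m, n = m + 1 := ⟨n - 1, by omega⟩
    exact ⟨cornerP k (m + 1), (cornerP_monic k m).1.ne_zero, by rw [h1]; simp⟩
  let E : IntermediateField k F := IntermediateField.adjoin k ({c} : Set F)
  haveI : FiniteDimensional k E :=
    IntermediateField.adjoin.finiteDimensional (isAlgebraic_iff_isIntegral.1 halg)
  haveI : Finite E := Module.finite_of_finite k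
  let α : E := ⟨c, IntermediateField.mem_adjoin_simple_self k c⟩
  have hgen : IntermediateField.adjoin k ({α} : Set E) = ⊤ := by
    apply IntermediateField.map_injective E.val
    rw [IntermediateField.adjoin_map, ← AlgHom.fieldRange_eq_map]
    simp [E, α]
  have hα : α ≠ 0 := fun e => χ.ne_zero (congrArg (Subtype.val : E → F) e)
  have h2k : (2 : k) ≠ 0 := fun e => h2 (by simpa only [map_ofNat, map_zero] using congrArg k.subtype e)
  let f : E →+* F := E.val.toRingHom
  have hgrp : DicksonAlpha.grp (k := k) α ≤ J.comap (Matrix.SpecialLinearGroup.map f) := by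
    rw [DicksonAlpha.grp, Subgroup.closure_le]
    rintro _ (⟨t, rfl⟩ | ⟨t, rfl⟩)
    · show Matrix.SpecialLinearGroup.map f _ ∈ J
      convert hupJ (t : F) (hmem t) using 1
      apply Subtype.ext
      ext a b
      fin_cases a <;> fin_cases b <;> simp [PStable.upp_val, SL2Pres.up_val, f] <;> rfl
    · show Matrix.SpecialLinearGroup.map f _ ∈ J
      convert hlowJ (t : F) (hmem t) using 1
      apply Subtype.ext
      ext a b
      fin_cases a <;> fin_cases b <;> simp [PStable.low_val, SL2Pres.low_val, f, α] <;>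
        first | rfl | exact Or.inl rfl
  have hupp : ∀ x : E, Matrix.SpecialLinearGroup.map f (PStable.upp x) = SL2Pres.up (x : F) := by
    intro x
    apply Subtype.ext
    ext a b
    fin_cases a <;> fin_cases b <;> simp [PStable.upp_val, SL2Pres.up_val, f]
  rcases DicksonAlpha.finite_case' h2k hgen hα with htop | ⟨hk3, γ, hγ, hγu⟩
  · have := hgrp (htop ▸ Subgroup.mem_top (PStable.upp α))
    rw [Subgroup.mem_comap, hupp] at this
    exact hback _ this
  -- the exceptional case of the field with three elements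
  exfalso
  set γ' := Matrix.SpecialLinearGroup.map f γ with hγ'
  have hγJ : γ' ∈ J := hgrp hγ
  have hrel : γ' * SL2Pres.up 1 = SL2Pres.up (-1) * γ' := by
    have := congrArg (Matrix.SpecialLinearGroup.map f) hγu
    rwa [map_mul, map_mul, hupp, hupp, OneMemClass.coe_one, NegMemClass.coe_neg,
      OneMemClass.coe_one] at this
  obtain ⟨a, b, cc, d, hv⟩ : ∃ a b cc d, (γ' : Matrix (Fin 2) (Fin 2) F) = !![a, b; cc, d] :=
    ⟨_, _, _, _, Matrix.eta_fin_two _⟩
  have hdet := γ'.2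
  rw [hv, Matrix.det_fin_two_of] at hdet
  have e1 := congrArg (fun M : SpecialLinearGroup (Fin 2) F => (M : Matrix (Fin 2) (Fin 2) F)) hrel
  simp only [Matrix.SpecialLinearGroup.coe_mul, hv, SL2Pres.up_val, Matrix.mul_fin_two] at e1
  have e00 := congrFun (congrFun e1 0) 0
  have e01 := congrFun (congrFun e1 0) 1
  simp at e00 e01
  have hcc : cc = 0 := by linear_combination e00
  have hd : d = -a := by linear_combination e01
  rw [hcc, hd] at hdet
  have ha : a * a = -1 := by linear_combination -hdet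
  have ha0 : a ≠ 0 := fun e => by simp [e] at ha
  -- `ψ γ'` lies in the parabolic subgroup
  set δ := ψ γ' with hδ
  have hδH : δ ∈ H := hγJ
  have hδtop : δ * xg hg (top T) 1 * δ⁻¹ = xg hg (top T) (-1 : F) := by
    have h1 : ψ (SL2Pres.up (1 : F)) = xg hg (top T) 1 := by
      rw [hψ, hup, ← (pos_commute_top g hu 1).eq, mul_inv_cancel_right]
    have h1' : ψ (SL2Pres.up (-1 : F)) = xg hg (top T) (-1) := by
      rw [hψ, hup, ← (pos_commute_top g hu (-1)).eq, mul_inv_cancel_right]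
    rw [← h1, ← h1', hδ, ← map_mul, hrel, map_mul, mul_inv_cancel_right]
  have hδr := parab_rat g hS hδH (stab_top g (hS.le hδH) one_ne_zero hδtop)
  obtain ⟨hkN, hkn, hk1⟩ := one_iff.1 (one_high g)
  set k' := T.n - 2 with hk'
  have hdiag : (φ (SL2Pres.diagS F (Units.mk0 a ha0)) : GL T.D.Idx F) = hE hg (top T) a := by
    rw [ChevOdd.diagS_eq]
    simp only [map_mul, Subgroup.coe_mul, hup, hlow, hE, nE, Units.val_mk0]
  have hγdec : γ' = SL2Pres.diagS F (Units.mk0 a ha0) * SL2Pres.up (b / a) := by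
    apply Subtype.ext
    rw [Matrix.SpecialLinearGroup.coe_mul, hv, hcc, hd, SL2Pres.diagS_val, SL2Pres.up_val,
      Matrix.mul_fin_two]
    have hinv : a⁻¹ = -a := inv_eq_of_mul_eq_one_right (by linear_combination -ha)
    ext i j
    fin_cases i <;> fin_cases j <;> simp [Units.val_inv_eq_inv_val, hinv]
    all_goals field_simp
  have hφk : (φ γ' : GL T.D.Idx F) * xg hg k' 1 * (φ γ' : GL T.D.Idx F)⁻¹ = xg hg k' a := by
    rw [hγdec, map_mul, Subgroup.coe_mul, hdiag, hup,
      show ∀ A B y : GL T.D.Idx F, A * B * y * (A * B)⁻¹ = A * (B * y * B⁻¹) * A⁻¹ from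
      fun A B y => by group, (commute_top g hkn (Or.inl hkN) (b / a) 1).eq, mul_inv_cancel_right]
    have := hE_xg hg (top_lt g) hkn (Units.mk0 a ha0) (1 : F)
    rw [show pr T (top T) k' = 1 from hk1, _root_.zpow_one, Units.val_mk0, mul_one] at this
    exact this
  obtain ⟨z₀, hz₀, e0⟩ := pos_conj_low g.toGoodA hkN hkn (inv_mem hu) 1
  obtain ⟨z₁, hz₁, e1'⟩ := pos_conj_low g.toGoodA hkN hkn hu a
  have hz0c : ∀ z ∈ genS hg F (Set.Ico (k' + 1) T.n), ∃ w : F, z = xg hg (top T) w := by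
    intro z hz
    have : T.n ≤ k' + 1 + 1 := by omega
    refine genS_induction hg (p := fun z => ∃ w : F, z = xg hg (top T) w)
      ⟨0, (xg_zero hg _).symm⟩ ?_ hz
    rintro r ⟨hr1, hr2⟩ t y ⟨w, rfl⟩
    obtain rfl : r = top T := by have : top T = T.n - 1 := rfl; omega
    exact ⟨t + w, by rw [xg_add]⟩
  obtain ⟨w₀, rfl⟩ := hz0c z₀ hz₀
  obtain ⟨w₁, rfl⟩ := hz0c z₁ hz₁
  have hres : δ * xg hg k' 1 * δ⁻¹ = xg hg k' a * xg hg (top T) (w₁ + -w₀) := by
    have hφR : (φ γ' : GL T.D.Idx F) * xg hg (top T) w₀ * (φ γ' : GL T.D.Idx F)⁻¹ =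
        xg hg (top T) (-w₀) := by
      rw [hγdec, map_mul, Subgroup.coe_mul, hdiag, hup,
        show ∀ A B y : GL T.D.Idx F, A * B * y * (A * B)⁻¹ = A * (B * y * B⁻¹) * A⁻¹ from
        fun A B y => by group, (commute_self hg (top T) (b / a) w₀).eq, mul_inv_cancel_right]
      have := hE_xg hg (top_lt g) (top_lt g) (Units.mk0 a ha0) w₀
      rw [pr_self hg (top_lt g), Units.val_zpow_eq_zpow_val, Units.val_mk0, _root_.zpow_two, ha,
        neg_one_mul] at this
      exact this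
    calc δ * xg hg k' 1 * δ⁻¹
        = u * ((φ γ' : GL T.D.Idx F) * (u⁻¹ * xg hg k' 1 * u⁻¹⁻¹) * (φ γ' : GL T.D.Idx F)⁻¹) * u⁻¹ := by
          rw [hδ, hψ]; group
      _ = (u * ((φ γ' : GL T.D.Idx F) * xg hg k' 1 * (φ γ' : GL T.D.Idx F)⁻¹) * u⁻¹) *
            (u * ((φ γ' : GL T.D.Idx F) * xg hg (top T) w₀ * (φ γ' : GL T.D.Idx F)⁻¹) * u⁻¹) := by
          rw [e0]; group
      _ = _ := by
          rw [hφk, hφR, e1', ← (pos_commute_top g hu (-w₀)).eq, mul_inv_cancel_right, mul_assoc,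
            xg_add]
  have hrat : σ a = a := by
    have h1 : xg hg k' a * xg hg (top T) (w₁ + -w₀) ∈ H := by
      rw [← hres]
      exact mul_mem (mul_mem hδH (hS.fix (xg_mem_fixElem hg _ (map_one σ)))) (inv_mem hδH)
    exact coord_two g hS (one_high g) h1
  have hak : (⟨a, hrat⟩ : k) ^ 2 = 1 := by
    haveI : Fintype k := Fintype.ofFinite k
    have := FiniteField.pow_card_sub_one_eq_one (⟨a, hrat⟩ : k) fun e => ha0 (congrArg Subtype.val e)
    rwa [← Nat.card_eq_fintype_card, hk3] at this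
  have h5 : a ^ 2 = 1 := by simpa using congrArg Subtype.val hak
  exact h2 (by linear_combination ha - h5)

omit kfin in
/-- The scalars cannot all be fixed. -/
theorem no_fixed_chi {h : GL T.D.Idx F} (hh : h ∈ H) (hirr : h ∉ ratS T σ)
    (hfix : ∀ y ∈ H, y ∉ ratS T σ →
      σ (ev ((y : Matrix T.D.Idx T.D.Idx F) *ᵥ bas T F (T.l + 0)) (T.l + 0)) =
        ev ((y : Matrix T.D.Idx T.D.Idx F) *ᵥ bas T F (T.l + 0)) (T.l + 0))
    (h2 : checkPairLong T S = true ∨ (2 : F) ≠ 0) : False := by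
  classical
  have hg := g.toGood
  have hn := n_pos g
  -- coordinates at long roots
  have hmv : ∀ m ∈ fixElem hg σ, ∀ y : GL T.D.Idx F, y ∈ H → y ∉ ratS T σ →
      m * y ∈ H ∧ m * y ∉ ratS T σ := fun m hm y hy hy' =>
    ⟨mul_mem (hS.fix hm) hy, fun e => hy' (by
      have := mul_mem (inv_mem (fixElem_le_ratS hg σ hm)) e
      rwa [inv_mul_cancel_left] at this)⟩
  set vec : GL T.D.Idx F → T.D.Idx → F := fun y =>
    (y : Matrix T.D.Idx T.D.Idx F) *ᵥ bas T F (T.l + 0) with hvec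
  have hvmul : ∀ m y : GL T.D.Idx F, vec (m * y) = (m : Matrix T.D.Idx T.D.Idx F) *ᵥ vec y :=
    fun m y => by simp only [hvec, Units.val_mul, mulVec_mulVec]
  have hlow : ∀ y ∈ H, y ∉ ratS T σ → ev (vec y) (T.l + 0) ≠ 0 := by
    intro y hy hy'
    obtain ⟨u, hu, χ, -, e⟩ := irr_form g hS hy hy'
    obtain ⟨i, hi⟩ := exists_code hg (show T.l + 0 < T.l + T.n by omega)
    simp only [hvec]
    rw [e, ev_smul, ← hi, ev_code hg, ← apply_eq_col hg, pos_UT hg hu i i le_rfl,
      Matrix.one_apply_eq, mul_one]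
    exact χ.ne_zero
  have hlong : ∀ v < T.n, lng S v = true → ∀ y ∈ H, y ∉ ratS T σ →
      σ (ev (vec y) (T.l + v)) = ev (vec y) (T.l + v) ∧ ev (vec y) (T.l + v) ≠ 0 := by
    intro v hv hlv y hy hy'
    obtain ⟨L, hL, eL⟩ := exists_word_long g hv hlv
    obtain ⟨L₀, hL₀, e0⟩ := exists_word_long g hn (lng_zero g)
    have hM : T.Wd (L₀ ++ L.reverse) := Wd.append_iff.2 ⟨hL₀, hL.reverse⟩
    have eM : T.rw' (L₀ ++ L.reverse) v = 0 := by
      rw [rw'_append, ← eL, rw'_rev hg hL (top_lt g), e0]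
    obtain ⟨w, hw⟩ := nWd_row (F := F) hg hM hv
    have hnm := nWd_mem_fixElem hg σ (L₀ ++ L.reverse)
    obtain ⟨h1, h1'⟩ := hmv _ hnm y hy hy'
    have h3 := hw (vec y)
    rw [← hvmul, eM] at h3
    have hσw : σ (w : F) = w := by
      obtain ⟨i, hi⟩ := exists_code hg (show T.l + 0 < T.l + T.n by omega)
      obtain ⟨j, hj⟩ := exists_code hg (show T.l + v < T.l + T.n by omega)
      have h4 := hw (bas T F (T.l + v))
      rw [eM, ev_bas hg (by omega), if_pos rfl, mul_one, ← hi, ev_code hg, ← hj,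
        ← apply_eq_col hg] at h4
      rw [← h4, ← entryHom_apply, fixElem_fixed hg σ hnm]
    have h5 := hfix _ h1 h1'
    have h6 := hlow _ h1 h1'
    change σ (ev (vec _) _) = ev (vec _) _ at h5
    rw [h3] at h5 h6
    rw [map_mul, hσw] at h5
    exact ⟨mul_left_cancel₀ w.ne_zero h5, (mul_ne_zero_iff.1 h6).2⟩
  have hxrow : ∀ {r : ℕ}, r < T.n → ∀ (t : F) (y : GL T.D.Idx F) {v : ℕ}, v < T.l + T.n →
      ev (vec (xg hg r t * y)) v =
        ((rowOf T r v).map fun q => (q.2.1 : F) * t ^ q.2.2 * ev (vec y) q.1).sum := by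
    intro r hr t y v hv
    rw [hvmul, xg_val, x_row hg hr t _ hv]
  by_cases hP : checkPairLong T S = true
  · simp only [checkPairLong, Bool.and_eq_true, anyBelow_eq_true] at hP
    obtain ⟨⟨s, hs, hrow⟩, -⟩ := hP
    split at hrow
    swap
    · exact Bool.noConfusion hrow
    rename_i a b C heq
    simp only [Bool.and_eq_true, nat_beq, nat_ble, nat_blt] at hrow
    obtain ⟨⟨⟨⟨rfl, hb1⟩, hb2⟩, hbl⟩, hC⟩ := hrow
    obtain ⟨u, hu, rfl⟩ : ∃ u < T.n, b = T.l + u := ⟨b - T.l, by omega, by omega⟩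
    rw [Nat.add_sub_cancel_left] at hbl
    obtain ⟨hu1, hu2⟩ := hlong u hu hbl h hh hirr
    set e0 := ev (vec h) (T.l + 0)
    set e1 := ev (vec h) (T.l + u)
    have h01 : σ e0 = e0 := hfix h hh hirr
    set t := -e0 / ((C : F) * e1) with ht
    have hσt : σ t = t := by
      rw [ht, map_div₀, map_neg, map_mul, map_intCast, h01, hu1]
    obtain ⟨h1, h1'⟩ := hmv _ (xg_mem_fixElem hg s hσt) h hh hirr
    refine hlow _ h1 h1' ?_
    rw [hxrow hs t h (by omega), show T.l + 0 = T.ix 0 from rfl, heq]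
    simp only [List.map_cons, List.map_nil, List.sum_cons, List.sum_nil, pow_zero, pow_one,
      Int.cast_one, add_zero, mul_one, one_mul]
    show e0 + (C : F) * t * e1 = 0
    rw [ht]
    have := unit1_ne (F := F) hC
    field_simp
    ring
  -- type `B₂`
  have h20 : (2 : F) ≠ 0 := h2.resolve_left hP
  have hQ : checkQuad T S = true := by simpa [hP] using g.typeOK
  simp only [checkQuad, Bool.and_eq_true, nat_beq, beq_iff_eq,
    List.all_cons, List.all_nil, Bool.and_true] at hQ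
  obtain ⟨⟨⟨⟨⟨⟨⟨⟨⟨⟨⟨⟨hl, hN⟩, hl3⟩, r2⟩, r51⟩, r53⟩, r50⟩, hall⟩, -⟩, -⟩, -⟩, -⟩, -⟩ := hQ
  obtain ⟨⟨⟨r40, r41⟩, r43⟩, ⟨⟨r60, r61⟩, r63⟩, ⟨⟨r70, r71⟩, r73⟩⟩ := hall
  have hn8 : T.n = 8 := by rw [n_def, hN]
  have i0 : T.ix 0 = 2 := by show T.l + 0 = 2; omega
  have i1 : T.ix 1 = 3 := by show T.l + 1 = 3; omega
  have i3 : T.ix 3 = 5 := by show T.l + 3 = 5; omega
  rw [i0] at r2 r50 r40 r60 r70
  rw [i1] at r51 r41 r61 r71
  rw [i3] at r53 r43 r63 r73
  -- rows at the three coordinates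
  let Q : (T.D.Idx → F) → F := fun e => ev e 2 * ev e 5 + ev e 3 * ev e 3
  have hrows : ∀ r, T.N ≤ r → r < T.n → ∀ (t : F) (e : T.D.Idx → F),
      Q (T.D.x F r t *ᵥ e) = Q e := by
    intro r h1 h2' t e
    simp only [Q]
    rw [x_row hg h2' t e (v := 2) (by omega), x_row hg h2' t e (v := 5) (by omega),
      x_row hg h2' t e (v := 3) (by omega)]
    rcases (by omega : r = 4 ∨ r = 5 ∨ r = 6 ∨ r = 7) with rfl | rfl | rfl | rfl
    · simp [r40, r41, r43]
    · simp [r50, r51, r53]; ring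
    · simp [r60, r61, r63]
    · simp [r70, r71, r73]
  have hQu : ∀ u ∈ genS hg F (Set.Ico T.N T.n),
      Q ((u : Matrix T.D.Idx T.D.Idx F) *ᵥ bas T F (T.l + 0)) = 0 := by
    intro u hu
    refine genS_induction hg (p := fun u : GL T.D.Idx F =>
      Q ((u : Matrix T.D.Idx T.D.Idx F) *ᵥ bas T F (T.l + 0)) = 0) ?_ ?_ hu
    · simp only [Q, Units.val_one, one_mulVec]
      rw [ev_bas hg (by omega), ev_bas hg (by omega), ev_bas hg (by omega)]
      simp [hl]
    · rintro r hr t y hy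
      rw [Units.val_mul, xg_val, ← mulVec_mulVec, hrows r hr.1 hr.2, hy]
  have hQy : ∀ y ∈ H, y ∉ ratS T σ → Q (vec y) = 0 := by
    intro y hy hy'
    obtain ⟨u, hu, χ, -, e⟩ := irr_form g hS hy hy'
    simp only [hvec, Q]
    rw [e, ev_smul, ev_smul, ev_smul]
    have := hQu u hu
    simp only [Q] at this
    linear_combination ((χ : F) * χ) * this
  -- the coordinate at the middle root is fixed
  have hl0 : T.l + 0 = 2 := by omega
  have hfix' : ∀ y ∈ H, y ∉ ratS T σ → σ (ev (vec y) 2) = ev (vec y) 2 ∧ ev (vec y) 2 ≠ 0 := by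
    intro y hy hy'
    have h1 := hfix y hy hy'
    have h2' := hlow y hy hy'
    rw [hl0] at h1 h2'
    simp only [hvec, hl0] at h2' ⊢
    exact ⟨h1, h2'⟩
  obtain ⟨h0σ, h0⟩ := hfix' h hh hirr
  obtain ⟨h3σ, h3⟩ := hlong 3 (by omega) hl3 h hh hirr
  rw [show T.l + 3 = 5 by omega] at h3σ h3
  set e0 := ev (vec h) 2
  set τ := ev (vec h) 3
  set e3 := ev (vec h) 5
  have hx2 : ∀ t : F, ev (vec (xg hg 2 t * h)) 2 = e0 + -2 * t * τ + -(t ^ 2) * e3 := by
    intro t
    rw [hxrow (by omega : 2 < T.n) t h (by omega), r2]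
    simp [e0, τ, e3, add_assoc]
  have hτ : σ τ = τ := by
    obtain ⟨a1, a1'⟩ := hmv _ (xg_mem_fixElem hg 2 (map_one σ)) h hh hirr
    obtain ⟨b1, b1'⟩ := hmv _ (xg_mem_fixElem hg 2 (t := (-1 : F)) (by simp)) h hh hirr
    have p := (hfix' _ a1 a1').1
    have q := (hfix' _ b1 b1').1
    rw [hx2] at p q
    simp only [map_add, map_mul, map_neg, map_pow, map_one, map_ofNat] at p q
    have : (4 : F) * (σ τ - τ) = 0 := by linear_combination q - p
    rcases mul_eq_zero.1 this with e | e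
    · exact absurd (show (2 : F) * 2 = 0 by linear_combination e) (mul_ne_zero h20 h20)
    · exact sub_eq_zero.1 e
  set t := τ / e0 with ht
  have hσt : σ t = t := by rw [ht, map_div₀, hτ, h0σ]
  obtain ⟨c1, c1'⟩ := hmv _ (xg_mem_fixElem hg 5 hσt) h hh hirr
  have hτ' : ev (vec (xg hg 5 t * h)) 3 = 0 := by
    rw [hxrow (by omega : 5 < T.n) t h (by omega), r51]
    simp only [List.map_cons, List.map_nil, List.sum_cons, List.sum_nil]
    show _ = (0 : F)
    simp only [e0, τ] at ht h0 ⊢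
    rw [ht]
    push_cast
    field_simp
    ring
  have hz := hQy _ c1 c1'
  simp only [Q] at hz
  rw [hτ', mul_zero, add_zero] at hz
  obtain ⟨-, h3'⟩ := hlong 3 (by omega) hl3 _ c1 c1'
  rw [show T.l + 3 = 5 by omega] at h3'
  exact mul_ne_zero (hfix' _ c1 c1').2 h3' hz

/-- Odd characteristic: everything is fixed. -/
theorem odd_rat (h2 : (2 : F) ≠ 0) {h : GL T.D.Idx F} (hh : h ∈ H) : h ∈ ratS T σ := by
  by_contra hirr
  refine no_fixed_chi g hS hh hirr (fun y hy hy' => ?_) (Or.inr h2)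
  have hg := g.toGood
  obtain ⟨u, hu, χ, hf, e⟩ := irr_form g hS hy hy'
  obtain ⟨i, hi⟩ := exists_code hg (show T.l + 0 < T.l + T.n by have := n_pos g; omega)
  rw [e, ev_smul, ← hi, ev_code hg, ← apply_eq_col hg, pos_UT hg hu i i le_rfl,
    Matrix.one_apply_eq, mul_one]
  exact chi_fixed g hS kfin h2 hy hu hf

end

end Cfsg.Agent.SFMax
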