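import Cfsg.Agent.Lib.SubfieldMax.Radical

/-! The parabolic subgroup of the highest root meets `H` in fixed elements. -/

set_option autoImplicit false

namespace Cfsg.Agent.SFMax

open Cfsg.Lie Cfsg.Agent.Chev Cfsg.Agent.Chev.Tab Cfsg.Agent.ChevAut
open Matrix hiding zpow_mul inv_zpow mul_inv_rev zpow_add zpow_neg

variable {T : Tab} {K : List (List ℕ)} {W : List (ℕ × ℕ × ℕ)} {S : List ℕ} {F : Type*} [Field F]

/-! ### The grading of the coordinate module -/

theorem grd_linear {r s t : ℕ} {k : ℤ} (h : ∀ j < T.l, T.A j t = T.A j s + k * T.A j r) :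
    grd T t = grd T s + k * grd T r := by
  rw [grd, grd, grd, pr_eq, pr_eq, pr_eq, Finset.mul_sum, ← Finset.sum_add_distrib]
  refine Finset.sum_congr rfl fun j hj => ?_
  rw [h j (Finset.mem_range.1 hj)]; ring

/-- the grade of an index -/
def gI (T : Tab) : T.D.Idx → ℤ := Sum.elim (fun _ => 0) fun s => grd T s.val

/-- root elements shift the grading by multiples of the grade of the root -/
theorem xg_gr (g : T.Good) {r : ℕ} (hr : r < T.n) (t : F) (a b : T.D.Idx) :
    T.D.x F r t a b = (1 : Matrix T.D.Idx T.D.Idx F) a b ∨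
      ∃ m : ℕ, 1 ≤ m ∧ (m ≤ 2 ∨ m ≤ (T.ch r (T.code b - T.l)).length) ∧
        gI T a = gI T b + (m : ℤ) * grd T r := by
  classical
  have hl := g.rank_eq
  rw [apply_eq_col g (T.D.x F r t) a b, one_apply_bas g a b]
  rcases b with ⟨v, hv⟩ | ⟨s, hs⟩
  · rw [show T.code (Sum.inl ⟨v, hv⟩) = v from rfl, col_h g hr (by omega)]
    by_cases ha : T.code a = T.l + r
    · refine Or.inr ⟨1, le_rfl, Or.inl (by norm_num), ?_⟩
      rcases a with ⟨u, hu⟩ | ⟨u, hu⟩ <;> simp only [code] at ha
      · omega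
      · obtain rfl : u = r := by omega
        simp [gI]
    · exact Or.inl (by simp [bas_ne ha])
  · have hs' : s < T.n := by rw [g.nroots_eq] at hs; exact hs
    rw [show T.code (Sum.inr ⟨s, hs⟩) = T.l + s from rfl]
    by_cases h1 : s = r
    · subst h1; exact Or.inl (by rw [col_self g hr])
    by_cases h2 : s = T.neg r
    · subst h2
      rw [col_neg g hr]
      have hneg : grd T (T.neg r) = -grd T r := pr_neg_right g hr
      by_cases ha : T.code a = T.l + r
      · refine Or.inr ⟨2, by norm_num, Or.inl le_rfl, ?_⟩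
        rcases a with ⟨u, hu⟩ | ⟨u, hu⟩ <;> simp only [code] at ha
        · omega
        · obtain rfl : u = r := by omega
          simp only [gI, Sum.elim_inr, hneg]
          push_cast; ring
      · by_cases ha' : T.code a < T.l
        · refine Or.inr ⟨1, le_rfl, Or.inl (by norm_num), ?_⟩
          rcases a with ⟨u, hu⟩ | ⟨u, hu⟩ <;> simp only [code] at ha'
          · simp [gI, hneg]
          · omega
        · refine Or.inl ?_
          simp only [Pi.add_apply, Pi.sub_apply, Pi.smul_apply, Finset.sum_apply, bas_ne ha,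
            smul_zero, sub_zero, add_eq_left]
          rw [Finset.sum_eq_zero, smul_zero]
          intro j hj
          rw [bas_ne (by have := Finset.mem_range.1 hj; omega), smul_zero]
    · rw [col_other g hr hs' h1 h2]
      by_cases ha : ∃ q ∈ (T.ch r s).zipIdx, T.code a = T.l + q.1.1
      · obtain ⟨q, hq, ha⟩ := ha
        have hlen : q.2 < (T.ch r s).length := by
          have := (List.mk_mem_zipIdx_iff_getElem? (l := T.ch r s)).1 (show (q.1, q.2) ∈ _ from hq)
          exact (List.getElem?_eq_some_iff.1 this).1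
        refine Or.inr ⟨q.2 + 1, by omega, Or.inr ?_, ?_⟩
        · rwa [show T.l + s - T.l = s from Nat.add_sub_cancel_left _ _]
        have hne : T.ch r s ≠ [] := fun e => by simp [e] at hq
        have hq' : (q.1, q.2 + 1) ∈ (T.ch r s).zipIdx 1 := by
          rw [List.mk_mem_zipIdx_iff_le_and_getElem?_sub]
          exact ⟨by omega, by rw [Nat.add_sub_cancel]; exact (List.mk_mem_zipIdx_iff_getElem?).1 hq⟩
        obtain ⟨-, -, -, h4, -, -⟩ := chainOK_spec r s 1 _ (g.chain' hr hs' hne).2.2.1 _ hq'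
        dsimp only at h4
        rcases a with ⟨u, hu⟩ | ⟨u, hu⟩ <;> simp only [code] at ha
        · omega
        · obtain rfl : u = q.1.1 := by omega
          simp only [gI, Sum.elim_inr]
          exact grd_linear h4
      · refine Or.inl ?_
        push Not at ha
        rw [Pi.add_apply, add_eq_left, list_sum_apply]
        refine List.sum_eq_zero fun x hx => ?_
        simp only [List.mem_map] at hx
        obtain ⟨q, hq, rfl⟩ := hx
        simp [bas_ne (ha q hq)]

/-- the Levi subgroup -/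
noncomputable def lev0 (g : T.Good) (F : Type*) [Field F] : Subgroup (GL T.D.Idx F) :=
  T.D.diagonalSubgroup F ⊔ genS g F (T.inJ (J0 T))

theorem lev0_induction (g : T.Good) {p : GL T.D.Idx F → Prop} (h1 : p 1)
    (hmul : ∀ x y, p x → p y → p (x * y)) (ht : ∀ c, p (tor T F c))
    (hx : ∀ r ∈ T.inJ (J0 T), ∀ t : F, p (xg g r t)) {x : GL T.D.Idx F} (h : x ∈ lev0 g F) : p x := by
  rw [lev0, diagonalSubgroup_eq g, ← Subgroup.closure_eq (tor T F).range, genS,
    ← Subgroup.closure_union] at h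
  refine Subgroup.closure_induction_left (p := fun y _ => p y) h1 ?_ ?_ h
  · rintro y hy z _ hz
    rcases hy with ⟨c, rfl⟩ | ⟨r, hr, t, rfl⟩
    · exact hmul _ _ (ht c) hz
    · exact hmul _ _ (hx r hr t) hz
  · rintro y hy z _ hz
    rcases hy with ⟨c, rfl⟩ | ⟨r, hr, t, rfl⟩
    · rw [← map_inv]; exact hmul _ _ (ht c⁻¹) hz
    · rw [xg_inv]; exact hmul _ _ (hx r hr _) hz

section
variable (g : SD T K W S)
include g

theorem gI_two {a : T.D.Idx} (h : gI T a = 2) : T.code a = T.l + top T := by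
  rcases a with ⟨u, hu⟩ | ⟨u, hu⟩
  · simp [gI] at h
  · rw [g.toGood.nroots_eq] at hu
    simp only [gI, Sum.elim_inr] at h
    simp only [code, add_right_inj]
    by_cases hN : T.N ≤ u
    · exact ((top_row g hu).1 hN).2.2.1.1 h
    · have h' := ((top_row g (neg_lt hu)).1 ((N_le_neg_iff hu).2 (not_le.1 hN))).1
      rw [show grd T (T.neg u) = -grd T u from pr_neg_right g.toGood hu] at h'
      omega

theorem grd_zero_root : grd T 0 = -2 := by
  rw [← neg_top g, grd, pr_neg_right g.toGood (top_lt g), pr_self g.toGood (top_lt g)]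

theorem gI_neg_two {a : T.D.Idx} (h : gI T a = -2) : T.code a = T.l + 0 := by
  rcases a with ⟨u, hu⟩ | ⟨u, hu⟩
  · simp [gI] at h
  · rw [g.toGood.nroots_eq] at hu
    simp only [gI, Sum.elim_inr] at h
    simp only [code, add_right_inj]
    by_cases hN : T.N ≤ u
    · have h' := ((top_row g hu).1 hN).1
      omega
    · have h' := ((top_row g (neg_lt hu)).1 ((N_le_neg_iff hu).2 (not_le.1 hN))).2.2.1.1
        (by rw [show grd T (T.neg u) = -grd T u from pr_neg_right g.toGood hu]; omega)
      have := congrArg T.neg h'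
      rw [Tab.neg_neg hu, neg_top g] at this
      exact this

theorem lev0_block {x : GL T.D.Idx F} (h : x ∈ lev0 g.toGood F) :
    ∀ a b, gI T a ≠ gI T b → (x : Matrix T.D.Idx T.D.Idx F) a b = 0 := by
  refine lev0_induction g.toGood
    (p := fun x => ∀ a b, gI T a ≠ gI T b → (x : Matrix T.D.Idx T.D.Idx F) a b = 0)
    (fun a b hab => ?_) (fun x y hx hy a b hab => ?_) (fun c a b hab => ?_) (fun r hr t a b hab => ?_) h
  · rw [Units.val_one, Matrix.one_apply_ne]; exact fun e => hab (by rw [e])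
  · rw [Units.val_mul, Matrix.mul_apply]
    refine Finset.sum_eq_zero fun c _ => ?_
    by_cases hac : gI T a = gI T c
    · rw [hy c b (hac ▸ hab), mul_zero]
    · rw [hx a c hac, zero_mul]
  · exact tor_apply_ne c fun e => hab (by rw [e])
  · rcases xg_gr g.toGood hr.1 t a b with h | ⟨m, -, -, h⟩
    · rw [xg_val, h, Matrix.one_apply_ne]; exact fun e => hab (by rw [e])
    · rw [inJ_grd g hr, mul_zero, add_zero] at h
      exact absurd h hab

/-- The Levi subgroup commutes with the torus of the highest root. -/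
theorem lev0_commute_hE {x : GL T.D.Idx F} (h : x ∈ lev0 g.toGood F) (u : Fˣ) :
    Commute (hE g.toGood (top T) (u : F)) x := by
  refine lev0_induction g.toGood (p := fun x => Commute (hE g.toGood (top T) (u : F)) x)
    (Commute.one_right _) (fun x y hx hy => hx.mul_right hy) (fun c => ?_) (fun r hr t => ?_) h
  · rw [hE_eq_tor g.toGood (top_lt g)]
    show _ = _
    rw [← map_mul, ← map_mul, mul_comm]
  · have e := hE_xg g.toGood (top_lt g) hr.1 u t
    rw [show pr T (top T) r = 0 from inJ_grd g hr, _root_.zpow_zero, Units.val_one, one_mul,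
      mul_inv_eq_iff_eq_mul] at e
    exact e

theorem lev0_top {x : GL T.D.Idx F} (h : x ∈ lev0 g.toGood F) {a : F} {k : ℕ}
    (hk : one T k = true) (hx : x * xg g.toGood k 1 * x⁻¹ = xg g.toGood k 1 * xg g.toGood (top T) a) :
    a = 0 := by
  have hg := g.toGood
  obtain ⟨i, hi⟩ := exists_code hg (show T.l + top T < T.l + T.n by have := top_lt g; omega)
  obtain ⟨j, hj⟩ := exists_code hg (show T.l + 0 < T.l + T.n by have := n_pos g; omega)
  have hgi : gI T i = 2 := by
    rcases i with ⟨u, hu⟩ | ⟨u, hu⟩ <;> simp only [code] at hi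
    · have := hg.rank_eq; omega
    · obtain rfl : u = top T := by omega
      simp only [gI, Sum.elim_inr, grd, pr_self hg (top_lt g)]
  have hgj : gI T j = -2 := by
    rcases j with ⟨u, hu⟩ | ⟨u, hu⟩ <;> simp only [code] at hj
    · have := hg.rank_eq; omega
    · obtain rfl : u = 0 := by omega
      simp only [gI, Sum.elim_inr, grd_zero_root g]
  obtain ⟨hkN, hkn, hk1⟩ := one_iff.1 hk
  -- the entry vanishes for `x_k`
  have hlen : (T.ch k 0).length < 4 := by
    have h' := allBelow_eq_true.1 g.oneOK k hkn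
    simp only [hk, Bool.not_true, Bool.false_or, Bool.and_eq_true, nat_blt] at h'
    exact h'.1
  have hzero : T.D.x F k 1 i j = 0 := by
    rcases xg_gr hg hkn (1 : F) i j with e | ⟨m, -, hm, e⟩
    · rw [e, Matrix.one_apply_ne]; intro e'; rw [e', hgj] at hgi; omega
    · rw [hgi, hgj, hk1] at e
      rw [hj, Nat.add_sub_cancel_left] at hm
      omega
  have hrow : ∀ c, c ≠ i → (x : Matrix T.D.Idx T.D.Idx F) i c = 0 := fun c hc =>
    lev0_block g h i c fun e => hc (code_injective hg ((gI_two g (e ▸ hgi)).trans hi.symm))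
  have hcol : ∀ c, c ≠ j → ((x⁻¹ : GL T.D.Idx F) : Matrix T.D.Idx T.D.Idx F) c j = 0 := fun c hc =>
    lev0_block g (inv_mem h) c j fun e =>
      hc (code_injective hg ((gI_neg_two g (e.trans hgj)).trans hj.symm))
  have e := congrArg (fun M : GL T.D.Idx F => (M : Matrix T.D.Idx T.D.Idx F) i j) hx
  have hlhs : ((x * xg hg k 1 * x⁻¹ : GL T.D.Idx F) : Matrix T.D.Idx T.D.Idx F) i j = 0 := by
    rw [Units.val_mul, Units.val_mul, Matrix.mul_apply, Finset.sum_eq_single j]
    · rw [Matrix.mul_apply, Finset.sum_eq_single i]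
      · rw [xg_val, hzero, mul_zero, zero_mul]
      · intro c _ hc; rw [hrow c hc, zero_mul]
      · simp
    · intro c _ hc; rw [hcol c hc, mul_zero]
    · simp
  have hrhs : ((xg hg k 1 * xg hg (top T) a : GL T.D.Idx F) : Matrix T.D.Idx T.D.Idx F) i j =
      -a ^ 2 := by
    have hR : (T.D.x F k 1 *ᵥ bas T F (T.l + top T)) i = 1 := by
      rw [← hi, ← apply_eq_col hg (T.D.x F k 1) i i]
      rcases xg_gr hg hkn (1 : F) i i with e | ⟨m, hm, -, e⟩
      · rw [e, Matrix.one_apply_eq]
      · rw [hk1] at e; omega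
    have hL : (T.D.x F k 1 *ᵥ bas T F (T.l + 0)) i = 0 := by
      rw [← hj, ← apply_eq_col hg (T.D.x F k 1) i j]
      exact hzero
    have hH : (T.D.x F k 1 *ᵥ ∑ v ∈ Finset.range T.l, (T.c (top T) v : F) • bas T F v) i = 0 := by
      rw [mulVec_sum, Finset.sum_apply]
      refine Finset.sum_eq_zero fun v hv => ?_
      have hv' := Finset.mem_range.1 hv
      have hkR : k ≠ top T := fun e => by
        rw [e, grd, pr_self hg (top_lt g)] at hk1; omega
      rw [mulVec_smul, col_h hg hkn hv']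
      simp [bas, hi, show T.l + top T ≠ v by omega, hkR.symm]
    rw [Units.val_mul, xg_val, xg_val, apply_eq_col hg (T.D.x F k 1 * T.D.x F (top T) a) i j, ← mulVec_mulVec, hj,
      show T.l + 0 = T.l + T.neg (top T) by rw [neg_top g], col_neg hg (top_lt g), neg_top g,
      mulVec_add, mulVec_sub, mulVec_smul, mulVec_smul, Pi.add_apply, Pi.sub_apply, Pi.smul_apply,
      Pi.smul_apply, hR, hL, hH]
    simp
  rw [hlhs, hrhs, eq_comm, neg_eq_zero] at e
  exact (pow_eq_zero_iff two_ne_zero).1 e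

theorem diag_le_lev0 : T.D.diagonalSubgroup F ≤ lev0 g.toGood F := le_sup_left

theorem entryHom_lev0 (σ : F →+* F) {x : GL T.D.Idx F} (h : x ∈ lev0 g.toGood F) :
    entryHom T σ x ∈ lev0 g.toGood F := by
  refine lev0_induction g.toGood (p := fun x => entryHom T σ x ∈ lev0 g.toGood F)
    (by rw [map_one]; exact one_mem _) (fun x y hx hy => by rw [map_mul]; exact mul_mem hx hy)
    (fun c => ?_) (fun r hr t => ?_) h
  · rw [entryHom_tor]
    exact diag_le_lev0 g (by rw [diagonalSubgroup_eq g.toGood]; exact ⟨_, rfl⟩)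
  · rw [entryHom_xg]; exact Subgroup.mem_sup_right (xg_mem_genS g.toGood hr _)

theorem parab_split {x : GL T.D.Idx F} (hx : x ∈ T.D.parabolicSubgroup F (J0 T)) :
    ∃ v ∈ genS g.toGood F (T.outJ (J0 T)), ∃ l ∈ lev0 g.toGood F, x = v * l := by
  have hle : lev0 g.toGood F ≤
      Subgroup.normalizer (genS g.toGood F (T.outJ (J0 T)) : Set (GL T.D.Idx F)) :=
    le_trans (le_trans le_sup_right (levi_sup g.toGoodK (J0 T)).le) (parabolic_normalizes g.toGoodK _)
  rw [← levi_sup g.toGoodK (J0 T), ← SetLike.mem_coe] at hx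
  change x ∈ (↑(genS g.toGood F (T.outJ (J0 T)) ⊔ lev0 g.toGood F) : Set (GL T.D.Idx F)) at hx
  rw [Subgroup.coe_mul_of_right_le_normalizer_left _ _ hle] at hx
  obtain ⟨v, hv, l, hl, e⟩ := hx
  exact ⟨v, hv, l, hl, e.symm⟩

theorem out_commutator {v : GL T.D.Idx F} (hv : v ∈ genS g.toGood F (T.outJ (J0 T))) {k : ℕ}
    (hk : k ∈ T.outJ (J0 T)) :
    ∃ a : F, v * xg g.toGood k 1 * v⁻¹ = xg g.toGood k 1 * xg g.toGood (top T) a := by
  refine genS_induction g.toGood (p := fun v => ∃ a : F,
    v * xg g.toGood k 1 * v⁻¹ = xg g.toGood k 1 * xg g.toGood (top T) a) ⟨0, by simp⟩ ?_ hv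
  rintro r hr t y ⟨a, e⟩
  have hc : Commute (xg g.toGood r t) (xg g.toGood (top T) a) :=
    (commute_top g hr.2.1 (Or.inl hr.1) a t).symm
  obtain ⟨b, hb⟩ : ∃ b : F, xg g.toGood r t * xg g.toGood k 1 * (xg g.toGood r t)⁻¹ =
      xg g.toGood k 1 * xg g.toGood (top T) b := by
    have hcomm : Commute (xg g.toGood r t) (xg g.toGood k 1) → ∃ b : F,
        xg g.toGood r t * xg g.toGood k 1 * (xg g.toGood r t)⁻¹ =
          xg g.toGood k 1 * xg g.toGood (top T) b :=
      fun h => ⟨0, by rw [h.eq, mul_inv_cancel_right]; simp⟩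
    rcases (mem_out_iff g).1 hr with h1 | h1
    swap
    · subst h1; exact hcomm (commute_top g hk.2.1 (Or.inl hk.1) _ _)
    rcases (mem_out_iff g).1 hk with h2 | h2
    swap
    · subst h2; exact hcomm (commute_top g hr.2.1 (Or.inl hr.1) _ _).symm
    by_cases hkr : k = r
    · subst hkr; exact hcomm (commute_self _ _ _ _)
    obtain ⟨m, C, -, htr, heq, -, h0⟩ := partner g (F := F) h1
    by_cases hkm : k = m
    · subst hkm
      obtain ⟨q1, q2, q3, q4, -⟩ := trm_spec htr
      exact ⟨(C : F) * t, by rw [conj_terms g.toGoodA q1 q2 q3 q4, heq]; simp⟩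
    · exact hcomm (commute_nil g.toGoodA (h0 k h2 hkr hkm).2 _ _)
  refine ⟨b + a, ?_⟩
  rw [show xg g.toGood r t * y * xg g.toGood k 1 * (xg g.toGood r t * y)⁻¹ =
    xg g.toGood r t * (y * xg g.toGood k 1 * y⁻¹) * (xg g.toGood r t)⁻¹ by group, e,
    show xg g.toGood r t * (xg g.toGood k 1 * xg g.toGood (top T) a) * (xg g.toGood r t)⁻¹ =
    (xg g.toGood r t * xg g.toGood k 1 * (xg g.toGood r t)⁻¹) *
      (xg g.toGood r t * xg g.toGood (top T) a * (xg g.toGood r t)⁻¹) by group, hb, hc.eq,
    mul_inv_cancel_right, mul_assoc, xg_add]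

theorem lev0_centralizes {l : GL T.D.Idx F} (hl : l ∈ lev0 g.toGood F)
    (h : ∀ k ∈ T.outJ (J0 T), Commute l (xg g.toGood k 1)) : l = 1 := by
  have hg := g.toGood
  refine radical_inf_levi g.toGoodK (J0 T) ?_ hl
  obtain ⟨k₀, hk₀, hk₀J⟩ := J0_proper g
  refine centralizer_radical g.toGoodK (conn_transfer hg hg rfl g.connOK) hk₀ hk₀J
    (Subgroup.mem_inf.2 ⟨?_, ?_⟩)
  · rw [← levi_sup g.toGoodK]; exact Subgroup.mem_sup_right hl
  rw [Subgroup.mem_centralizer_iff]
  intro x hx
  refine (genS_induction hg (p := fun x => Commute l x) (Commute.one_right _)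
    (fun k hk t y hy => Commute.mul_right ?_ hy) hx).symm.eq
  by_cases ht : t = 0
  · rw [ht, xg_zero]; exact Commute.one_right _
  rcases (mem_out_iff g).1 hk with hk1 | hk1
  · have hc := lev0_commute_hE g hl (Units.mk0 t ht)
    have e := hE_xg hg (top_lt g) hk.2.1 (Units.mk0 t ht) (1 : F)
    rw [show pr T (top T) k = 1 from (one_iff.1 hk1).2.2, _root_.zpow_one, mul_one,
      Units.val_mk0] at e
    rw [← e]
    exact (hc.symm.mul_right (h k hk)).mul_right hc.symm.inv_right
  · subst hk1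
    obtain ⟨χ, hχ⟩ := parab_top g (x := l) (by rw [← levi_sup g.toGoodK]; exact Subgroup.mem_sup_right hl)
    have h1 := hχ 1
    rw [(h _ hk).eq, mul_inv_cancel_right, mul_one] at h1
    have := hχ t
    rw [← xg_injective hg (top_lt g) h1, one_mul, mul_inv_eq_iff_eq_mul] at this
    exact this

variable {σ : F →+* F} {H : Subgroup (GL T.D.Idx F)} (hS : Sett g.toGood σ H)
include hS

omit hS in
theorem fixed_decomp' {x : GL T.D.Idx F} (hx : x ∈ T.D.group F) (h : entryHom T σ x = x) :
    ∃ u ∈ genS g.toGood F (Set.Ico T.N T.n), u ∈ fixElem g.toGood σ ∧ ∃ c,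
      entryHom T σ (tor T F c) = tor T F c ∧ ∃ r ∈ fixElem g.toGood σ,
      x = u * tor T F c * r := by
  have hg := g.toGood
  obtain ⟨b, hb, _, -, L, hL, ⟨c, rfl⟩, u, hu, rfl⟩ := bruhat_exists g.toGoodA hx
  have hn : nWd hg F L ∈ T.D.monomialSubgroup F := (mem_monomial_iff hg).2 ⟨L, hL, 1, by simp⟩
  have hb' : b * tor T F c ∈ T.D.borelSubgroup F := mul_mem hb (torus_le_borel hg c)
  obtain ⟨v, hv, d, hd⟩ := (mem_borel_iff hg).1 hb'
  have hsb : entryHom T σ (b * tor T F c) ∈ T.D.borelSubgroup F := by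
    rw [hd, map_mul, entryHom_tor]
    exact mul_mem (genS_pos_le_borel hg (fun r hr => hr) (entryHom_genS hg σ hv))
      (torus_le_borel hg _)
  have hsn : entryHom T σ (nWd hg F L) = nWd hg F L := fixElem_fixed hg σ (nWd_mem_fixElem hg σ L)
  have he : b * tor T F c * nWd hg F L * u =
      entryHom T σ (b * tor T F c) * nWd hg F L * entryHom T σ u := by
    conv_lhs => rw [show b * tor T F c * nWd hg F L * u = b * (tor T F c * nWd hg F L) * u by group,
      ← h, show b * (tor T F c * nWd hg F L) * u = b * tor T F c * nWd hg F L * u by group,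
      map_mul, map_mul, hsn]
  obtain ⟨hbb, huu⟩ := (bruhat_unique g.toGoodA hb' hsb hn hn hL (c := 1) (by simp) hu
    (entryHom_genS hg σ hu) he).2 rfl rfl
  rw [hd, map_mul] at hbb
  have hvd : v⁻¹ * entryHom T σ v = tor T F d * (entryHom T σ (tor T F d))⁻¹ := by
    calc v⁻¹ * entryHom T σ v = v⁻¹ * (entryHom T σ v * entryHom T σ (tor T F d)) *
          (entryHom T σ (tor T F d))⁻¹ := by group
      _ = _ := by rw [← hbb]; group
  have h1 := pos_inf_torus hg (mul_mem (inv_mem hv) (entryHom_genS hg σ hv)) (by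
    rw [hvd, diagonalSubgroup_eq hg, entryHom_tor, ← map_inv, ← map_mul]
    exact ⟨_, rfl⟩)
  have hd' : entryHom T σ (tor T F d) = tor T F d := by
    rw [hvd, mul_inv_eq_one] at h1; exact h1.symm
  refine ⟨v, hv, pos_fixed_mem g.toGoodA hv (inv_mul_eq_one.1 h1).symm, d, hd', nWd hg F L * u,
    mul_mem (nWd_mem_fixElem hg σ L) (pos_fixed_mem g.toGoodA (uMinus_le_pos hg L hu) huu.symm), ?_⟩
  rw [← hd]; group

omit hS in
theorem wt_fixed {c : ℕ → Fˣ} (h : entryHom T σ (tor T F c) = tor T F c) {s : ℕ} (hs : s < T.n) :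
    σ (wt T F c s : F) = wt T F c s := by
  have e := congrArg (entryHom T σ) (tor_xg g.toGood c hs (1 : F))
  rw [map_mul, map_mul, map_inv, entryHom_xg, entryHom_xg, h, map_one, tor_xg g.toGood c hs,
    mul_one] at e
  exact (xg_injective g.toGood hs e).symm

theorem coord_two {m : ℕ} (hm : one T m = true) {a b : F}
    (h : xg g.toGood m a * xg g.toGood (top T) b ∈ H) : σ a = a := by
  have hg := g.toGood
  obtain ⟨hmN, hmn, hm1⟩ := one_iff.1 hm
  have hf := fixElem_le_ratS hg σ (radical_fix g hS h (mul_mem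
    (xg_mem_genS hg ((mem_out_iff g).2 (Or.inl hm)) a)
    (xg_mem_genS hg ((mem_out_iff g).2 (Or.inr rfl)) b)))
  rw [mem_ratS, map_mul, entryHom_xg, entryHom_xg] at hf
  have e : xg hg m (-a + σ a) = xg hg (top T) (b + -σ b) := by
    calc xg hg m (-a + σ a)
        = (xg hg m a)⁻¹ * (xg hg m (σ a) * xg hg (top T) (σ b)) * (xg hg (top T) (σ b))⁻¹ := by
          rw [← xg_add, ← xg_inv]; group
      _ = _ := by rw [hf, ← xg_add, ← xg_inv]; group
  have hmR : m < top T := by
    have : m ≠ top T := fun e' => by rw [e', grd, pr_self hg (top_lt g)] at hm1; omega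
    have : top T = T.n - 1 := rfl
    omega
  have h0 := lowest_coeff hg hmN hmn (t := -a + σ a)
    (e ▸ xg_mem_genS hg (S := Set.Ico (m + 1) T.n) ⟨hmR, top_lt g⟩ _)
  linear_combination h0

theorem torus_part {t : ℕ → F} (ht : Supp T t) {c : ℕ → Fˣ}
    (hc : entryHom T σ (tor T F c) = tor T F c)
    (h : ordProd g.toGood T.N t * tor T F c ∈ H) :
    ∀ r, T.N ≤ r → r < T.n → σ (t r) = t r := by
  classical
  have hg := g.toGood
  have hfix : ∀ s < T.n, σ ((wt T F c s : F))⁻¹ = ((wt T F c s : F))⁻¹ := fun s hs => by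
    rw [map_inv₀, wt_fixed g hc hs]
  have conjx : ∀ (t' : ℕ → F), ordProd hg T.N t' * tor T F c ∈ H → ∀ s < T.n, ∀ w : F, σ w = w →
      ordProd hg T.N t' * xg hg s w * (ordProd hg T.N t')⁻¹ ∈ H := by
    intro t' ht' s hs w hw
    have hx : xg hg s ((wt T F c s : F)⁻¹ * w) ∈ H :=
      hS.fix (xg_mem_fixElem hg s (by rw [map_mul, hfix s hs, hw]))
    have := mul_mem (mul_mem ht' hx) (inv_mem ht')
    rwa [show ∀ a b x : GL T.D.Idx F, a * b * x * (a * b)⁻¹ = a * (b * x * b⁻¹) * a⁻¹ from
      fun a b x => by group, tor_xg hg c hs, ← mul_assoc, mul_inv_cancel₀ (Units.ne_zero _),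
      one_mul] at this
  let b : ℕ → Prop := fun r => Bad F T r ∨ r = top T
  let t0 : ℕ → F := fun r => if b r then t r else 0
  let t1 : ℕ → F := fun r => if b r then 0 else t r
  have h1 : ∀ r, T.N ≤ r → r < T.n → σ (t1 r) = t1 r := by
    intro r h1 h2
    simp only [t1]
    split_ifs with hb
    · exact map_zero σ
    by_cases h0 : t r = 0
    · rw [h0, map_zero]
    rcases (mem_out_iff g).1 (ht r h1 h2 h0) with hr | hr
    · exact good_coord g hS ht hr (fun hbad => hb (Or.inl hbad))
        (fun m hm => conjx t h m (one_iff.1 hm).2.1 1 (map_one σ))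
    · exact absurd (Or.inr hr) hb
  have ht0 : Supp0 F T t0 := fun r _ _ h => by
    by_contra hb
    exact h (if_neg hb)
  have hsplit : ordProd hg T.N t = ordProd hg T.N t1 * ordProd hg T.N t0 := by
    refine prod_split (fun r _ => ?_) fun r hr u hu' => ?_
    · simp only [t0, t1]; split_ifs <;> simp
    · rw [List.mem_range'_1] at hr hu'
      by_cases h0 : t u = 0
      · simp [t1, h0]
      simp only [t0]
      split_ifs with hb
      swap
      · rw [xg_zero]; exact Commute.one_left _
      rcases hb with hb | rfl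
      · exact hb.commute g (ht u hu'.1 (by omega) h0) _ _
      · exact commute_top g (by omega) (Or.inl hu'.1) _ _
  have h1f : ordProd hg T.N t1 ∈ H := by
    refine Subgroup.list_prod_mem _ fun y hy => ?_
    obtain ⟨r, hr, rfl⟩ := List.mem_map.1 hy
    rw [List.mem_range'_1] at hr
    exact hS.fix (xg_mem_fixElem hg r (h1 r hr.1 (by omega)))
  have h0H : ordProd hg T.N t0 * tor T F c ∈ H := by
    rw [hsplit, mul_assoc] at h
    exact (Subgroup.mul_mem_cancel_left _ h1f).1 h
  have hb0 : ∀ r, Bad F T r → σ (t0 r) = t0 r := by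
    intro r hr
    obtain ⟨m, s, C, D, hm, hsn, hC, hs0, hτ, -, hmv⟩ := bad_move g hr
    have e := conjx t0 h0H s hsn 1 (map_one σ)
    rw [hmv t0 ht0 1] at e
    have h5 := coord_two g hS hm.one
      ((Subgroup.mul_mem_cancel_left _ (hS.fix (xg_mem_fixElem hg s (map_one σ)))).1 e)
    rw [mul_one, map_mul, hτ σ] at h5
    exact mul_left_cancel₀ hC h5
  -- only the coordinate at the highest root is left
  let t2 : ℕ → F := fun r => if r = top T then 0 else t0 r
  have hsplit2 : ordProd hg T.N t0 = ordProd hg T.N t2 * xg hg (top T) (t0 (top T)) := by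
    obtain ⟨hN, hlt⟩ : T.N ≤ top T ∧ top T < T.n := ⟨top_ge g, top_lt g⟩
    have e : T.n - T.N = (top T - T.N) + 1 := by
      have : top T = T.n - 1 := rfl
      omega
    rw [ordProd, ordProd, e, List.range'_1_concat, List.map_append, List.map_append,
      List.prod_append, List.prod_append, show T.N + (top T - T.N) = top T by omega]
    simp only [List.map_cons, List.map_nil, List.prod_cons, List.prod_nil, mul_one, t2, ↓reduceIte,
      xg_zero]
    congr 1
    refine congrArg List.prod (List.map_congr_left fun r hr => ?_)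
    rw [List.mem_range'_1] at hr
    simp [show r ≠ top T by omega]
  have h2f : ordProd hg T.N t2 ∈ H := by
    refine Subgroup.list_prod_mem _ fun y hy => ?_
    obtain ⟨r, hr, rfl⟩ := List.mem_map.1 hy
    rw [List.mem_range'_1] at hr
    refine hS.fix (xg_mem_fixElem hg r ?_)
    simp only [t2]
    split_ifs with hh
    · exact map_zero σ
    by_cases h0 : t0 r = 0
    · rw [h0, map_zero]
    · exact hb0 r ((ht0 r hr.1 (by omega) h0).resolve_right hh)
  set d := t0 (top T)
  have hd : xg hg (top T) d * tor T F c ∈ H := by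
    rw [hsplit2, mul_assoc] at h0H
    exact (Subgroup.mul_mem_cancel_left _ h2f).1 h0H
  -- the coordinate at the highest root
  have conjd : ∀ s < T.n, xg hg (top T) d * xg hg s 1 * (xg hg (top T) d)⁻¹ ∈ H := by
    intro s hs
    have hx : xg hg s ((wt T F c s : F)⁻¹ * 1) ∈ H :=
      hS.fix (xg_mem_fixElem hg s (by rw [map_mul, hfix s hs, map_one]))
    have := mul_mem (mul_mem hd hx) (inv_mem hd)
    rwa [show ∀ a b x : GL T.D.Idx F, a * b * x * (a * b)⁻¹ = a * (b * x * b⁻¹) * a⁻¹ from
      fun a b x => by group, tor_xg hg c hs, ← mul_assoc, mul_inv_cancel₀ (Units.ne_zero _),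
      one_mul] at this
  have hdd : σ d = d := by
    have hsee := g.seeOK
    simp only [checkSee, Bool.or_eq_true, anyBelow_eq_true, Bool.and_eq_true, beq_iff_eq] at hsee
    have cancel : ∀ (C : ℤ), unit1 C = true → σ ((C : F) * d) = (C : F) * d → σ d = d :=
      fun C hC e => by
        rw [map_mul, map_intCast] at e; exact mul_left_cancel₀ (unit1_ne hC) e
    rcases hsee with ⟨k, hk, hk1, m, hm, ⟨hm1, htr⟩, hmk⟩ |
        ⟨k, hk, hk1, m, hm, hm1, s, hsn, ⟨⟨hs0, htr⟩, htr'⟩, htr''⟩
    · obtain ⟨q1, q2, q3, q4, q5⟩ := trm_spec htr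
      obtain ⟨C, e, hC⟩ := single_spec q5
      have h3 := conjd _ q2
      rw [conj_terms g.toGoodA q1 q2 q3 q4, e] at h3
      simp only [List.map_cons, List.map_nil, List.prod_cons, List.prod_nil, mul_one, pow_one] at h3
      have h4 := coord_two g hS hm1 (a := (C : F) * d) (b := 0) (by
        rw [xg_zero, mul_one]
        exact (Subgroup.mul_mem_cancel_left _ (hS.fix (xg_mem_fixElem hg _ (map_one σ)))).1 h3)
      exact cancel C hC h4
    · obtain ⟨q1, q2, q3, q4, q5⟩ := trm_spec htr
      obtain ⟨C, D, e, hC, hD⟩ := doubleSnd_spec q5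
      have h3 := conjd _ q2
      rw [conj_terms g.toGoodA q1 q2 q3 q4, e] at h3
      simp only [List.map_cons, List.map_nil, List.prod_cons, List.prod_nil, mul_one, pow_one,
        one_pow] at h3
      have hz := (Subgroup.mul_mem_cancel_left _
        (hS.fix (xg_mem_fixElem hg _ (map_one σ)))).1 h3
      obtain ⟨p1, p2, p3, p4, p5⟩ := trm_spec htr'
      obtain ⟨C', D', e', hC', hD'⟩ := doubleSnd_spec p5
      obtain ⟨r1, r2, r3, r4, r5⟩ := trm_spec htr''
      obtain ⟨a, ha⟩ : ∃ a, xg hg m ((C : F) * d) * xg hg k 1 * (xg hg m ((C : F) * d))⁻¹ =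
          xg hg k 1 * xg hg (top T) a :=
        out_commutator g (xg_mem_genS hg ((mem_out_iff g).2 (Or.inl hm1)) _)
          ((mem_out_iff g).2 (Or.inl hk1))
      set X := xg hg m ((C : F) * d) with hX
      set P := xg hg m ((C' : F) * ((D : F) * d)) * xg hg (top T) ((D' : F) * ((D : F) * d))
      have eS : xg hg s ((D : F) * d) * xg hg k 1 * (xg hg s ((D : F) * d))⁻¹ = xg hg k 1 * P := by
        rw [conj_terms g.toGoodA p1 p2 p3 p4, e']; simp [P]
      have hXP : Commute X P := (commute_self _ _ _ _).mul_right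
        (commute_top g (one_iff.1 hm1).2.1 (Or.inl (one_iff.1 hm1).1) _ _).symm
      have e2 : (X * xg hg s ((D : F) * d)) * xg hg k 1 * (X * xg hg s ((D : F) * d))⁻¹ =
          xg hg k 1 * (xg hg (top T) a * P) := by
        rw [show ∀ A B y : GL T.D.Idx F, A * B * y * (A * B)⁻¹ = A * (B * y * B⁻¹) * A⁻¹ from
          fun A B y => by group, eS, show X * (xg hg k 1 * P) * X⁻¹ =
          (X * xg hg k 1 * X⁻¹) * (X * P * X⁻¹) by group, ha, hXP.eq, mul_inv_cancel_right,
          mul_assoc]
      have h4 := moved_mem g hS (map_one σ) hz e2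
      have h5 : xg hg m ((C' : F) * ((D : F) * d)) *
          xg hg (top T) ((D' : F) * ((D : F) * d) + a) ∈ H := by
        rw [← xg_add, ← mul_assoc]
        have hc2 : Commute (xg hg (top T) a) P :=
          (commute_top g (one_iff.1 hm1).2.1 (Or.inl (one_iff.1 hm1).1) _ _).mul_right
            (commute_self _ _ _ _)
        rwa [hc2.eq] at h4
      have h6 := coord_two g hS hm1 h5
      rw [map_mul, map_intCast] at h6
      exact cancel D hD (mul_left_cancel₀ (unit1_ne hC') h6)
  intro r hr1 hr2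
  by_cases hb : b r
  · have e : t0 r = t r := if_pos hb
    rcases hb with hb | rfl
    · rw [← e]; exact hb0 r hb
    · rw [← e]; exact hdd
  · have e : t1 r = t r := if_neg hb
    rw [← e]; exact h1 r hr1 hr2

/-- Elements of `H` in the parabolic subgroup are fixed. -/
theorem parab_rat {h : GL T.D.Idx F} (hh : h ∈ H) (hP : h ∈ T.D.parabolicSubgroup F (J0 T)) :
    h ∈ ratS T σ := by
  have hg := g.toGood
  obtain ⟨v, hv, l, hl, rfl⟩ := parab_split g hP
  have hout : ∀ k ∈ T.outJ (J0 T), k < T.n := fun k hk => hk.2.1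
  have hnorm := fun (y : GL T.D.Idx F) (hy : y ∈ T.D.parabolicSubgroup F (J0 T)) =>
    Subgroup.mem_normalizer_iff.1 (parabolic_normalizes g.toGoodK (J0 T) hy)
  have hlP : ∀ {y}, y ∈ lev0 hg F → y ∈ T.D.parabolicSubgroup F (J0 T) := fun hy => by
    rw [← levi_sup g.toGoodK]; exact Subgroup.mem_sup_right hy
  set sv := entryHom T σ v
  set sl := entryHom T σ l
  have hsl : sl ∈ lev0 hg F := entryHom_lev0 g σ hl
  -- `δ = (v l)⁻¹ σ (v l)` commutes with the `x_k(1)`
  have hδ : ∀ k ∈ T.outJ (J0 T),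
      (v * l) * xg hg k 1 * (v * l)⁻¹ = (sv * sl) * xg hg k 1 * (sv * sl)⁻¹ := by
    intro k hk
    have h1 := radical_fix g hS (mul_mem (mul_mem hh (hS.fix (xg_mem_fixElem hg k (map_one σ))))
      (inv_mem hh)) ((hnorm _ hP _).1 (xg_mem_genS hg hk 1))
    have h2 := fixElem_fixed hg σ h1
    rw [map_mul, map_mul, map_inv, entryHom_xg, map_one, map_mul] at h2
    exact h2.symm
  set l' := l⁻¹ * sl
  set v3 := l⁻¹ * (v⁻¹ * sv) * l
  have hl' : l' ∈ lev0 hg F := mul_mem (inv_mem hl) hsl
  have hv3 : v3 ∈ genS hg F (T.outJ (J0 T)) := by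
    have := (hnorm _ (inv_mem (hlP hl)) _).1 (mul_mem (inv_mem hv) (entryHom_genS hg σ hv))
    simpa [v3] using this
  have hl1 : l' = 1 := by
    refine lev0_centralizes g hl' fun k hk => ?_
    have e : (v3 * l') * xg hg k 1 * (v3 * l')⁻¹ = xg hg k 1 := by
      calc (v3 * l') * xg hg k 1 * (v3 * l')⁻¹
          = (v * l)⁻¹ * ((sv * sl) * xg hg k 1 * (sv * sl)⁻¹) * (v * l) := by
            simp only [v3, l']; group
        _ = _ := by rw [← hδ k hk]; group
    obtain ⟨a, ha⟩ := out_commutator g (inv_mem hv3) hk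
    have e2 : l' * xg hg k 1 * l'⁻¹ = xg hg k 1 * xg hg (top T) a := by
      rw [← ha]
      calc l' * xg hg k 1 * l'⁻¹ = v3⁻¹ * ((v3 * l') * xg hg k 1 * (v3 * l')⁻¹) * v3⁻¹⁻¹ := by group
        _ = _ := by rw [e]
    have ha0 : a = 0 := by
      rcases (mem_out_iff g).1 hk with hk1 | hk1
      · exact lev0_top g hl' hk1 e2
      · subst hk1
        have hv3c : v3⁻¹ * xg hg (top T) 1 * v3⁻¹⁻¹ = xg hg (top T) (1 : F) := by
          rw [(pos_commute_top g (genS_mono hg outJ_pos (inv_mem hv3)) 1).symm.eq,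
            mul_inv_cancel_right]
        rw [hv3c] at ha
        have h1 : xg hg (top T) a = 1 := left_eq_mul.1 ha
        exact xg_injective hg (top_lt g) (h1.trans (xg_zero hg _).symm)
    rw [ha0, xg_zero, mul_one, mul_inv_eq_iff_eq_mul] at e2
    exact e2
  have hlfix : sl = l := (inv_mul_eq_one.1 hl1).symm
  -- reduce to a torus element times the radical
  have hPG : T.D.parabolicSubgroup F (J0 T) ≤ T.D.group F := by
    rw [← normalizer_radical g.toGoodK (J0 T)]; exact inf_le_right
  obtain ⟨u, huU, huF, c, hc, r, hr, e⟩ := fixed_decomp' g (hPG (hlP hl)) hlfix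
  have huP : u ∈ T.D.parabolicSubgroup F (J0 T) :=
    Subgroup.mem_sup_left (Subgroup.mem_sup_left (by rw [posUnipotent_eq hg]; exact huU))
  have h' : (u⁻¹ * v * u) * tor T F c ∈ H := by
    have := mul_mem (mul_mem (inv_mem (hS.fix huF)) hh) (inv_mem (hS.fix hr))
    rwa [e, show u⁻¹ * (v * (u * tor T F c * r)) * r⁻¹ = u⁻¹ * v * u * tor T F c by group] at this
  obtain ⟨t, et, ht⟩ := exists_supp g (u := u⁻¹ * v * u) (by
    have := (hnorm _ (inv_mem huP) v).1 hv
    simpa using this)
  rw [et] at h'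
  have hvf : u⁻¹ * v * u ∈ fixElem hg σ := by
    rw [et]
    refine Subgroup.list_prod_mem _ fun y hy => ?_
    obtain ⟨k, hk, rfl⟩ := List.mem_map.1 hy
    rw [List.mem_range'_1] at hk
    exact xg_mem_fixElem hg k (torus_part g hS ht hc h' k hk.1 (by omega))
  have hv' : v ∈ fixElem hg σ := by
    have := mul_mem (mul_mem huF hvf) (inv_mem huF)
    simpa [mul_assoc] using this
  exact mul_mem (fixElem_le_ratS hg σ hv') hlfix

end

end Cfsg.Agent.SFMax
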