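import Cfsg.Agent.Lib.SubfieldMax.Basic

/-!
# The radical of the parabolic subgroup of the highest root meets `H` in fixed elements
-/

set_option autoImplicit false

namespace Cfsg.Agent.SFMax

open Cfsg.Lie Cfsg.Agent.Chev Cfsg.Agent.Chev.Tab Cfsg.Agent.ChevAut

variable {T : Tab} {K : List (List ℕ)} {W : List (ℕ × ℕ × ℕ)} {S : List ℕ} {F : Type*} [Field F]

theorem prod_conj {G α : Type*} [Group G] (f : α → G) {L₁ L₂ : List α} {k : α} {y z : G}
    (h2 : ∀ j ∈ L₂, Commute (f j) y) (h1 : ∀ j ∈ L₁, Commute (f j) y ∧ Commute (f j) z)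
    (h : f k * y * (f k)⁻¹ = y * z) :
    ((L₁ ++ k :: L₂).map f).prod * y * (((L₁ ++ k :: L₂).map f).prod)⁻¹ = y * z := by
  have e2 : (L₂.map f).prod * y * ((L₂.map f).prod)⁻¹ = y := by
    rw [mul_inv_eq_iff_eq_mul]
    refine Commute.list_prod_left _ _ fun x hx => ?_
    obtain ⟨j, hj, rfl⟩ := List.mem_map.1 hx
    exact h2 j hj
  have e1 : (L₁.map f).prod * (y * z) * ((L₁.map f).prod)⁻¹ = y * z := by
    rw [mul_inv_eq_iff_eq_mul]
    refine Commute.list_prod_left _ _ fun x hx => ?_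
    obtain ⟨j, hj, rfl⟩ := List.mem_map.1 hx
    exact (h1 j hj).1.mul_right (h1 j hj).2
  rw [List.map_append, List.map_cons, List.prod_append, List.prod_cons]
  calc _ = (L₁.map f).prod * (f k * ((L₂.map f).prod * y * ((L₂.map f).prod)⁻¹) * (f k)⁻¹) *
        ((L₁.map f).prod)⁻¹ := by group
    _ = _ := by rw [e2, h, e1]

theorem prod_split {G α : Type*} [Group G] {f a b : α → G} : ∀ {L : List α},
    (∀ r ∈ L, f r = a r * b r) → (∀ r ∈ L, ∀ s ∈ L, Commute (b r) (a s)) →
    (L.map f).prod = (L.map a).prod * (L.map b).prod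
  | [], _, _ => by simp
  | r :: L, he, hc => by
    have hc' : Commute (b r) (L.map a).prod := by
      refine Commute.list_prod_right _ _ fun x hx => ?_
      obtain ⟨s, hs, rfl⟩ := List.mem_map.1 hx
      exact hc r List.mem_cons_self s (List.mem_cons_of_mem _ hs)
    simp only [List.map_cons, List.prod_cons]
    rw [he r List.mem_cons_self, prod_split (fun s hs => he s (List.mem_cons_of_mem _ hs))
      (fun s hs u hu => hc s (List.mem_cons_of_mem _ hs) u (List.mem_cons_of_mem _ hu))]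
    simp only [mul_assoc]
    rw [← mul_assoc (b r), hc'.eq, mul_assoc]

/-- The conjugate of `y` by an ordered product moves only the coordinate `k`. -/
theorem ordProd_conj (g : T.Good) {t : ℕ → F} {k : ℕ} (hk : T.N ≤ k) (hk' : k < T.n)
    {y z : GL T.D.Idx F}
    (hy : ∀ j, T.N ≤ j → j < T.n → j ≠ k → t j ≠ 0 →
      Commute (xg g j (t j)) y ∧ Commute (xg g j (t j)) z)
    (h : xg g k (t k) * y * (xg g k (t k))⁻¹ = y * z) :
    ordProd g T.N t * y * (ordProd g T.N t)⁻¹ = y * z := by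
  obtain ⟨L₁, L₂, e⟩ := List.mem_iff_append.1
    (List.mem_range'_1.2 ⟨hk, (by omega : k < T.N + (T.n - T.N))⟩)
  have hnd := List.nodup_range' (s := T.N) (n := T.n - T.N)
  rw [e, List.nodup_middle, List.nodup_cons, List.mem_append] at hnd
  have key : ∀ j ∈ L₁ ++ L₂, Commute (xg g j (t j)) y ∧ Commute (xg g j (t j)) z := by
    intro j hj
    have hj' : j ∈ List.range' T.N (T.n - T.N) := by
      rw [e]; rcases List.mem_append.1 hj with h | h <;> simp [h]
    rw [List.mem_range'_1] at hj'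
    have hjk : j ≠ k := fun e' => hnd.1 (by subst e'; exact List.mem_append.1 hj)
    by_cases h0 : t j = 0
    · rw [h0, xg_zero]; exact ⟨Commute.one_left _, Commute.one_left _⟩
    · exact hy j hj'.1 (by omega) hjk h0
  rw [ordProd, e]
  exact prod_conj (fun r => xg g r (t r)) (fun j hj => (key j (List.mem_append_right _ hj)).1)
    (fun j hj => key j (List.mem_append_left _ hj)) h

/-- `k` and `m` are partners of grade one. -/
def Prt (T : Tab) (k m : ℕ) : Prop :=
  one T k = true ∧ one T m = true ∧ trm T k m (fun L => !L.isEmpty) = true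

variable (F) in
/-- the coupling of `k` vanishes in `F` -/
def Bad (T : Tab) (k : ℕ) : Prop :=
  ((2 : F) = 0 ∧ isBad T 2 k = true) ∨ ((3 : F) = 0 ∧ isBad T 3 k = true)

section
variable (g : SD T K W S)
include g

theorem partner {k : ℕ} (hk : one T k = true) :
    ∃ m C, one T m = true ∧ trm T k m (fun _ => true) = true ∧ T.cTerms k m = [(top T, C, 1, 1)] ∧
      ((C : F) = 0 → Bad F T k) ∧
      ∀ j, one T j = true → j ≠ k → j ≠ m →
        trm T j m List.isEmpty = true ∧ trm T k j List.isEmpty = true := by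
  have h := allBelow_eq_true.1 g.oneOK k (one_iff.1 hk).2.1
  simp only [hk, Bool.not_true, Bool.false_or, anyBelow_eq_true, Bool.and_eq_true] at h
  obtain ⟨-, m, hm, ⟨hm1, h2⟩, h3⟩ := h
  obtain ⟨q1, q2, q3, q4, q5⟩ := trm_spec h2
  split at q5
  swap
  · exact Bool.noConfusion q5
  rename_i a C heq
  simp only [Bool.and_eq_true, Bool.or_eq_true, nat_beq] at q5
  obtain ⟨ha, hC⟩ := q5
  subst ha
  refine ⟨m, C, hm1, ?_, heq, fun hC0 => ?_, fun j hj n1 n2 => ?_⟩
  · simp [trm, nat_blt.2 q1, nat_blt.2 q2, nat_beq_false.2 q3, nat_beq_false.2 q4]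
  · have hbad : ∀ d : ℕ, C.natAbs = d → isBad T d k = true := by
      intro d hd
      have hdiv : (C % (d : ℤ) == 0) = true := by
        rw [beq_iff_eq]; exact Int.emod_eq_zero_of_dvd (by rw [← hd]; exact Int.natAbs_dvd.2 dvd_rfl)
      simp only [isBad, hk, Bool.true_and, anyBelow_eq_true, Bool.and_eq_true]
      refine ⟨m, hm, hm1, ?_⟩
      simp [trm, nat_blt.2 q1, nat_blt.2 q2, nat_beq_false.2 q3, nat_beq_false.2 q4, heq, allDiv, hdiv]
    rcases hC with (hu | h2') | h3'
    · exact absurd hC0 (unit1_ne hu)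
    · refine Or.inl ⟨?_, hbad 2 h2'⟩
      rcases Int.natAbs_eq C with e | e <;> rw [e, h2'] at hC0 <;> simpa using hC0
    · refine Or.inr ⟨?_, hbad 3 h3'⟩
      rcases Int.natAbs_eq C with e | e <;> rw [e, h3'] at hC0 <;> simpa using hC0
  · have h4 := allBelow_eq_true.1 h3 j (one_iff.1 hj).2.1
    simpa [hj, nat_beq_false.2 n1, nat_beq_false.2 n2] using h4

theorem Prt.eq {k m m' : ℕ} (h : Prt T k m) (h' : Prt T k m') : m = m' := by
  obtain ⟨m₀, C, -, -, -, -, h0⟩ := partner g (F := ℚ) h.1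
  have key : ∀ {x}, Prt T k x → x = m₀ := by
    intro x hx
    by_contra hne
    obtain ⟨-, -, q3, -, q5⟩ := trm_spec hx.2.2
    have h1 := (trm_spec (h0 x hx.2.1 q3 hne).2).2.2.2.2
    simp [h1] at q5
  rw [key h, key h']

omit g in
theorem isBad_one {d k : ℕ} (h : isBad T d k = true) : one T k = true := by
  simp only [isBad, Bool.and_eq_true] at h; exact h.1

omit g in
theorem Bad.one {k : ℕ} (h : Bad F T k) : one T k = true := by
  rcases h with ⟨-, h⟩ | ⟨-, h⟩ <;> exact isBad_one h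

/-- the element of a radical root commutes with the others when the coupling vanishes -/
theorem Bad.commute {k : ℕ} (hk : Bad F T k) {j : ℕ} (hj : j ∈ T.outJ (J0 T)) (t u : F) :
    Commute (xg g.toGood k t) (xg g.toGood j u) := by
  rcases (mem_out_iff g).1 hj with hj | rfl
  swap
  · exact (commute_top g (one_iff.1 hk.one).2.1 (Or.inl (one_iff.1 hk.one).1) u t).symm
  by_cases hjk : j = k
  · subst hjk; exact commute_self _ _ _ _
  obtain ⟨m, C, -, -, heq, -, h0⟩ := partner g (F := F) hk.one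
  by_cases hjm : j = m
  swap
  · exact commute_nil g.toGoodA (h0 j hj hjk hjm).2 t u
  subst hjm
  have key : ∀ d : ℕ, (d : F) = 0 → isBad T d k = true →
      Commute (xg g.toGood k t) (xg g.toGood j u) := by
    intro d hd hb
    simp only [isBad, Bool.and_eq_true, anyBelow_eq_true] at hb
    obtain ⟨-, x, -, hx1, hx2⟩ := hb
    obtain ⟨a1, a2, a3, a4, a5⟩ := trm_spec hx2
    rw [Bool.and_eq_true] at a5
    have hxj : x = j := by
      by_contra hne
      have h1 := (trm_spec (h0 x hx1 a3 hne).2).2.2.2.2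
      simp [h1] at a5
    subst hxj
    exact commute_of_zero g.toGoodA a1 a2 a3 a4
      (fun c hc => cast_of_div hd (List.all_eq_true.1 a5.1 c hc)) t u
  rcases hk with ⟨h2, hb⟩ | ⟨h3, hb⟩
  · exact key 2 (by exact_mod_cast h2) hb
  · exact key 3 (by exact_mod_cast h3) hb

/-- supported on the roots of the radical -/
def Supp (T : Tab) (t : ℕ → F) : Prop :=
  ∀ r, T.N ≤ r → r < T.n → t r ≠ 0 → r ∈ T.outJ (J0 T)

omit g in
variable (F) in
/-- supported on the roots with vanishing coupling and the highest root -/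
def Supp0 (T : Tab) (t : ℕ → F) : Prop :=
  ∀ r, T.N ≤ r → r < T.n → t r ≠ 0 → Bad F T r ∨ r = top T

theorem exists_supp {u : GL T.D.Idx F} (hu : u ∈ genS g.toGood F (T.outJ (J0 T))) :
    ∃ t, u = ordProd g.toGood T.N t ∧ Supp T t := by
  have hcl : BTi.Cl T (T.outJ (J0 T)) :=
    ⟨outJ_pos, fun r hr s hs c hc => cTerms_outJ g.toGoodK hr.1 hr.2.1 hs hc⟩
  obtain ⟨t, ht, h0⟩ := BTi.exists_coords g.toGoodA hcl T.n T.N (by omega) u
    (by rwa [Set.inter_eq_left.2 outJ_pos])
  exact ⟨t, ht, fun r h1 h2 h3 => by_contra fun h4 => h3 (h0 r h1 h2 h4)⟩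

theorem ordProd_out {t : ℕ → F} (ht : Supp T t) :
    ordProd g.toGood T.N t ∈ genS g.toGood F (T.outJ (J0 T)) := by
  refine Subgroup.list_prod_mem _ fun y hy => ?_
  obtain ⟨r, hr, rfl⟩ := List.mem_map.1 hy
  rw [List.mem_range'_1] at hr
  by_cases h0 : t r = 0
  · rw [h0, xg_zero]; exact one_mem _
  · exact xg_mem_genS g.toGood (ht r hr.1 (by omega) h0) _

variable {σ : F →+* F} {H : Subgroup (GL T.D.Idx F)} (hS : Sett g.toGood σ H)
include hS

/-- The coordinates with non-vanishing coupling are fixed. -/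
theorem good_coord {t : ℕ → F} (ht : Supp T t) {k : ℕ} (hk : one T k = true) (hgood : ¬ Bad F T k)
    (h : ∀ m, one T m = true →
      ordProd g.toGood T.N t * xg g.toGood m 1 * (ordProd g.toGood T.N t)⁻¹ ∈ H) :
    σ (t k) = t k := by
  obtain ⟨m, C, hm, htr, heq, hC, h0⟩ := partner g (F := F) hk
  have hC0 : (C : F) ≠ 0 := fun e => hgood (hC e)
  obtain ⟨q1, q2, q3, q4, -⟩ := trm_spec htr
  have hconj := ordProd_conj g.toGood (t := t) (y := xg g.toGood m 1)
    (z := xg g.toGood (top T) ((C : F) * t k)) (one_iff.1 hk).1 (one_iff.1 hk).2.1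
    (fun j h1 h2 hjk hne => ⟨?_, (commute_top g h2 (Or.inl h1) _ _).symm⟩)
    (by rw [conj_terms g.toGoodA q1 q2 q3 q4, heq]; simp)
  swap
  · rcases (mem_out_iff g).1 (ht j h1 h2 hne) with hj | rfl
    · by_cases hjm : j = m
      · subst hjm; exact commute_self _ _ _ _
      · exact commute_nil g.toGoodA (h0 j hj hjk hjm).1 _ _
    · exact commute_top g q2 (Or.inl (one_iff.1 hm).1) _ _
  have h1 := h m hm
  rw [hconj] at h1
  have h2 := hS.top _ ((Subgroup.mul_mem_cancel_left _
    (hS.fix (xg_mem_fixElem g.toGood m (map_one σ)))).1 h1)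
  rw [map_mul, map_intCast] at h2
  exact mul_left_cancel₀ hC0 h2

omit hS

theorem cast_odd (h2 : (2 : F) = 0) {C : ℤ} (h : unit1 C = true) : (C : F) = 1 := by
  rw [unit1, nat_beq] at h
  rcases Int.natAbs_eq C with e | e <;> rw [e, h] <;> simp
  linear_combination -h2

theorem excl {k : ℕ} (h2 : (2 : F) = 0) (h : Bad F T k) : isBad T 2 k = true := by
  rcases h with ⟨-, h⟩ | ⟨h3, -⟩
  · exact h
  · exact absurd (show (1 : F) = 0 by linear_combination h3 - h2) one_ne_zero

/-- The rules of a quadrangle of roots in characteristic two. -/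
theorem bad2_data (h2 : (2 : F) = 0) {k : ℕ} (hk : Bad F T k) :
    ∃ m s, Bad F T m ∧ Prt T k m ∧ Prt T m k ∧ s < T.n ∧ grd T s = 0 ∧
      (∀ j, Bad F T j → j ≠ k → ∀ a b : F, Commute (xg g.toGood j a) (xg g.toGood s b)) ∧
      (∀ t w : F, xg g.toGood k t * xg g.toGood s w * (xg g.toGood k t)⁻¹ =
        xg g.toGood s w * (xg g.toGood m (t * w) * xg g.toGood (top T) (t ^ 2 * w))) ∧
      (∀ t w : F, xg g.toGood (top T) t * xg g.toGood (T.neg k) w * (xg g.toGood (top T) t)⁻¹ =
        xg g.toGood (T.neg k) w * (xg g.toGood m (t * w) * xg g.toGood s (t * w ^ 2))) ∧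
      (∀ t w : F, xg g.toGood s t * xg g.toGood k w * (xg g.toGood s t)⁻¹ =
        xg g.toGood k w * (xg g.toGood m (t * w) * xg g.toGood (top T) (t * w ^ 2))) ∧
      (∀ a b : F, Commute (xg g.toGood m a) (xg g.toGood (T.neg k) b)) ∧
      (∀ a b : F, Commute (xg g.toGood m a) (xg g.toGood s b)) ∧
      ∀ a b : F, Commute (xg g.toGood m a) (xg g.toGood k b) := by
  have hb := excl g h2 hk
  have h2' : ((2 : ℕ) : F) = 0 := by exact_mod_cast h2
  have h := allBelow_eq_true.1 g.bad2OK k (one_iff.1 hk.one).2.1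
  simp only [hb, Bool.not_true, Bool.false_or, anyBelow_eq_true, Bool.and_eq_true, allBelow_eq_true,
    beq_iff_eq] at h
  obtain ⟨m, -, ⟨⟨hm, hkm⟩, hmk⟩, s, hsn, ⟨⟨⟨⟨⟨⟨hs0, a1⟩, a2⟩, a3⟩, a4⟩, a5⟩, a6⟩, a7⟩ := h
  have hone := isBad_one hm
  refine ⟨m, s, Or.inl ⟨h2, hm⟩, ⟨hk.one, hone, hkm⟩, ⟨hone, hk.one, hmk⟩, hsn, hs0,
    fun j hj hjk a b => ?_, fun t w => ?_, fun t w => ?_, fun t w => ?_,
    commute_mod g.toGoodA h2' a4, commute_mod g.toGoodA h2' a5, commute_mod g.toGoodA h2' a6⟩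
  · have h7 := a7 j (one_iff.1 hj.one).2.1
    simp only [excl g h2 hj, Bool.not_true, Bool.false_or, Bool.or_eq_true, nat_beq] at h7
    exact commute_mod g.toGoodA h2' (h7.resolve_left hjk) a b
  · obtain ⟨q1, q2, q3, q4, q5⟩ := trm_spec a1
    obtain ⟨C, D, e, hC, hD⟩ := doubleFst_spec q5
    rw [conj_terms g.toGoodA q1 q2 q3 q4, e]
    simp [cast_odd g h2 hC, cast_odd g h2 hD]
  · obtain ⟨q1, q2, q3, q4, q5⟩ := trm_spec a2
    obtain ⟨C, D, e, hC, hD⟩ := doubleSnd_spec q5
    rw [conj_terms g.toGoodA q1 q2 q3 q4, e]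
    simp [cast_odd g h2 hC, cast_odd g h2 hD]
  · obtain ⟨q1, q2, q3, q4, q5⟩ := trm_spec a3
    obtain ⟨C, D, e, hC, hD⟩ := doubleSnd_spec q5
    rw [conj_terms g.toGoodA q1 q2 q3 q4, e]
    simp [cast_odd g h2 hC, cast_odd g h2 hD]

theorem excl3 {k : ℕ} (h2 : (2 : F) ≠ 0) (h : Bad F T k) : isBad T 3 k = true := by
  rcases h with ⟨h, -⟩ | ⟨-, h⟩
  · exact absurd h h2
  · exact h

theorem cast_ne3 (h3 : (3 : F) = 0) {C : ℤ} (h : (!(C % 3 == 0)) = true) : (C : F) ≠ 0 := by
  simp only [Bool.not_eq_true', beq_eq_false_iff_ne] at h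
  intro e
  have h1 : ((C % 3 : ℤ) : F) = 0 := by
    rw [Int.emod_def]
    push_cast
    rw [h3, zero_mul, sub_zero, e]
  have h2 : C % 3 = 1 ∨ C % 3 = 2 := by omega
  rcases h2 with h2 | h2 <;> rw [h2] at h1 <;> push_cast at h1
  · exact one_ne_zero h1
  · exact one_ne_zero (show (1 : F) = 0 by linear_combination h3 - h1)

/-- A root of grade zero moves a coordinate with vanishing coupling. -/
theorem bad_move {k : ℕ} (hk : Bad F T k) :
    ∃ m s, ∃ C D : F, Bad F T m ∧ s < T.n ∧ C ≠ 0 ∧ grd T s = 0 ∧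
      (∀ τ : F →+* F, τ C = C) ∧ ((2 : F) ≠ 0 → D = 0) ∧
      ∀ t : ℕ → F, Supp0 F T t → ∀ w : F,
        ordProd g.toGood T.N t * xg g.toGood s w * (ordProd g.toGood T.N t)⁻¹ =
          xg g.toGood s w *
            (xg g.toGood m (C * t k * w) * xg g.toGood (top T) (D * t k ^ 2 * w)) := by
  obtain ⟨m, s, C, D, hm, hsn, hC, hs0, hτ, hD0, hcomm, hmove⟩ : ∃ m s, ∃ C D : F, Bad F T m ∧
      s < T.n ∧ C ≠ 0 ∧ grd T s = 0 ∧ (∀ τ : F →+* F, τ C = C) ∧ ((2 : F) ≠ 0 → D = 0) ∧
      (∀ j, Bad F T j → j ≠ k → ∀ a b : F, Commute (xg g.toGood j a) (xg g.toGood s b)) ∧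
      ∀ a w : F, xg g.toGood k a * xg g.toGood s w * (xg g.toGood k a)⁻¹ =
          xg g.toGood s w *
            (xg g.toGood m (C * a * w) * xg g.toGood (top T) (D * a ^ 2 * w)) := by
    by_cases h2 : (2 : F) = 0
    · obtain ⟨m, s, hm, -, -, hsn, hs0, hc, hmv, -⟩ := bad2_data g h2 hk
      exact ⟨m, s, 1, 1, hm, hsn, one_ne_zero, hs0, fun τ => map_one τ, fun h => absurd h2 h, hc,
        fun a w => by rw [hmv]; simp⟩
    have hb := excl3 g h2 hk
    have h3 : (3 : F) = 0 := by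
      rcases hk with ⟨h, -⟩ | ⟨h, -⟩
      · exact absurd h h2
      · exact h
    have h3' : ((3 : ℕ) : F) = 0 := by exact_mod_cast h3
    have h := allBelow_eq_true.1 g.bad3OK k (one_iff.1 hk.one).2.1
    simp only [hb, Bool.not_true, Bool.false_or, anyBelow_eq_true, Bool.and_eq_true,
      allBelow_eq_true, beq_iff_eq] at h
    obtain ⟨⟨m, -, hm, s, hsn, ⟨hs0, a1⟩, a2⟩, -⟩ := h
    obtain ⟨q1, q2, q3, q4, q5⟩ := trm_spec a1
    split at q5
    swap
    · exact Bool.noConfusion q5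
    rename_i a C rest heq
    simp only [Bool.and_eq_true, nat_beq] at q5
    obtain ⟨⟨rfl, hC⟩, hrest⟩ := q5
    refine ⟨_, s, (C : F), 0, Or.inr ⟨h3, hm⟩, hsn, cast_ne3 g h3 hC, hs0,
      fun τ => map_intCast τ C, fun _ => rfl, fun j hj hjk x y => ?_, fun x w => ?_⟩
    · have h7 := a2 j (one_iff.1 hj.one).2.1
      simp only [excl3 g h2 hj, Bool.not_true, Bool.false_or, Bool.or_eq_true, nat_beq] at h7
      exact commute_mod g.toGoodA h3' (h7.resolve_left hjk) x y
    · rw [conj_terms g.toGoodA q1 q2 q3 q4, heq, List.map_cons, List.prod_cons,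
        List.prod_eq_one (fun y hy => by
          obtain ⟨c, hc, rfl⟩ := List.mem_map.1 hy
          rw [cast_of_div h3' (List.all_eq_true.1 hrest c hc)]; simp)]
      simp
  refine ⟨m, s, C, D, hm, hsn, hC, hs0, hτ, hD0, fun t ht w =>
    ordProd_conj g.toGood (one_iff.1 hk.one).1 (one_iff.1 hk.one).2.1
      (fun j h1 h2 hjk hne => ⟨?_, ?_⟩) (hmove _ _)⟩
  · rcases ht j h1 h2 hne with hj | rfl
    · exact hcomm j hj hjk _ _
    · exact commute_top g hsn (Or.inr hs0) _ _
  · rcases ht j h1 h2 hne with hj | rfl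
    · exact ((hj.commute g ((mem_out_iff g).2 (Or.inl hm.one)) _ _).mul_right
        (hj.commute g ((mem_out_iff g).2 (Or.inr rfl)) _ _))
    · exact (commute_top g (one_iff.1 hm.one).2.1 (Or.inl (one_iff.1 hm.one).1) _ _).mul_right
        (commute_self _ _ _ _)

include hS

theorem moved_mem {s : ℕ} {w : F} (hw : σ w = w) {x z : GL T.D.Idx F} (hx : x ∈ H)
    (e : x * xg g.toGood s w * x⁻¹ = xg g.toGood s w * z) : z ∈ H := by
  have := mul_mem (mul_mem hx (hS.fix (xg_mem_fixElem g.toGood s hw))) (inv_mem hx)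
  rw [e] at this
  exact (Subgroup.mul_mem_cancel_left _ (hS.fix (xg_mem_fixElem g.toGood s hw))).1 this

/-- `x_m(t) x_R(t²) ∈ H` gives the same for `t + t²` without the second factor. -/
theorem quad_step (h2 : (2 : F) = 0) {k m : ℕ} (hk : Bad F T k) (hkm : Prt T k m) {t : F}
    (hZ : xg g.toGood m t * xg g.toGood (top T) (t ^ 2) ∈ H) :
    xg g.toGood m (t + t ^ 2) ∈ H ∧
      ∃ s < T.n, (xg g.toGood m (t ^ 2) * xg g.toGood s (t ^ 2) ∈ H) ∧
        (xg g.toGood m (t ^ 2) * xg g.toGood (top T) (t ^ 2) ∈ H) ∧ grd T s = 0 ∧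
        (∀ a b : F, Commute (xg g.toGood m a) (xg g.toGood s b)) ∧
        (∀ a b : F, Commute (xg g.toGood m a) (xg g.toGood k b)) ∧
        ∀ a w : F, xg g.toGood s a * xg g.toGood k w * (xg g.toGood s a)⁻¹ =
          xg g.toGood k w * (xg g.toGood m (a * w) * xg g.toGood (top T) (a * w ^ 2)) := by
  obtain ⟨m', s, hm, hkm', -, hsn, hs0, -, -, r2, r3, c1, c2, c3⟩ := bad2_data g h2 hk
  obtain rfl := hkm.eq g hkm'
  have e1 : (xg g.toGood m t * xg g.toGood (top T) (t ^ 2)) * xg g.toGood (T.neg k) 1 *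
      (xg g.toGood m t * xg g.toGood (top T) (t ^ 2))⁻¹ =
      xg g.toGood (T.neg k) 1 * (xg g.toGood m (t ^ 2) * xg g.toGood s (t ^ 2)) := by
    rw [show ∀ a b x : GL T.D.Idx F, a * b * x * (a * b)⁻¹ = a * (b * x * b⁻¹) * a⁻¹ from
      fun a b x => by group, r2, one_pow, mul_one, mul_inv_eq_iff_eq_mul]
    exact ((c1 _ _).mul_right ((commute_self _ _ _ _).mul_right (c2 _ _))).eq
  have h3 := moved_mem g hS (map_one σ) hZ e1
  have e2 : (xg g.toGood m (t ^ 2) * xg g.toGood s (t ^ 2)) * xg g.toGood k 1 *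
      (xg g.toGood m (t ^ 2) * xg g.toGood s (t ^ 2))⁻¹ =
      xg g.toGood k 1 * (xg g.toGood m (t ^ 2) * xg g.toGood (top T) (t ^ 2)) := by
    rw [show ∀ a b x : GL T.D.Idx F, a * b * x * (a * b)⁻¹ = a * (b * x * b⁻¹) * a⁻¹ from
      fun a b x => by group, r3, one_pow, mul_one, mul_inv_eq_iff_eq_mul]
    exact ((c3 _ _).mul_right ((commute_self _ _ _ _).mul_right
      (commute_top g (one_iff.1 hm.one).2.1 (Or.inl (one_iff.1 hm.one).1) _ _).symm)).eq
  have h4 := moved_mem g hS (map_one σ) h3 e2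
  refine ⟨?_, s, hsn, h3, h4, hs0, c2, c3, r3⟩
  have := mul_mem hZ h4
  rw [show ∀ a b c d : GL T.D.Idx F, a * b * (c * d) = a * (b * c) * d from fun a b c d => by group,
    (commute_top g (one_iff.1 hm.one).2.1 (Or.inl (one_iff.1 hm.one).1) (t ^ 2) (t ^ 2)).eq,
    show ∀ a b c d : GL T.D.Idx F, a * (b * c) * d = a * b * (c * d) from fun a b c d => by group,
    xg_add, xg_add, show t ^ 2 + t ^ 2 = 0 by linear_combination (t ^ 2) * h2, xg_zero,
    mul_one] at this
  exact this

/-- the coordinate with vanishing coupling, characteristic two -/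
theorem bad2_coord (h2 : (2 : F) = 0) {k : ℕ} (hk : Bad F T k) {t : ℕ → F} (ht : Supp0 F T t)
    (hu : ordProd g.toGood T.N t ∈ H) : σ (t k) = t k := by
  obtain ⟨m, s, hm, hkm, hmk, hsn, hs0, hcs, r1, -, -, -, -, cmk⟩ := bad2_data g h2 hk
  obtain ⟨k', s', hk'b, hmk', -, hsn', hs0', hcs', r1', -, -, -, -, -⟩ := bad2_data g h2 hm
  obtain rfl := hmk'.eq g hmk
  have hmk0 : m ≠ k' := (trm_spec hkm.2.2).2.2.1
  set u := t k' with hu'
  have hZm : xg g.toGood m u * xg g.toGood (top T) (u ^ 2) ∈ H := by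
    refine moved_mem g hS (map_one σ) hu (s := s) ?_
    refine ordProd_conj g.toGood (one_iff.1 hk.one).1 (one_iff.1 hk.one).2.1
      (fun j h1 h2' hjk hne => ⟨?_, ?_⟩) (by rw [r1, mul_one, mul_one])
    · rcases ht j h1 h2' hne with hj | rfl
      · exact hcs j hj hjk _ _
      · exact commute_top g hsn (Or.inr hs0) _ _
    · rcases ht j h1 h2' hne with hj | rfl
      · exact (hj.commute g ((mem_out_iff g).2 (Or.inl hm.one)) _ _).mul_right
          (hj.commute g ((mem_out_iff g).2 (Or.inr rfl)) _ _)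
      · exact (commute_top g (one_iff.1 hm.one).2.1 (Or.inl (one_iff.1 hm.one).1) _ _).mul_right
          (commute_self _ _ _ _)
  -- from `m` back to `k`
  have back : ∀ a b : F, xg g.toGood m a * xg g.toGood (top T) b ∈ H →
      xg g.toGood k' a * xg g.toGood (top T) (a ^ 2) ∈ H := by
    intro a b hab
    refine moved_mem g hS (map_one σ) hab (s := s') ?_
    rw [show ∀ x y z : GL T.D.Idx F, x * y * z * (x * y)⁻¹ = x * (y * z * y⁻¹) * x⁻¹ from
      fun x y z => by group, (commute_top g hsn' (Or.inr hs0') b 1).eq, mul_inv_cancel_right, r1',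
      mul_one, mul_one]
  have hZk : xg g.toGood k' u * xg g.toGood (top T) (u ^ 2) ∈ H := back u _ hZm
  obtain ⟨hmw, s1, hs1n, h3, h4, hs10, c12, c13, r13⟩ := quad_step g hS h2 hk hkm hZm
  obtain ⟨hkw, -⟩ := quad_step g hS h2 hm hmk hZk
  set w := u + u ^ 2 with hw
  -- `w` is fixed
  have hw2 : xg g.toGood k' w * xg g.toGood (top T) (w ^ 2) ∈ H :=
    back w 0 (by rwa [xg_zero, mul_one])
  have hsq := hS.top _ ((Subgroup.mul_mem_cancel_left _ hkw).1 hw2)
  have hsw : σ w = w := by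
    rw [map_pow] at hsq
    have : (σ w - w) ^ 2 = 0 := by linear_combination hsq + (w ^ 2 - σ w * w) * h2
    exact sub_eq_zero.1 ((pow_eq_zero_iff two_ne_zero).1 this)
  by_cases hw0 : w = 0
  · have : u * (u + 1) = 0 := by linear_combination hw0
    rcases mul_eq_zero.1 this with e | e
    · rw [e, map_zero]
    · rw [eq_neg_of_add_eq_zero_left e, map_neg, map_one]
  have hRw : xg g.toGood (top T) w ∈ H := hS.fix (xg_mem_fixElem g.toGood _ hsw)
  have hQ : xg g.toGood k' u * xg g.toGood (top T) u ∈ H := by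
    have := mul_mem hZk hRw
    rwa [mul_assoc, xg_add, show u ^ 2 + w = u by linear_combination (u ^ 2) * h2] at this
  have hP : xg g.toGood m u * xg g.toGood s1 u ∈ H := by
    have := mul_mem h3 (mul_mem (hS.fix (xg_mem_fixElem g.toGood m hsw))
      (hS.fix (xg_mem_fixElem g.toGood s1 hsw)))
    rwa [show ∀ a b c d : GL T.D.Idx F, a * b * (c * d) = a * (b * c) * d from
      fun a b c d => by group, (c12 w (u ^ 2)).eq.symm,
      show ∀ a b c d : GL T.D.Idx F, a * (b * c) * d = a * b * (c * d) from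
      fun a b c d => by group, xg_add, xg_add,
      show u ^ 2 + w = u by linear_combination (u ^ 2) * h2] at this
  set A := xg g.toGood m u with hA
  set B := xg g.toGood s1 u with hB
  set Z := xg g.toGood m (u ^ 2) * xg g.toGood (top T) (u ^ 3) with hZ
  set Q := xg g.toGood k' u * xg g.toGood (top T) u with hQdef
  have hmtop : ∀ a b : F, Commute (xg g.toGood (top T) a) (xg g.toGood m b) := fun a b =>
    commute_top g (one_iff.1 hm.one).2.1 (Or.inl (one_iff.1 hm.one).1) a b
  have hc : Commute (xg g.toGood (top T) u) Z :=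
    (hmtop u (u ^ 2)).mul_right (commute_self g.toGood (top T) u (u ^ 3))
  have eB : B * Q * B⁻¹ = Q * Z := by
    rw [hQdef, show B * (xg g.toGood k' u * xg g.toGood (top T) u) * B⁻¹ =
      (B * xg g.toGood k' u * B⁻¹) * (B * xg g.toGood (top T) u * B⁻¹) by group, hB, r13,
      (commute_top g hs1n (Or.inr hs10) u u).symm.eq, mul_inv_cancel_right,
      show u * u = u ^ 2 by ring, show u * u ^ 2 = u ^ 3 by ring, ← hZ, mul_assoc, ← hc.eq,
      ← mul_assoc]
  have eA : Commute A (Q * Z) :=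
    ((c13 u u).mul_right (hmtop u u).symm).mul_right
      ((commute_self _ _ _ _).mul_right (hmtop _ _).symm)
  have hZH : Z ∈ H := by
    have := mul_mem (mul_mem hP hQ) (inv_mem hP)
    rw [show A * B * Q * (A * B)⁻¹ = A * (B * Q * B⁻¹) * A⁻¹ by group, eB, eA.eq,
      mul_inv_cancel_right] at this
    exact (Subgroup.mul_mem_cancel_left _ hQ).1 this
  have h5 : xg g.toGood (top T) (u ^ 3 + -u ^ 2) ∈ H := by
    have := mul_mem (inv_mem h4) hZH
    rw [hZ, show ∀ a b c : GL T.D.Idx F, (a * b)⁻¹ * (a * c) = b⁻¹ * c from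
      fun a b c => by group, xg_inv, xg_add] at this
    rwa [add_comm]
  have h6 := hS.top _ h5
  rw [show u ^ 3 + -u ^ 2 = u * w by linear_combination (-u ^ 2) * h2, map_mul, hsw] at h6
  exact mul_right_cancel₀ hw0 h6

/-- pure elements with vanishing coupling, characteristic three -/
theorem bad3_pure (h2 : (2 : F) ≠ 0) {k : ℕ} (hk : Bad F T k) {v : F}
    (hv : xg g.toGood k v ∈ H) : σ v = v := by
  have h3 : (3 : F) = 0 := by
    rcases hk with ⟨h, -⟩ | ⟨h, -⟩
    · exact absurd h h2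
    · exact h
  obtain ⟨hk1, hkn, -⟩ := one_iff.1 hk.one
  have h := allBelow_eq_true.1 g.bad3OK k hkn
  simp only [excl3 g h2 hk, Bool.not_true, Bool.false_or, anyBelow_eq_true, Bool.and_eq_true] at h
  obtain ⟨-, i, hi, i', hi', b, hb, hab⟩ := h
  obtain ⟨q1, q2, q3, q4, q5⟩ := trm_spec hab
  simp only [Bool.and_eq_true, anyBelow_eq_true, allBelow_eq_true, List.all_eq_true] at q5
  obtain ⟨hall, gg, -, hg1, hh, -, ⟨⟨hh1, hgh⟩, hoth⟩, hfil⟩ := q5
  split at hfil
  swap
  · exact Bool.noConfusion hfil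
  rename_i a' C' heq
  obtain ⟨r1, r2, r3, r4, r5⟩ := trm_spec hgh
  obtain ⟨E, eE, hE⟩ := single_spec r5
  -- move to `a`
  set a := T.ref i' (T.ref i k)
  have hu := g.toGood.ref_lt hi hkn
  obtain ⟨ε, hε⟩ : ∃ ε : F, ε = (T.eta i' (T.ref i k) : F) * (T.eta i k : F) := ⟨_, rfl⟩
  have hεε : ε * ε = 1 := by
    have e1 := eta_sq (F := F) T i k
    have e2 := eta_sq (F := F) T i' (T.ref i k)
    rw [hε]
    linear_combination ((T.eta i k : F) * T.eta i k) * e2 + e1
  have hn : ∀ j, nG g.toGood F j ∈ H := fun j => by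
    have := hS.fix (nWd_mem_fixElem g.toGood σ [j])
    rwa [nWd_cons, nWd_nil, mul_one] at this
  have ha : xg g.toGood a (ε * v) ∈ H := by
    have h1 := mul_mem (mul_mem (hn i) hv) (inv_mem (hn i))
    rw [nG_conj g.toGood hi hkn] at h1
    have h2' := mul_mem (mul_mem (hn i') h1) (inv_mem (hn i'))
    rw [nG_conj g.toGood hi' hu, ← mul_assoc, ← hε] at h2'
    exact h2'
  -- the part of the commutator outside the grade zero
  set L := T.cTerms a b with hL
  set f : ℕ × ℤ × ℕ × ℕ → GL T.D.Idx F :=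
    fun c => xg g.toGood c.1 ((c.2.1 : F) * (ε * v) ^ c.2.2.1 * 1 ^ c.2.2.2) with hf
  have hz : (L.map f).prod ∈ H :=
    moved_mem g hS (map_one σ) ha (conj_terms g.toGoodA q1 q2 q3 q4 (ε * v) 1)
  have hmem : (a', C', 3, 1) ∈ L.filter fun c => Nat.beq c.1 gg := by rw [heq]; simp
  rw [List.mem_filter, nat_beq] at hmem
  obtain ⟨hmemL, ha'⟩ := hmem
  dsimp only at ha'
  subst ha'
  obtain ⟨L₁, L₂, eL⟩ := List.mem_iff_append.1 hmemL
  have hne : ∀ c ∈ L₁ ++ L₂, c.1 ≠ a' := by
    intro c hc e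
    rw [eL, List.filter_append, List.filter_cons_of_pos (by simp)] at heq
    have h1 := congrArg List.length heq
    have h2' : 0 < ((L₁ ++ L₂).filter fun c => Nat.beq c.1 a').length :=
      List.length_pos_of_mem (List.mem_filter.2 ⟨hc, nat_beq.2 e⟩)
    simp only [List.filter_append, List.length_append, List.length_cons, List.length_nil] at h1 h2'
    omega
  have hcom : ∀ c ∈ L₁ ++ L₂, Commute (f c) (xg g.toGood hh 1) ∧
      ∀ x : F, Commute (f c) (xg g.toGood (top T) x) := by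
    intro c hc
    have hcL : c ∈ L := by
      rw [eL]; rcases List.mem_append.1 hc with h | h <;> simp [h]
    have h5 := hall c hcL
    simp only [Bool.or_eq_true, nat_beq] at h5
    rcases h5 with h5 | h5
    · refine ⟨?_, fun x => (commute_top g (one_iff.1 h5).2.1 (Or.inl (one_iff.1 h5).1) _ _).symm⟩
      by_cases hch : c.1 = hh
      · rw [hf]; dsimp only; rw [hch]; exact commute_self _ _ _ _
      have h6 := hoth c.1 (one_iff.1 h5).2.1
      simp only [h5, Bool.not_true, Bool.false_or, Bool.or_eq_true, nat_beq] at h6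
      exact commute_nil g.toGoodA (h6.resolve_left fun e => e.elim (hne c hc) hch) _ _
    · rw [hf]; dsimp only; rw [h5]
      exact ⟨commute_top g (one_iff.1 hh1).2.1 (Or.inl (one_iff.1 hh1).1) _ _,
        fun x => commute_self _ _ _ _⟩
  have key : (L.map f).prod * xg g.toGood hh 1 * ((L.map f).prod)⁻¹ =
      xg g.toGood hh 1 * xg g.toGood (top T) ((E : F) * ((C' : F) * (ε * v) ^ 3)) := by
    rw [eL]
    refine prod_conj f (fun j hj => (hcom j (List.mem_append_right _ hj)).1)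
      (fun j hj => ⟨(hcom j (List.mem_append_left _ hj)).1, (hcom j (List.mem_append_left _ hj)).2 _⟩) ?_
    show xg g.toGood a' ((C' : F) * (ε * v) ^ 3 * 1 ^ 1) * _ * _ = _
    rw [conj_terms g.toGoodA r1 r2 r3 r4, eE]
    simp
  have h4 := hS.top _ (moved_mem g hS (map_one σ) hz key)
  simp only [map_mul, map_pow, map_intCast] at h4
  have hσε : σ ε = ε := by simp [hε]
  rw [hσε, mul_pow, mul_pow] at h4
  have h5 : (σ v) ^ 3 = v ^ 3 := mul_left_cancel₀ (pow_ne_zero 3 (left_ne_zero_of_mul_eq_one hεε))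
    (mul_left_cancel₀ (cast_ne3 g h3 hfil) (mul_left_cancel₀ (unit1_ne hE) h4))
  have : (σ v - v) ^ 3 = 0 := by
    linear_combination h5 + (-(σ v) ^ 2 * v + σ v * v ^ 2) * h3
  exact sub_eq_zero.1 ((pow_eq_zero_iff three_ne_zero).1 this)

omit hS in
theorem Supp0.supp {t : ℕ → F} (ht : Supp0 F T t) : Supp T t := fun r h1 h2 h3 =>
  (mem_out_iff g).2 ((ht r h1 h2 h3).imp Bad.one id)

/-- The coordinates at roots with vanishing coupling are fixed. -/
theorem bad_coord {k : ℕ} (hk : Bad F T k) {t : ℕ → F} (ht : Supp0 F T t)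
    (hu : ordProd g.toGood T.N t ∈ H) : σ (t k) = t k := by
  by_cases h2 : (2 : F) = 0
  · exact bad2_coord g hS h2 hk ht hu
  obtain ⟨m, s, C, D, hm, hsn, hC, hs0, hτ, hD, hmv⟩ := bad_move g hk
  have hz := moved_mem g hS (map_one σ) hu (hmv t ht 1)
  rw [hD h2] at hz
  simp only [zero_mul, xg_zero, mul_one] at hz
  have h5 := bad3_pure g hS h2 hm hz
  rw [map_mul, hτ σ] at h5
  exact mul_left_cancel₀ hC h5

/-- The radical meets `H` in fixed elements. -/
theorem radical_coords {t : ℕ → F} (ht : Supp T t) (hu : ordProd g.toGood T.N t ∈ H) :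
    ∀ r, T.N ≤ r → r < T.n → σ (t r) = t r := by
  classical
  have hg := g.toGood
  have hconj : ∀ m, one T m = true →
      ordProd hg T.N t * xg hg m 1 * (ordProd hg T.N t)⁻¹ ∈ H := fun m _ =>
    mul_mem (mul_mem hu (hS.fix (xg_mem_fixElem hg m (map_one σ)))) (inv_mem hu)
  let b : ℕ → Prop := fun r => Bad F T r ∨ r = top T
  let t0 : ℕ → F := fun r => if b r then t r else 0
  let t1 : ℕ → F := fun r => if b r then 0 else t r
  have h1 : ∀ r, T.N ≤ r → r < T.n → σ (t1 r) = t1 r := by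
    intro r h1 h2
    simp only [t1]
    split_ifs with h
    · exact map_zero σ
    by_cases h0 : t r = 0
    · rw [h0, map_zero]
    rcases (mem_out_iff g).1 (ht r h1 h2 h0) with hr | hr
    · exact good_coord g hS ht hr (fun hb => h (Or.inl hb)) hconj
    · exact absurd (Or.inr hr) h
  have ht0 : Supp0 F T t0 := fun r _ _ h => by
    by_contra hb
    exact h (if_neg hb)
  have hsplit : ordProd hg T.N t = ordProd hg T.N t1 * ordProd hg T.N t0 := by
    refine prod_split (fun r _ => ?_) fun r hr u hu' => ?_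
    · simp only [t0, t1]; split_ifs <;> simp
    · rw [List.mem_range'_1] at hr hu'
      by_cases h0 : t u = 0
      · simp [t1, h0]
      simp only [t0]
      split_ifs with hb
      swap
      · rw [xg_zero]; exact Commute.one_left _
      rcases hb with hb | rfl
      · exact hb.commute g (ht u hu'.1 (by omega) h0) _ _
      · exact commute_top g (by omega) (Or.inl hu'.1) _ _
  have h1f : ordProd hg T.N t1 ∈ H := by
    refine Subgroup.list_prod_mem _ fun y hy => ?_
    obtain ⟨r, hr, rfl⟩ := List.mem_map.1 hy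
    rw [List.mem_range'_1] at hr
    exact hS.fix (xg_mem_fixElem hg r (h1 r hr.1 (by omega)))
  have h0H : ordProd hg T.N t0 ∈ H := (Subgroup.mul_mem_cancel_left _ h1f).1 (hsplit ▸ hu)
  -- the coordinates with vanishing coupling
  have hb0 : ∀ r, Bad F T r → σ (t0 r) = t0 r := fun r hr => bad_coord g hS hr ht0 h0H
  let t2 : ℕ → F := fun r => if r = top T then 0 else t0 r
  have hsplit2 : ordProd hg T.N t0 = ordProd hg T.N t2 * xg hg (top T) (t0 (top T)) := by
    obtain ⟨hN, hlt⟩ : T.N ≤ top T ∧ top T < T.n := ⟨top_ge g, top_lt g⟩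
    have e : T.n - T.N = (top T - T.N) + 1 := by
      have : top T = T.n - 1 := rfl
      omega
    rw [ordProd, ordProd, e, List.range'_1_concat, List.map_append, List.map_append,
      List.prod_append, List.prod_append, show T.N + (top T - T.N) = top T by omega]
    simp only [List.map_cons, List.map_nil, List.prod_cons, List.prod_nil, mul_one, t2, ↓reduceIte,
      xg_zero]
    congr 1
    refine congrArg List.prod (List.map_congr_left fun r hr => ?_)
    rw [List.mem_range'_1] at hr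
    simp [show r ≠ top T by omega]
  have h2f : ordProd hg T.N t2 ∈ H := by
    refine Subgroup.list_prod_mem _ fun y hy => ?_
    obtain ⟨r, hr, rfl⟩ := List.mem_map.1 hy
    rw [List.mem_range'_1] at hr
    refine hS.fix (xg_mem_fixElem hg r ?_)
    simp only [t2]
    split_ifs with h
    · exact map_zero σ
    by_cases h0 : t0 r = 0
    · rw [h0, map_zero]
    · exact hb0 r ((ht0 r hr.1 (by omega) h0).resolve_right h)
  have hR := hS.top _ ((Subgroup.mul_mem_cancel_left _ h2f).1 (hsplit2 ▸ h0H))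
  intro r hr1 hr2
  by_cases hb : b r
  · have e : t0 r = t r := if_pos hb
    rcases hb with hb | rfl
    · rw [← e]; exact hb0 r hb
    · rw [← e]; exact hR
  · have e : t1 r = t r := if_neg hb
    rw [← e]; exact h1 r hr1 hr2

theorem radical_fix {u : GL T.D.Idx F} (hu : u ∈ H)
    (hu' : u ∈ genS g.toGood F (T.outJ (J0 T))) : u ∈ fixElem g.toGood σ := by
  obtain ⟨t, rfl, ht⟩ := exists_supp g hu'
  refine Subgroup.list_prod_mem _ fun y hy => ?_
  obtain ⟨r, hr, rfl⟩ := List.mem_map.1 hy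
  rw [List.mem_range'_1] at hr
  exact xg_mem_fixElem g.toGood r (radical_coords g hS ht hu r hr.1 (by omega))

end

end Cfsg.Agent.SFMax
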