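import Cfsg.Agent.Lib.SubfieldMax.Lang

/-! Reading rows of root elements and of monomial elements. -/

set_option autoImplicit false

namespace Cfsg.Agent.SFMax

open Cfsg.Lie Cfsg.Agent.Chev Cfsg.Agent.Chev.Tab Cfsg.Agent.ChevAut
open Matrix hiding zpow_mul inv_zpow mul_inv_rev zpow_add zpow_neg

variable {T : Tab} {F : Type*} [Field F]

/-- the entry of a vector at a basis number -/
noncomputable def ev (e : T.D.Idx → F) (v : ℕ) : F := ∑ b, if T.code b = v then e b else 0

theorem ev_code (g : T.Good) (e : T.D.Idx → F) (b : T.D.Idx) : ev e (T.code b) = e b := by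
  classical
  rw [ev, Finset.sum_eq_single b]
  · simp
  · intro c _ hc
    rw [if_neg fun e' => hc (code_injective g e')]
  · simp

theorem ev_smul (a : F) (e : T.D.Idx → F) (v : ℕ) : ev (a • e) v = a * ev e v := by
  simp only [ev, Finset.mul_sum, Pi.smul_apply, smul_eq_mul, mul_ite, mul_zero]

theorem ev_bas (g : T.Good) {j : ℕ} (hj : j < T.l + T.n) (v : ℕ) :
    ev (bas T F j) v = if j = v then 1 else 0 := by
  obtain ⟨c, rfl⟩ := exists_code g hj
  rw [ev, Finset.sum_eq_single c]
  · simp [bas]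
  · intro b _ hb
    have : T.code b ≠ T.code c := fun e => hb (code_injective g e)
    simp only [bas, if_neg this, ite_self]
  · simp

theorem eq_sum_bas (g : T.Good) (e : T.D.Idx → F) :
    e = ∑ b, e b • bas T F (T.code b) := by
  funext a
  rw [Finset.sum_apply, Finset.sum_eq_single a]
  · simp [bas]
  · intro b _ hb
    have : T.code a ≠ T.code b := fun e => hb (code_injective g e).symm
    simp only [Pi.smul_apply, bas, if_neg this, smul_zero]
  · simp

/-- A row of a root element. -/
theorem x_row (g : T.Good) {r : ℕ} (hr : r < T.n) (t : F) (e : T.D.Idx → F) {v : ℕ}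
    (hv : v < T.l + T.n) :
    ev (T.D.x F r t *ᵥ e) v =
      ((rowOf T r v).map fun q => (q.2.1 : F) * t ^ q.2.2 * ev e q.1).sum := by
  classical
  obtain ⟨i, rfl⟩ := exists_code g hv
  rw [ev_code g, rowOf, List.map_flatMap, List.flatMap_def, List.sum_flatten, List.map_map]
  have hinner : ∀ w, (((T.xcol r w).filter fun q => Nat.beq q.1 (T.code i)).map fun q => (w, q.2)).map
      (fun q => ((q.2.1 : ℤ) : F) * t ^ q.2.2 * ev e q.1) =
      ((T.xcol r w).filter fun q => decide (T.code i = q.1)).map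
        (fun q => (q.2.1 : F) * t ^ q.2.2 * ev e w) := by
    intro w
    rw [List.map_map, show (fun q : ℕ × ℤ × ℕ => Nat.beq q.1 (T.code i)) =
      fun q => decide (T.code i = q.1) from funext fun q => by
        by_cases h : T.code i = q.1
        · rw [decide_eq_true h, nat_beq.2 h.symm]
        · rw [decide_eq_false h, nat_beq_false.2 (Ne.symm h)]]
    rfl
  simp only [Function.comp_def, hinner, sum_filter_map (p := fun q : ℕ × ℤ × ℕ => T.code i = q.1)]
  have hcol : ∀ w, ((T.xcol r w).map fun q =>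
      if T.code i = q.1 then (q.2.1 : F) * t ^ q.2.2 * ev e w else 0).sum =
      colVal T t (T.xcol r w) i * ev e w := by
    intro w
    rw [colVal_apply, ← List.sum_map_mul_right]
    exact congrArg List.sum (List.map_congr_left fun q _ => by split_ifs <;> simp)
  simp only [hcol]
  rw [← List.sum_toFinset _ List.nodup_range, List.toFinset_range,
    Matrix.mulVec, dotProduct]
  refine Finset.sum_bij (fun b _ => T.code b) (fun b _ => Finset.mem_range.2 ?_)
    (fun a _ b _ h => code_injective g h) (fun w hw => ?_) (fun b _ => ?_)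
  · rcases b with ⟨u, hu⟩ | ⟨u, hu⟩ <;> simp only [code]
    · have := g.rank_eq; omega
    · have := g.nroots_eq; omega
  · obtain ⟨b, hb⟩ := exists_code g (Finset.mem_range.1 hw)
    exact ⟨b, Finset.mem_univ _, hb⟩
  · rw [ev_code g, apply_eq_col g (T.D.x F r t) i b, x_mulVec_bas g hr]

/-- Root coordinates are permuted by `n_p`. -/
theorem nG_row (g : T.Good) {j s : ℕ} (hj : j < T.l) (hs : s < T.n) (e : T.D.Idx → F) :
    ev ((nG g F j : Matrix T.D.Idx T.D.Idx F) *ᵥ e) (T.l + T.ref j s) =
      (T.eta j s : F) * ev e (T.l + s) := by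
  classical
  have hl := g.rank_eq
  have hu := g.ref_lt hj hs
  obtain ⟨i, hi⟩ := exists_code g (show T.l + T.ref j s < T.l + T.n by omega)
  obtain ⟨k, hk⟩ := exists_code g (show T.l + s < T.l + T.n by omega)
  rw [← hi, ev_code g, ← hk, ev_code g, Matrix.mulVec, dotProduct, Finset.sum_eq_single k]
  · rw [apply_eq_col g (nG g F j : Matrix T.D.Idx T.D.Idx F) i k, hk, nG_col_root g hj hs]
    simp [bas, hi]
  · intro b _ hb
    rw [apply_eq_col g (nG g F j : Matrix T.D.Idx T.D.Idx F) i b]
    rcases b with ⟨v, hv⟩ | ⟨v, hv⟩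
    · rw [show T.code (Sum.inl ⟨v, hv⟩) = v from rfl, nG_col_h g hj (by omega)]
      simp [bas, hi, show T.l + T.ref j s ≠ v by omega, show T.l + T.ref j s ≠ j by omega]
    · rw [g.nroots_eq] at hv
      rw [show T.code (Sum.inr ⟨v, _⟩) = T.l + v from rfl, nG_col_root g hj hv]
      have hne : T.ref j s ≠ T.ref j v := fun h => hb (code_injective g (by
        rw [hk]; simp [code, g.ref_inj hj hs hv h]))
      simp [bas, hi, hne]
  · simp

theorem nWd_row (g : T.Good) : ∀ {L : List ℕ}, T.Wd L → ∀ {s : ℕ}, s < T.n →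
    ∃ u : Fˣ, ∀ e : T.D.Idx → F, ev ((nWd g F L : Matrix T.D.Idx T.D.Idx F) *ᵥ e) (T.l + T.rw' L s) =
      (u : F) * ev e (T.l + s)
  | [], _, s, _ => ⟨1, fun e => by simp⟩
  | i :: L, h, s, hs => by
    obtain ⟨hi, hL⟩ := Wd.cons_iff.1 h
    obtain ⟨u, ih⟩ := nWd_row g hL hs
    refine ⟨⟨_, _, eta_sq T i (T.rw' L s), eta_sq T i (T.rw' L s)⟩ * u, fun e => ?_⟩
    rw [nWd_cons, Units.val_mul, ← mulVec_mulVec, rw'_cons, nG_row g hi (rw'_lt g hL hs), ih,
      Units.val_mul, mul_assoc]

end Cfsg.Agent.SFMax
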